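import Cfsg.Agent.Lib.DegGraph.Small6000.Basic
import Mathlib.GroupTheory.SpecificGroups.Alternating.Simple
import Mathlib.GroupTheory.Perm.Cycle.Concrete

/-!
Five and seven are degree primes of the alternating group of degree seven.
-/

set_option autoImplicit false
set_option maxRecDepth 20000

namespace Cfsg.Agent.DegSix.A7

open Equiv

/-- A five-cycle. -/
def s5 : Perm (Fin 7) := c[0,1,2,3,4]
/-- A seven-cycle. -/
def s7 : Perm (Fin 7) := c[0,1,2,3,4,5,6]
/-- The transposition off the five-cycle. -/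
def s2 : Perm (Fin 7) := Equiv.swap 5 6

/-- The candidates commuting with the five-cycle. -/
def cand (a b c : Fin 7) : Fin 7 → Fin 7 :=
  ![a, s5 a, s5 (s5 a), s5 (s5 (s5 a)), s5 (s5 (s5 (s5 a))), b, c]

theorem chk : ∀ a b c : Fin 7, Function.Injective (cand a b c) →
    (∀ x, cand a b c (s5 x) = s5 (cand a b c x)) →
    (∃ i : Fin 5, ∀ x, cand a b c x = (s5 ^ (i:ℕ)) x) ∨
      (∃ i : Fin 5, ∀ x, cand a b c x = (s5 ^ (i:ℕ) * s2) x) := by decide +kernel

theorem cent5 (g : Perm (Fin 7)) (h : g * s5 = s5 * g) (hs : Perm.sign g = 1) :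
    ∃ i : Fin 5, g = s5 ^ (i : ℕ) := by
  have hc : ∀ x, g (s5 x) = s5 (g x) := fun x => congrArg (fun p : Perm (Fin 7) => p x) h
  have hg : ⇑g = cand (g 0) (g 5) (g 6) := by
    funext x
    have h1 : g 1 = s5 (g 0) := (hc 0)
    have h2 : g 2 = s5 (g 1) := (hc 1)
    have h3 : g 3 = s5 (g 2) := (hc 2)
    have h4 : g 4 = s5 (g 3) := (hc 3)
    fin_cases x <;> simp [cand, h1, h2, h3, h4]
  rcases chk (g 0) (g 5) (g 6) (hg ▸ g.injective) (hg ▸ hc) with ⟨i, hi⟩ | ⟨i, hi⟩
  · exact ⟨i, Equiv.ext fun x => (congrFun hg x).trans (hi x)⟩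
  · exfalso
    have e : g = s5 ^ (i : ℕ) * s2 := Equiv.ext fun x => (congrFun hg x).trans (hi x)
    rw [e, map_mul, map_pow, show Perm.sign s5 = 1 by decide +kernel, one_pow, one_mul,
      show Perm.sign s2 = -1 by decide +kernel] at hs
    exact absurd hs (by decide)

theorem cent7 (g : Perm (Fin 7)) (h : g * s7 = s7 * g) : ∃ i : Fin 7, g = s7 ^ (i : ℕ) := by
  have hc : ∀ x, g (s7 x) = s7 (g x) := fun x => congrArg (fun p : Perm (Fin 7) => p x) h
  have e : ∀ a : Fin 7, (s7 ^ (a : ℕ)) 0 = a ∧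
      ∀ x, (s7 ^ (a : ℕ)) (s7 x) = s7 ((s7 ^ (a : ℕ)) x) := by decide +kernel
  refine ⟨g 0, Equiv.ext fun x => ?_⟩
  have h0 := (e (g 0)).1
  have hp := (e (g 0)).2
  have step : ∀ y, g y = (s7 ^ ((g 0 : Fin 7) : ℕ)) y →
      g (s7 y) = (s7 ^ ((g 0 : Fin 7) : ℕ)) (s7 y) := fun y hy => by
    rw [hc, hp, hy]
  have t0 : g 0 = (s7 ^ ((g 0 : Fin 7) : ℕ)) 0 := h0.symm
  have t1 := step 0 t0
  have t2 := step _ t1
  have t3 := step _ t2
  have t4 := step _ t3
  have t5 := step _ t4
  have t6 := step _ t5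
  fin_cases x <;> assumption

/-- Eight even permutations with different numbers of fixed points. -/
def reps : Fin 8 → Perm (Fin 7) :=
  ![1, Equiv.swap 0 1 * Equiv.swap 2 3, c[0,1,2], c[0,1,2] * c[3,4,5], c[0,1,2,3] * Equiv.swap 4 5,
    s5, c[0,1,2] * Equiv.swap 3 4 * Equiv.swap 5 6, s7]

/-- The numbers of fixed points of a permutation and of its square. -/
def inv' (g : Perm (Fin 7)) : ℕ × ℕ :=
  ((Finset.univ.filter fun x => g x = x).card, (Finset.univ.filter fun x => g (g x) = x).card)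

theorem reps_spec : (∀ k, Perm.sign (reps k) = 1) ∧ ∀ j k, inv' (reps j) = inv' (reps k) → j = k := by
  decide +kernel

theorem inv'_conj (c g : Perm (Fin 7)) : inv' (c * g * c⁻¹) = inv' g := by
  simp only [inv', Prod.mk.injEq]
  refine ⟨?_, ?_⟩
  · refine Finset.card_bij' (fun x _ => c⁻¹ x) (fun x _ => c x) (fun x hx => ?_) (fun x hx => ?_)
      (fun x _ => c.apply_symm_apply x) (fun x _ => c.symm_apply_apply x)
    · obtain ⟨-, hx⟩ := Finset.mem_filter.1 hx
      exact Finset.mem_filter.2 ⟨Finset.mem_univ _, c.injective (hx.trans (c.apply_symm_apply x).symm)⟩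
    · obtain ⟨-, hx⟩ := Finset.mem_filter.1 hx
      exact Finset.mem_filter.2 ⟨Finset.mem_univ _, by simp [Perm.inv_def, hx]⟩
  · refine Finset.card_bij' (fun x _ => c⁻¹ x) (fun x _ => c x) (fun x hx => ?_) (fun x hx => ?_)
      (fun x _ => c.apply_symm_apply x) (fun x _ => c.symm_apply_apply x)
    · obtain ⟨-, hx⟩ := Finset.mem_filter.1 hx
      simp only [Perm.mul_apply, Perm.inv_def, Equiv.symm_apply_apply] at hx
      exact Finset.mem_filter.2 ⟨Finset.mem_univ _, c.injective (hx.trans (c.apply_symm_apply x).symm)⟩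
    · obtain ⟨-, hx⟩ := Finset.mem_filter.1 hx
      exact Finset.mem_filter.2 ⟨Finset.mem_univ _, by simp [Perm.inv_def, hx]⟩

theorem eight_le : 8 ≤ Nat.card (ConjClasses (alternatingGroup (Fin 7))) := by
  let f : Fin 8 → ConjClasses (alternatingGroup (Fin 7)) := fun k =>
    ConjClasses.mk ⟨reps k, Perm.mem_alternatingGroup.2 (reps_spec.1 k)⟩
  have hf : Function.Injective f := by
    intro j k h
    obtain ⟨c, hc⟩ := isConj_iff.1 (ConjClasses.mk_eq_mk_iff_isConj.1 h)
    refine reps_spec.2 j k ?_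
    have hc' : (c : Perm (Fin 7)) * reps j * (c : Perm (Fin 7))⁻¹ = reps k := congrArg Subtype.val hc
    rw [← hc', inv'_conj]
  have := Nat.card_le_card_of_injective f hf
  simpa using this

theorem mem_five_seven :
    5 ∈ Cfsg.degreePrimes (alternatingGroup (Fin 7)) ∧ 7 ∈ Cfsg.degreePrimes (alternatingGroup (Fin 7)) := by
  have small : ∀ (p : ℕ) (s : Perm (Fin 7)) (hs : Perm.sign s = 1), p.Prime → s ^ p = 1 → s ≠ 1 →
      p < 8 → (∀ g : Perm (Fin 7), g * s = s * g → Perm.sign g = 1 → ∃ i : Fin p, g = s ^ (i : ℕ)) →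
      p ∈ Cfsg.degreePrimes (alternatingGroup (Fin 7)) := by
    intro p s hs hp hsp hs1 hp8 hcent
    haveI := Fact.mk hp
    set x : alternatingGroup (Fin 7) := ⟨s, Perm.mem_alternatingGroup.2 hs⟩ with hx
    have hxo : orderOf x = p := orderOf_eq_prime (Subtype.ext hsp) fun h => hs1 (congrArg Subtype.val h)
    refine Basic.mem_degreePrimes_of_small hp hxo ?_
    refine lt_of_lt_of_le ?_ eight_le
    let f : Fin p → Subgroup.centralizer ({x} : Set (alternatingGroup (Fin 7))) := fun i =>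
      ⟨x ^ (i : ℕ), Subgroup.mem_centralizer_singleton_iff.2 (Commute.pow_self x i).eq⟩
    have hf : Function.Surjective f := by
      rintro ⟨⟨g, hg⟩, hgc⟩
      obtain ⟨i, hi⟩ := hcent g (congrArg Subtype.val (Subgroup.mem_centralizer_singleton_iff.1 hgc))
        (Perm.mem_alternatingGroup.1 hg)
      exact ⟨i, Subtype.ext (Subtype.ext hi.symm)⟩
    have := Nat.card_le_card_of_surjective f hf
    simp only [Nat.card_eq_fintype_card, Fintype.card_fin] at this ⊢
    omega
  refine ⟨small 5 s5 (by decide +kernel) (by norm_num) (by decide +kernel) (by decide +kernel)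
    (by norm_num) cent5, small 7 s7 (by decide +kernel) (by norm_num) (by decide +kernel)
    (by decide +kernel) (by norm_num) fun g hg _ => cent7 g hg⟩

end Cfsg.Agent.DegSix.A7
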