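import Cfsg.Agent.Lib.Char.ItoPSolvable
import Cfsg.Agent.Lib.Char.Galois
import Cfsg.Agent.Lib.Char.Complete
import Cfsg.Prelude.Def_DegreeGraph

/-!
Transfer of degree primes and of edges of the degree graph.
-/

set_option autoImplicit false
set_option linter.unusedSectionVars false
set_option linter.style.haveILetI false

namespace Cfsg.Agent.DegSix.Basic

open Cfsg.Agent.Char

universe u v

variable {G : Type u} [Group G] [Finite G] {H : Type v} [Group H] [Finite H]

theorem charDegrees_comp_subset (f : G →* H) (hf : Function.Surjective f) :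
    Cfsg.charDegrees H ⊆ Cfsg.charDegrees G := by
  rintro d ⟨χ, rfl⟩
  refine ⟨⟨fun x => (χ : H → ℂ) (f x), IsIrrCharacter.comp χ.2 f hf⟩, ?_⟩
  simp [Cfsg.charDegree]

theorem charDegrees_congr (e : G ≃* H) : Cfsg.charDegrees G = Cfsg.charDegrees H :=
  Set.Subset.antisymm (charDegrees_comp_subset e.symm.toMonoidHom e.symm.surjective)
    (charDegrees_comp_subset e.toMonoidHom e.surjective)

theorem degreePrimes_congr (e : G ≃* H) : Cfsg.degreePrimes G = Cfsg.degreePrimes H := by
  unfold Cfsg.degreePrimes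
  rw [charDegrees_congr e]

theorem degreeGraph_congr (e : G ≃* H) : Cfsg.degreeGraph G = Cfsg.degreeGraph H := by
  ext p q
  simp only [Cfsg.degreeGraph, charDegrees_congr e]

/-- The degrees below divide some degree above. -/
theorem exists_dvd_above (N : Subgroup G) [N.Normal] {d : ℕ} (hd : d ∈ Cfsg.charDegrees N) :
    ∃ e ∈ Cfsg.charDegrees G, d ∣ e := by
  haveI : Fintype G := Fintype.ofFinite G
  haveI : Fintype N := Fintype.ofFinite N
  obtain ⟨θ, rfl⟩ := hd
  obtain ⟨χ, hχ⟩ := Ito.exists_above N θ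
  exact ⟨_, ⟨χ, rfl⟩, Ito.dvd_of_over N χ θ hχ⟩

/-- An edge of a quotient of a normal subgroup is an edge. -/
theorem adj_of_section (N : Subgroup G) [N.Normal] (f : N →* H) (hf : Function.Surjective f)
    {p q : ℕ} (h : (Cfsg.degreeGraph H).Adj p q) : (Cfsg.degreeGraph G).Adj p q := by
  obtain ⟨hne, hp, hq, d, hd, hdvd⟩ := h
  obtain ⟨e, he, hde⟩ := exists_dvd_above N (charDegrees_comp_subset f hf hd)
  exact ⟨hne, hp, hq, e, he, hdvd.trans hde⟩

/-- Itô: no degree prime avoids the index of an abelian normal subgroup. -/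
theorem not_mem_degreePrimes (N : Subgroup G) [N.Normal] (hN : IsMulCommutative N) {p : ℕ}
    (hp : ¬ p ∣ N.index) : p ∉ Cfsg.degreePrimes G := by
  haveI : Fintype G := Fintype.ofFinite G
  rintro ⟨-, d, ⟨χ, rfl⟩, hd⟩
  exact hp (hd.trans (Ito.degree_dvd_index N hN χ))

/-- An element of prime order with a centraliser smaller than the number of classes forces a
degree divisible by that prime. -/
theorem mem_degreePrimes_of_small {p : ℕ} (hp : p.Prime) {x : G} (hx : orderOf x = p)
    (hc : Nat.card (Subgroup.centralizer ({x} : Set G)) < Nat.card (ConjClasses G)) :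
    p ∈ Cfsg.degreePrimes G := by
  classical
  haveI : Fintype G := Fintype.ofFinite G
  haveI := Fact.mk hp
  by_contra hno
  have hnd : ∀ χ : Cfsg.IrrCharacter G, ¬ p ∣ Cfsg.charDegree (χ : G → ℂ) := fun χ h =>
    hno ⟨hp, _, ⟨χ, rfl⟩, h⟩
  let s : Finset G := Finset.univ.filter fun y => orderOf y = p ∧ y ∈ Subgroup.zpowers x
  have hs : ∀ y ∈ s, ∀ k : ℕ, k.Coprime (Nat.card G) → y ^ k ∈ s := by
    intro y hy k hk
    simp only [s, Finset.mem_filter, Finset.mem_univ, true_and] at hy ⊢
    refine ⟨?_, pow_mem hy.2 k⟩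
    rw [(Nat.Coprime.coprime_dvd_right (orderOf_dvd_natCard y) hk).symm.orderOf_pow, hy.1]
  have hcent : ∀ y ∈ s, Subgroup.centralizer ({y} : Set G) = Subgroup.centralizer ({x} : Set G) := by
    intro y hy
    simp only [s, Finset.mem_filter, Finset.mem_univ, true_and] at hy
    have hz : Subgroup.zpowers y = Subgroup.zpowers x :=
      Subgroup.eq_of_le_of_card_ge (Subgroup.zpowers_le.2 hy.2)
        (by rw [Nat.card_zpowers, Nat.card_zpowers, hx, hy.1])
    have key : ∀ a b : G, a ∈ Subgroup.zpowers b → ∀ g : G, Commute g b → Commute g a := by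
      intro a b ha g hg
      obtain ⟨k, rfl⟩ := Subgroup.mem_zpowers_iff.1 ha
      exact hg.zpow_right k
    ext g
    rw [Subgroup.mem_centralizer_singleton_iff, Subgroup.mem_centralizer_singleton_iff]
    exact ⟨fun h => key x y (hz ▸ Subgroup.mem_zpowers x) g h, fun h => key y x hy.2 g h⟩
  have hxs : x ∈ s := by simp [s, hx]
  have hpos : (0 : ℝ) < (s.card : ℝ) := Nat.cast_pos.2 (Finset.card_pos.2 ⟨x, hxs⟩)
  have hlow : (Nat.card (Cfsg.IrrCharacter G) : ℝ) * s.card ≤
      ∑ χ : Cfsg.IrrCharacter G, ∑ y ∈ s, ‖(χ : G → ℂ) y‖ ^ 2 := by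
    calc (Nat.card (Cfsg.IrrCharacter G) : ℝ) * s.card
        = ∑ _χ : Cfsg.IrrCharacter G, (s.card : ℝ) := by
          rw [Finset.sum_const, Finset.card_univ, Nat.card_eq_fintype_card, nsmul_eq_mul]
      _ ≤ _ := by
          refine Finset.sum_le_sum fun χ _ => CharGalois.card_le_sum_normSq_char
            (IsIrrCharacter.isCharacter χ.2) s hs fun y hy => ?_
          simp only [s, Finset.mem_filter, Finset.mem_univ, true_and] at hy
          exact CharGalois.char_ne_zero_of_pPow (IsIrrCharacter.isCharacter χ.2) hp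
            ⟨1, by rw [pow_one, hy.1]⟩ (Cfsg.Agent.CharX.irr_deg χ) (hnd χ)
  have hcol : ∀ y ∈ s, ∑ χ : Cfsg.IrrCharacter G, ‖(χ : G → ℂ) y‖ ^ 2 =
      (Nat.card (Subgroup.centralizer ({x} : Set G)) : ℝ) := by
    intro y hy
    rw [← hcent y hy]
    have h : ((∑ χ : Cfsg.IrrCharacter G, ‖(χ : G → ℂ) y‖ ^ 2 : ℝ) : ℂ) =
        ((Nat.card (Subgroup.centralizer ({y} : Set G)) : ℝ) : ℂ) := by
      push_cast
      rw [← column_orth_of_isConj (IsConj.refl y)]
      exact Finset.sum_congr rfl fun χ _ => (Complex.mul_conj' _).symm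
    exact Complex.ofReal_inj.1 h
  rw [Finset.sum_comm, Finset.sum_congr rfl hcol, Finset.sum_const, nsmul_eq_mul] at hlow
  rw [mul_comm ((s.card : ℕ) : ℝ)] at hlow
  have := le_of_mul_le_mul_right hlow hpos
  rw [card_irrCharacter] at this
  have : Nat.card (ConjClasses G) ≤ Nat.card (Subgroup.centralizer ({x} : Set G)) := by exact_mod_cast this
  omega

end Cfsg.Agent.DegSix.Basic
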