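import Cfsg.Agent.Lib.DefOne.Order7920
import Cfsg.Agent.Lib.Recog.PSL2Degrees
import Cfsg.Agent.Lib.Char.GaloisRat
import Cfsg.Agent.Lib.Char.Galois
import Cfsg.Prelude.Def_DegreeGraph

/-!
The characters in the principal block at thirteen of a simple group of order `5616`.
-/

set_option autoImplicit false
set_option linter.unusedSectionVars false
set_option linter.style.haveILetI false

namespace Cfsg.Agent.DegSix.Char5616

open Cfsg Cfsg.Agent.Char Cfsg.Agent.Blocks Cfsg.Agent.CCSylow Cfsg.Agent.DefOne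

open scoped ComplexConjugate Pointwise

universe u

variable {G : Type u} [Group G] [Fintype G] [IsSimpleGroup G] (hG : Nat.card G = 5616)

include hG

theorem not_prime : ¬ (Nat.card G).Prime := by rw [hG]; norm_num

theorem deg_sq_le (s : Finset (IrrCharacter G)) :
    ∑ χ ∈ s, charDegree (χ : G → ℂ) ^ 2 ≤ 5616 := by
  rw [← hG, ← Cfsg.Agent.CharX.sum_deg_sq]
  exact Finset.sum_le_sum_of_subset (Finset.subset_univ s)

theorem deg_bound (χ : IrrCharacter G) :
    charDegree (χ : G → ℂ) < 75 ∧ charDegree (χ : G → ℂ) ∣ 5616 := by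
  refine ⟨?_, hG ▸ charDegree_dvd_card χ⟩
  have := deg_sq_le hG {χ}
  rw [Finset.sum_singleton] at this
  nlinarith

omit hG in
/-- Divisors of the order in the ranges that occur. -/
theorem deg_thirteen : ∀ d : ℕ, d < 75 → d ∣ 5616 → (d % 13 = 1 ∨ d % 13 = 12) →
    d = 1 ∨ d = 12 ∨ d = 27 := by decide +kernel

/-- The principal block at thirteen. -/
theorem thirteen :
    ∃ (P : Subgroup G) (χ ψ θ : IrrCharacter G),
      Nat.card P = 13 ∧
      Nat.card (Subgroup.centralizer (P : Set G)) = 13 ∧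
      Nat.card (Subgroup.normalizer (P : Set G)) = 39 ∧
      charDegree (χ : G → ℂ) = 12 ∧ charDegree (ψ : G → ℂ) = 27 ∧ charDegree (θ : G → ℂ) = 16 ∧
      (∀ g : G, ¬ 13 ∣ orderOf g → (θ : G → ℂ) g = 1 - (χ : G → ℂ) g + (ψ : G → ℂ) g) ∧
      (∀ y ∈ P, y ≠ 1 → (χ : G → ℂ) y = -1 ∧ (ψ : G → ℂ) y = 1) ∧
      ∃ Y : Finset (IrrCharacter G), Y.card = 4 ∧ θ ∈ Y ∧ principal G ∉ Y ∧ χ ∉ Y ∧ ψ ∉ Y ∧
        (∀ η ∈ Y, charDegree (η : G → ℂ) = 16) ∧
        (∀ η ∈ Y, ∀ g : G, ¬ 13 ∣ orderOf g → (η : G → ℂ) g = (θ : G → ℂ) g) ∧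
        ∀ η : IrrCharacter G, η ≠ principal G → η ≠ χ → η ≠ ψ → η ∉ Y →
          13 ∣ charDegree (η : G → ℂ) := by
  classical
  haveI : Fact (Nat.Prime 13) := ⟨by norm_num⟩
  obtain ⟨M, hM⟩ := Cfsg.Agent.GlaubermanMod.exists_isPModular 13
  haveI := Cfsg.Agent.Blocks.IsPModular.isPrime hM
  have hfac : (Nat.card G).factorization 13 = 1 := by
    rw [hG, show (5616 : ℕ) = 13 * 432 by norm_num,
      Nat.factorization_mul (by norm_num) (by norm_num), Finsupp.add_apply,
      Nat.Prime.factorization_self (by norm_num),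
      Nat.factorization_eq_zero_of_not_dvd (by norm_num : ¬ 13 ∣ 432)]
  obtain ⟨P⟩ : Nonempty (Sylow 13 G) := inferInstance
  have hP : Nat.card P = 13 := by rw [Sylow.card_eq_multiplicity, hfac, pow_one]
  obtain ⟨V, e, K, -⟩ := exists_conf (by norm_num : Nat.Prime 13) P hP
  have hn1 : (Subgroup.normalizer ((P : Subgroup G) : Set G)).index % 13 = 1 := by
    have h := card_sylow_modEq_one 13 G
    rw [P.card_eq_index_normalizer] at h
    exact Nat.mod_eq_of_modEq h (by norm_num)
  have hn2 := (Subgroup.normalizer ((P : Subgroup G) : Set G)).index_mul_card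
  rw [K.D.hcard, K.hP, hG] at hn2
  generalize hn : (Subgroup.normalizer ((P : Subgroup G) : Set G)).index = n at hn1 hn2
  haveI : Fintype (P : Subgroup G) := Fintype.ofFinite _
  haveI : Fintype V := Fintype.ofFinite _
  haveI : Fintype (Subgroup.normalizer ((P : Subgroup G) : Set G)) := Fintype.ofFinite _
  haveI : Fintype ((P : Subgroup G) →* ℂˣ) := Fintype.ofFinite _
  obtain ⟨eb, X, Y, δ, sg, F⟩ := exists_families K hM (trivB V)
  have hee : eb = e := eb_triv K F
  have hXc : X.card = e := F.cardX.trans hee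
  have hYc : Y.card * e = 12 := by have := F.cardY; rw [hee] at this; simpa using this
  obtain ⟨θ, hθ⟩ := F.nonempty
  have hnp := not_prime hG
  have hB := principal_eq K hM F
  have hd1 : charDegree (principal G : G → ℂ) = 1 := Cfsg.Agent.CharX.charDegree_one
  have hmem : ∀ η, η ∈ X ∨ η ∈ Y → η ∈ principalBlock M G := fun η h => by rw [hB]; exact h
  have h1p : ¬ 13 ∣ orderOf (1 : G) := by simp
  have hXd : ∀ η ∈ X, (charDegree (η : G → ℂ) : ℤ) ≡ sg η [ZMOD 13] := fun η hη => by
    have h := degree_congr K hM (hmem η (Or.inl hη))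
    rw [Families.sum_X K F hη] at h
    exact h.trans (Int.modEq_iff_dvd.2 ⟨sg η, by push_cast; ring⟩)
  have hrel : ∑ η ∈ X, sg η * (charDegree (η : G → ℂ) : ℤ) +
      δ * (charDegree (θ : G → ℂ) : ℤ) = 0 := by
    have h := Families.relation K F hθ h1p
    simp only [irr_one_eq_charDegree] at h
    exact_mod_cast h
  have hagree : ∀ η ∈ Y, charDegree (η : G → ℂ) = charDegree (θ : G → ℂ) := fun η hη => by
    have h := Families.agree K F hη hθ h1p
    rw [irr_one_eq_charDegree, irr_one_eq_charDegree] at h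
    exact_mod_cast h
  have hXdeg : ∀ η ∈ X, η ≠ principal G →
      (charDegree (η : G → ℂ) = 12 ∧ sg η = -1) ∨ (charDegree (η : G → ℂ) = 27 ∧ sg η = 1) := by
    intro η hη hne
    obtain ⟨hb1, hb2⟩ := deg_bound hG η
    have h := hXd η hη
    rcases F.signX η hη with e1 | e1 <;> rw [e1, Int.ModEq] at h <;>
      rcases deg_thirteen _ hb1 hb2 (by omega) with h2 | h2 | h2
    all_goals first
      | exact absurd (DefOne.Order7920.eq_principal_of_deg_one hnp h2) hne
      | exact Or.inl ⟨h2, e1⟩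
      | exact Or.inr ⟨h2, e1⟩
      | (rw [h2] at h; norm_num at h)
  have hprinX : principal G ∈ X ∧ sg (principal G) = 1 ∨ Y = {principal G} := by
    have h : principal G ∈ X ∨ principal G ∈ Y := by
      have := Cfsg.Agent.Blocks.principal_mem_principalBlock (M := M) (G := G)
      rw [hB] at this
      exact this
    rcases h with h | h
    · refine Or.inl ⟨h, ?_⟩
      have h2 := hXd _ h
      rw [hd1] at h2
      rcases F.signX _ h with e1 | e1
      · exact e1
      · rw [e1, Int.modEq_iff_dvd] at h2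
        norm_num at h2
    · refine Or.inr (Finset.eq_singleton_iff_unique_mem.2 ⟨h, fun η hη => ?_⟩)
      obtain ⟨σ, -, rfl⟩ := F.transY _ h η hη
      exact Subtype.ext (funext fun g => map_one σ)
  -- values on the Sylow subgroup
  have hval : ∀ η ∈ X, ∀ y : (P : Subgroup G), y ≠ 1 → ∀ w ∈ V,
      (η : G → ℂ) ((y : G) * w) = (sg η : ℂ) := by
    intro η hη y hy w hw
    have hηB := hmem η (Or.inl hη)
    rw [section_const K hM hηB y.2 (fun h => hy (Subtype.ext h)) hw,
      ← phi_principal K hM hηB hy, Families.phi_X K F hη hy]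
  -- the centralizer is the Sylow subgroup
  have hV : V = ⊥ := by
    by_contra hV
    obtain ⟨v, hv, hv1⟩ : ∃ v, v ∈ V ∧ v ≠ (1 : G) := by
      obtain ⟨w, hw⟩ := V.ne_bot_iff_exists_ne_one.1 hV
      exact ⟨(w : G), w.2, fun h => hw (Subtype.ext h)⟩
    have hpos : ∀ η ∈ X, η ≠ principal G → sg η * (charDegree (η : G → ℂ) : ℤ) = 27 := by
      intro η hη hne
      rcases hXdeg η hη hne with ⟨hd, hs⟩ | ⟨hd, hs⟩
      · exfalso
        have hsum : ∀ w ∈ V, ∑ y : (P : Subgroup G), (η : G → ℂ) ((y : G) * w) =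
            (η : G → ℂ) w - 12 := by
          intro w hw
          rw [← Finset.add_sum_erase _ _ (Finset.mem_univ (1 : (P : Subgroup G))),
            Finset.sum_congr rfl fun y hy => hval η hη y (Finset.ne_of_mem_erase hy) w hw,
            Finset.sum_const, Finset.card_erase_of_mem (Finset.mem_univ _), Finset.card_univ,
            ← Nat.card_eq_fintype_card, K.hP, OneMemClass.coe_one, one_mul, hs]
          simp [sub_eq_add_neg]
        have h0 := hsum 1 (one_mem V)
        simp only [mul_one] at h0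
        rw [irr_one_eq_charDegree, hd, Nat.cast_ofNat, sub_self] at h0
        have h2 := hsum v hv
        rw [sum_translate_eq_zero (irr_isCharacter η) _ h0 v, eq_comm, sub_eq_zero] at h2
        refine hv1 (DefOne.Order7920.faithful hne v ?_)
        rw [h2, irr_one_eq_charDegree, hd, Nat.cast_ofNat]
      · rw [hd, hs]; norm_num
    have he : e ∣ 12 := ⟨Y.card, by rw [mul_comm, hYc]⟩
    have he12 : e ≤ 12 := Nat.le_of_dvd (by norm_num) he
    rcases hprinX with ⟨hpX, hpsg⟩ | hY
    · rw [← Finset.add_sum_erase _ _ hpX, hpsg, hd1,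
        Finset.sum_congr rfl fun η hη =>
          hpos η (Finset.mem_of_mem_erase hη) (Finset.ne_of_mem_erase hη),
        Finset.sum_const, Finset.card_erase_of_mem hpX, hXc, nsmul_eq_mul] at hrel
      have hθ1 : charDegree (θ : G → ℂ) ≠ 1 := fun h =>
        Finset.disjoint_left.1 F.disj hpX (DefOne.Order7920.eq_principal_of_deg_one hnp h ▸ hθ)
      obtain ⟨hb1, hb2⟩ := deg_bound hG θ
      have hvalθ : charDegree (θ : G → ℂ) = 1 + 27 * (e - 1) := by
        rcases F.sign with e1 | e1 <;> rw [e1] at hrel <;> push_cast at hrel <;> omega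
      rw [hvalθ] at hb1 hb2 hθ1
      interval_cases e <;> first | omega | norm_num at hb2 | norm_num at he
    · subst hY
      have he12' : e = 12 := by simpa using hYc
      rw [Finset.sum_congr rfl fun η hη => hpos η hη fun h =>
          Finset.disjoint_left.1 F.disj hη (h ▸ Finset.mem_singleton_self _),
        Finset.sum_const, hXc, he12', Finset.mem_singleton.1 hθ, hd1] at hrel
      rcases F.sign with e1 | e1 <;> rw [e1] at hrel <;> norm_num at hrel
  have hV1 : Nat.card V = 1 := by rw [hV, Subgroup.card_bot]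
  have he3 : e = 3 := by
    have he : e ∣ 12 := ⟨Y.card, by rw [mul_comm, hYc]⟩
    have := Nat.le_of_dvd (by norm_num) he
    rw [hV1, mul_one] at hn2
    interval_cases e <;> first | omega | norm_num at he
  subst he3
  have hY4 : Y.card = 4 := by omega
  obtain ⟨hpX, hpsg⟩ := hprinX.resolve_right fun h => by rw [h] at hY4; simp at hY4
  obtain ⟨α, β, hαβ, hE⟩ : ∃ α β, α ≠ β ∧ X.erase (principal G) = {α, β} :=
    Finset.card_eq_two.1 (by rw [Finset.card_erase_of_mem hpX, hXc])
  rw [← Finset.add_sum_erase _ _ hpX, hpsg, hd1, hE, Finset.sum_pair hαβ] at hrel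
  have hαX : α ∈ X ∧ α ≠ principal G := by
    have : α ∈ X.erase (principal G) := by rw [hE]; simp
    exact ⟨Finset.mem_of_mem_erase this, Finset.ne_of_mem_erase this⟩
  have hβX : β ∈ X ∧ β ≠ principal G := by
    have : β ∈ X.erase (principal G) := by rw [hE]; simp
    exact ⟨Finset.mem_of_mem_erase this, Finset.ne_of_mem_erase this⟩
  obtain ⟨χ, ψ, hχX, hψX, hχ12, hψ27, hsχ, hsψ, hE', hθ16, hδ⟩ :
      ∃ χ ψ, (χ ∈ X ∧ χ ≠ principal G) ∧ (ψ ∈ X ∧ ψ ≠ principal G) ∧
        charDegree (χ : G → ℂ) = 12 ∧ charDegree (ψ : G → ℂ) = 27 ∧ sg χ = -1 ∧ sg ψ = 1 ∧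
        X.erase (principal G) = {χ, ψ} ∧ charDegree (θ : G → ℂ) = 16 ∧ δ = -1 := by
    obtain ⟨hb1, hb2⟩ := deg_bound hG θ
    rcases hXdeg α hαX.1 hαX.2 with ⟨ha, sa⟩ | ⟨ha, sa⟩ <;>
      rcases hXdeg β hβX.1 hβX.2 with ⟨hb, sb⟩ | ⟨hb, sb⟩ <;>
      rcases F.sign with e1 | e1 <;> rw [ha, hb, sa, sb, e1] at hrel <;> push_cast at hrel
    all_goals first
      | omega
      | exact ⟨α, β, hαX, hβX, ha, hb, sa, sb, hE, by omega, e1⟩
      | exact ⟨β, α, hβX, hαX, hb, ha, sb, sa, by rw [hE, Finset.pair_comm], by omega, e1⟩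
      | (have h23 : charDegree (θ : G → ℂ) = 23 := by omega
         rw [h23] at hb2; norm_num at hb2)
      | (have h55 : charDegree (θ : G → ℂ) = 55 := by omega
         rw [h55] at hb2; norm_num at hb2)
  have hχψ : χ ≠ ψ := fun h => by rw [h, hψ27] at hχ12; norm_num at hχ12
  refine ⟨(P : Subgroup G), χ, ψ, θ, hP, ?_, ?_, hχ12, hψ27, hθ16, ?_, ?_, Y, hY4, hθ,
    fun h => Finset.disjoint_left.1 F.disj hpX h, fun h => Finset.disjoint_left.1 F.disj hχX.1 h,
    fun h => Finset.disjoint_left.1 F.disj hψX.1 h, fun η hη => (hagree η hη).trans hθ16,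
    fun η hη g hg => Families.agree K F hη hθ hg, ?_⟩
  · rw [card_centralizer K, hV1, mul_one]
  · rw [K.D.hcard, K.hP, hV1]
  · intro g hg
    have h := Families.relation K F hθ hg
    rw [← Finset.add_sum_erase _ _ hpX, hE', Finset.sum_pair hχψ, hpsg, hsχ, hsψ, hδ] at h
    push_cast at h
    rw [show (principal G : G → ℂ) g = 1 from rfl] at h
    linear_combination -h
  · intro y hy hy1
    have h1 := hval χ hχX.1 ⟨y, hy⟩ (fun h => hy1 (congrArg Subtype.val h)) 1 (one_mem V)
    have h2 := hval ψ hψX.1 ⟨y, hy⟩ (fun h => hy1 (congrArg Subtype.val h)) 1 (one_mem V)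
    rw [hsχ, mul_one] at h1
    rw [hsψ, mul_one] at h2
    exact ⟨by simpa using h1, by simpa using h2⟩
  · intro η hη1 hη2 hη3 hηY
    by_contra hd
    obtain ⟨b, hb⟩ := exists_inR K hM hd
    subst hV
    have hb0 : b = trivB (⊥ : Subgroup G) := Subtype.ext (funext fun x => by
      have hx : x = 1 := Subsingleton.elim _ _
      rw [hx, degree_one_of_comm (fun _ _ => Subsingleton.elim _ _) b.2]
      rfl)
    subst hb0
    rcases (mem_iff_inR K F η).2 hb with h | h
    · have : η ∈ X.erase (principal G) := Finset.mem_erase.2 ⟨hη1, h⟩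
      rw [hE', Finset.mem_insert, Finset.mem_singleton] at this
      exact this.elim hη2 hη3
    · exact hηY h

/-- What is needed of the characters. -/
theorem facts :
    ∃ a b : G → ℤ,
      (∀ g : G, orderOf g = 2 →
        12 ∣ ((Subgroup.centralizer ({g} : Set G)).index : ℤ) * a g ∧
        27 ∣ ((Subgroup.centralizer ({g} : Set G)).index : ℤ) * b g ∧
        1 - a g + b g = 0 ∧ 324 - 27 * a g ^ 2 + 12 * b g ^ 2 = 0) ∧
      (∀ g : G, ¬ 13 ∣ orderOf g → 1 + a g ^ 2 + b g ^ 2 + 4 * (1 - a g + b g) ^ 2 ≤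
        (Nat.card (Subgroup.centralizer ({g} : Set G)) : ℤ)) ∧
      (∀ g : G, ¬ 13 ∣ orderOf g →
        16 ∣ ((Subgroup.centralizer ({g} : Set G)).index : ℤ) * (1 - a g + b g)) ∧
      (∀ g : G, ¬ 13 ∣ orderOf g → 3 ∣ orderOf g → b g = 0) ∧
      (∀ A : Subgroup G, ¬ 13 ∣ Nat.card A → ∀ s : Finset A, (1 : A) ∈ s →
        (∀ h : A, h ∉ s → 2 ∣ orderOf (h : G)) →
        (Nat.card A : ℤ) ∣ ∑ h ∈ s, (1 - a (h : G) + b (h : G))) ∧
      a 1 = 12 ∧ b 1 = 27 ∧ (∀ g : G, a g⁻¹ = a g ∧ b g⁻¹ = b g) ∧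
      (∀ g y : G, orderOf y = 13 → Commute g y → orderOf g ∣ 13) ∧
      (12 ∈ Cfsg.charDegrees G) ∧ ∃ d ∈ Cfsg.charDegrees G, 13 ∣ d := by
  classical
  haveI : Fact (Nat.Prime 13) := ⟨by norm_num⟩
  obtain ⟨P, χ, ψ, θ, hP, hCP, hNP, hdχ, hdψ, hdθ, hrel, hvalP, Y, hY4, hθY, h1Y, hχY, hψY,
    hdY, hagree, hother⟩ := thirteen hG
  have hd1 : charDegree (principal G : G → ℂ) = 1 := Cfsg.Agent.CharX.charDegree_one
  have hrat : ∀ (η : IrrCharacter G), (∀ η' : IrrCharacter G,
      charDegree (η' : G → ℂ) = charDegree (η : G → ℂ) → η' = η) →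
      ∀ g, ∃ n : ℤ, (η : G → ℂ) g = n := by
    intro η hu g
    have hint := IsCharacter.isIntegral (irr_isCharacter η) g
    obtain ⟨q, hq⟩ := CharGalois.eq_rat_of_fixed hint fun σ => by
      have h := hu (galT σ η) (by
        have := galT_one σ η
        rw [irr_one_eq_charDegree, irr_one_eq_charDegree] at this
        exact_mod_cast this)
      exact congrFun (congrArg Subtype.val h) g
    obtain ⟨n, hn⟩ := exists_int_of_isIntegral (q := q) (hq ▸ hint)
    exact ⟨n, by rw [hq, hn]; simp⟩
  have huχ : ∀ η : IrrCharacter G, charDegree (η : G → ℂ) = charDegree (χ : G → ℂ) → η = χ := by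
    intro η h
    rw [hdχ] at h
    by_contra hne
    have h1 : η ≠ principal G := fun e => by rw [e, hd1] at h; norm_num at h
    have h2 : η ≠ ψ := fun e => by rw [e, hdψ] at h; norm_num at h
    have h3 : η ∉ Y := fun e => by rw [hdY η e] at h; norm_num at h
    have := hother η h1 hne h2 h3
    rw [h] at this
    norm_num at this
  have huψ : ∀ η : IrrCharacter G, charDegree (η : G → ℂ) = charDegree (ψ : G → ℂ) → η = ψ := by
    intro η h
    rw [hdψ] at h
    by_contra hne
    have h1 : η ≠ principal G := fun e => by rw [e, hd1] at h; norm_num at h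
    have h2 : η ≠ χ := fun e => by rw [e, hdχ] at h; norm_num at h
    have h3 : η ∉ Y := fun e => by rw [hdY η e] at h; norm_num at h
    have := hother η h1 h2 hne h3
    rw [h] at this
    norm_num at this
  choose a ha using hrat χ huχ
  choose b hb using hrat ψ huψ
  have hθv : ∀ g : G, ¬ 13 ∣ orderOf g → (θ : G → ℂ) g = ((1 - a g + b g : ℤ) : ℂ) := by
    intro g hg
    rw [hrel g hg, ha, hb]
    push_cast; ring
  have hdz : ∀ (η : IrrCharacter G) (r : ℕ), r.Prime →
      ¬ r ∣ Nat.card G / charDegree (η : G → ℂ) → ∀ g, r ∣ orderOf g → (η : G → ℂ) g = 0 := by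
    intro η r hr hdef g hg
    haveI : Fact r.Prime := ⟨hr⟩
    exact PSL2Degrees.eq_zero_of_defect_zero r η hdef hg
  have hθ2 : ∀ g : G, 2 ∣ orderOf g → (θ : G → ℂ) g = 0 :=
    hdz θ 2 Nat.prime_two (by rw [hG, hdθ]; norm_num)
  have hψ3 : ∀ g : G, 3 ∣ orderOf g → (ψ : G → ℂ) g = 0 :=
    hdz ψ 3 Nat.prime_three (by rw [hG, hdψ]; norm_num)
  have homega : ∀ (η : IrrCharacter G) (d : ℕ), charDegree (η : G → ℂ) = d → ∀ (g : G) (n : ℤ),
      (η : G → ℂ) g = n → (d : ℤ) ∣ ((Subgroup.centralizer ({g} : Set G)).index : ℤ) * n := by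
    intro η d hd g n hn
    have h := IsIrrCharacter.isIntegral_centralChar η.2 g
    rw [irr_one_eq_charDegree, hd, hn] at h
    obtain ⟨m, hm⟩ := exists_int_of_isIntegral
      (q := (((Subgroup.centralizer ({g} : Set G)).index : ℤ) * n : ℤ) / (d : ℚ))
      (by push_cast; exact h)
    have hd0 : (d : ℚ) ≠ 0 := by
      rw [← hd]; exact_mod_cast (charDegree_pos η).ne'
    rw [div_eq_iff hd0] at hm
    exact ⟨m, by rw [mul_comm (d : ℤ)]; exact_mod_cast hm⟩
  have hcomm : ∀ g y : G, orderOf y = 13 → Commute g y → orderOf g ∣ 13 := by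
    intro g y hy hgy
    have hfac : (Nat.card G).factorization 13 = 1 := by
      rw [hG, show (5616 : ℕ) = 13 * 432 by norm_num,
        Nat.factorization_mul (by norm_num) (by norm_num), Finsupp.add_apply,
        Nat.Prime.factorization_self (by norm_num),
        Nat.factorization_eq_zero_of_not_dvd (by norm_num : ¬ 13 ∣ 432)]
    let Q : Sylow 13 G := Sylow.ofCard (Subgroup.zpowers y) (by rw [Nat.card_zpowers, hy, hfac, pow_one])
    let R : Sylow 13 G := Sylow.ofCard P (by rw [hP, hfac, pow_one])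
    obtain ⟨c, hc⟩ := MulAction.exists_smul_eq G Q R
    have hy' : c * y * c⁻¹ ∈ P := by
      have := congrArg (fun S : Sylow 13 G => (S : Subgroup G)) hc
      simp only [Sylow.coe_subgroup_smul, Q, R, Sylow.coe_ofCard] at this
      have h2 : c * y * c⁻¹ ∈ (MulAut.conj c • (Subgroup.zpowers y) : Subgroup G) :=
        Subgroup.smul_mem_pointwise_smul y (MulAut.conj c) _ (Subgroup.mem_zpowers y)
      exact this ▸ h2
    have hord : orderOf (c * g * c⁻¹) = orderOf g :=
      orderOf_injective (MulAut.conj c).toMonoidHom (MulAut.conj c).injective g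
    have hy1 : c * y * c⁻¹ ≠ 1 := fun h => by
      have : orderOf y = 1 := by rw [orderOf_eq_one_iff]; exact conj_eq_one_iff.1 h
      omega
    have hmem : c * g * c⁻¹ ∈ Subgroup.centralizer (P : Set G) := by
      rw [← centralizer_singleton_eq (by norm_num : Nat.Prime 13) hP hy' hy1,
        Subgroup.mem_centralizer_singleton_iff]
      exact (Commute.conj_iff c).2 hgy
    rw [← hord, ← hCP, ← Subgroup.orderOf_mk _ hmem]
    exact orderOf_dvd_natCard _
  obtain ⟨x, hxP, hx1⟩ : ∃ x ∈ P, x ≠ 1 := by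
    have : P ≠ ⊥ := fun h => by rw [h, Subgroup.card_bot] at hP; norm_num at hP
    obtain ⟨w, hw⟩ := P.ne_bot_iff_exists_ne_one.1 this
    exact ⟨w, w.2, fun h => hw (Subtype.ext h)⟩
  have hxord : orderOf x = 13 := by
    refine orderOf_eq_prime ?_ hx1
    rw [← orderOf_dvd_iff_pow_eq_one, ← hP]
    exact Subgroup.orderOf_dvd_natCard P hxP
  refine ⟨a, b, fun t ht => ?_, fun g hg => ?_, fun g hg => ?_, fun g _ hg => ?_, ?_, ?_, ?_,
    fun g => ?_, hcomm, ?_, ?_⟩
  · -- involutions
    have ht13 : ¬ 13 ∣ orderOf t := by rw [ht]; norm_num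
    have h2 : (1 : ℤ) - a t + b t = 0 := by
      have := hθ2 t (by rw [ht])
      rw [hθv t ht13] at this
      exact_mod_cast this
    refine ⟨homega χ 12 hdχ t _ (ha t), homega ψ 27 hdψ t _ (hb t), h2, ?_⟩
    -- no product of two involutions has order thirteen
    have hno : ∀ i ∈ classFinset t, ¬ IsConj (i * x) t := by
      intro i hi hj
      have hi2 : orderOf i = 2 := by
        obtain ⟨c, hc⟩ := isConj_iff.1 (mem_classFinset.1 hi)
        rw [← hc, ← ht]
        exact orderOf_injective (MulAut.conj c).toMonoidHom (MulAut.conj c).injective t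
      have hj2 : orderOf (i * x) = 2 := by
        obtain ⟨c, hc⟩ := isConj_iff.1 hj
        rw [← ht, ← hc]
        exact (orderOf_injective (MulAut.conj c).toMonoidHom (MulAut.conj c).injective _).symm
      have hii : i * i = 1 := by rw [← pow_two, ← hi2]; exact pow_orderOf_eq_one i
      have hjj : i * x * (i * x) = 1 := by rw [← pow_two, ← hj2]; exact pow_orderOf_eq_one _
      have hinv : i * x * i⁻¹ = x⁻¹ := by
        have hi' : i⁻¹ = i := inv_eq_of_mul_eq_one_right hii
        rw [hi']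
        refine eq_inv_of_mul_eq_one_left ?_
        rw [mul_assoc]
        exact hjj
      have hPz : P = Subgroup.zpowers x := by
        symm
        refine Subgroup.eq_of_le_of_card_ge (Subgroup.zpowers_le.2 hxP) ?_
        rw [Nat.card_zpowers, hxord, hP]
      have hiN : i ∈ Subgroup.normalizer (P : Set G) := by
        rw [hPz]
        refine Subgroup.mem_normalizer_iff.2 fun z => ?_
        have hmap : ∀ k : ℤ, i * x ^ k * i⁻¹ = x ^ (-k) := fun k => by
          rw [show i * x ^ k * i⁻¹ = (i * x * i⁻¹) ^ k from conj_zpow.symm, hinv, inv_zpow, zpow_neg]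
        constructor
        · rintro ⟨k, rfl⟩
          exact ⟨-k, (hmap k).symm⟩
        · rintro ⟨k, hk⟩
          refine ⟨-k, ?_⟩
          have h3 := hmap (-k)
          rw [neg_neg] at h3
          exact (MulAut.conj i).injective (h3.trans hk)
      have := Subgroup.orderOf_mk _ hiN ▸ orderOf_dvd_natCard (⟨i, hiN⟩ : Subgroup.normalizer (P : Set G))
      rw [hi2, hNP] at this
      norm_num at this
    have hzero : ∑ η : IrrCharacter G, conj ((η : G → ℂ) t) * ((η : G → ℂ) t) * (η : G → ℂ) x /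
        (η : G → ℂ) 1 = 0 := by
      have h0 : ∑ i ∈ classFinset t, ∑ η : IrrCharacter G,
          conj ((η : G → ℂ) t) * (η : G → ℂ) (i * x) = 0 := by
        refine Finset.sum_eq_zero fun i hi => ?_
        rw [← column_orth_of_not_isConj (hno i hi)]
        exact Finset.sum_congr rfl fun η _ => mul_comm _ _
      rw [Finset.sum_comm] at h0
      have hidx : ((Subgroup.centralizer ({t} : Set G)).index : ℂ) ≠ 0 :=
        Nat.cast_ne_zero.2 Subgroup.index_ne_zero_of_finite
      refine mul_left_cancel₀ hidx ?_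
      rw [mul_zero]
      refine Eq.trans ?_ h0
      rw [Finset.mul_sum]
      refine Finset.sum_congr rfl fun η _ => ?_
      rw [← Finset.mul_sum]
      obtain ⟨n, ρ, hρ, hη⟩ := id η.2
      haveI := hρ
      have h3 : ∑ i ∈ classFinset t, (η : G → ℂ) (i * x) =
          ((Subgroup.centralizer ({t} : Set G)).index : ℂ) * (η : G → ℂ) t / (η : G → ℂ) 1 *
            (η : G → ℂ) x := by
        rw [← hη]
        simp only [Representation.character, map_mul]
        rw [← map_sum, ← Finset.sum_mul, classSum_scalar, smul_mul_assoc, Module.End.mul_eq_comp,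
          LinearMap.id_comp, map_smul, smul_eq_mul, map_one, LinearMap.trace_one]
        rfl
      rw [h3]
      ring
    obtain ⟨hxχ, hxψ⟩ := hvalP x hxP hx1
    have hne1 : principal G ≠ χ := fun e => by rw [← e, hd1] at hdχ; norm_num at hdχ
    have hne2 : principal G ≠ ψ := fun e => by rw [← e, hd1] at hdψ; norm_num at hdψ
    have hne3 : χ ≠ ψ := fun e => by rw [e, hdψ] at hdχ; norm_num at hdχ
    rw [← Finset.sum_subset (Finset.subset_univ ({principal G, χ, ψ} : Finset (IrrCharacter G)))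
      (fun η _ hη => ?_), Finset.sum_insert (by simp [hne1, hne2]), Finset.sum_pair hne3] at hzero
    · rw [ha t, hb t, hxχ, hxψ, irr_one_eq_charDegree χ, hdχ, irr_one_eq_charDegree ψ, hdψ] at hzero
      simp only [principal, map_one, map_intCast] at hzero
      have h4 : ((324 - 27 * a t ^ 2 + 12 * b t ^ 2 : ℤ) : ℂ) = 0 := by
        push_cast at hzero ⊢
        linear_combination 324 * hzero
      exact_mod_cast h4
    · simp only [Finset.mem_insert, Finset.mem_singleton, not_or] at hη
      by_cases hηY : η ∈ Y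
      · rw [hagree η hηY t ht13, hθ2 t (by rw [ht])]
        simp
      · have hd13 := hother η hη.1 hη.2.1 hη.2.2 hηY
        have h13 : ¬ 13 ∣ Nat.card G / charDegree (η : G → ℂ) := by
          obtain ⟨k, hk⟩ := hd13
          rw [hG, hk]
          intro h
          have hdvd : 13 * k ∣ 5616 := hk ▸ (deg_bound hG η).2
          have h2 : (5616 / (13 * k)) ∣ 432 := by
            rw [← Nat.div_div_eq_div_mul]
            exact Nat.div_dvd_of_dvd (Nat.dvd_div_of_mul_dvd hdvd)
          exact absurd (h.trans h2) (by norm_num)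
        rw [hdz η 13 (by norm_num) h13 x (by rw [hxord])]
        simp
  · have horth := column_orth_of_isConj (IsConj.refl g)
    have hsum : ∑ η : IrrCharacter G, Complex.normSq ((η : G → ℂ) g) =
        (Nat.card (Subgroup.centralizer ({g} : Set G)) : ℝ) := by
      have h : ((∑ η : IrrCharacter G, Complex.normSq ((η : G → ℂ) g) : ℝ) : ℂ) =
          ((Nat.card (Subgroup.centralizer ({g} : Set G)) : ℝ) : ℂ) := by
        push_cast
        rw [← horth]
        exact Finset.sum_congr rfl fun η _ => (Complex.mul_conj _).symm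
      exact Complex.ofReal_inj.1 h
    have hne1 : principal G ≠ χ := fun e => by rw [← e, hd1] at hdχ; norm_num at hdχ
    have hne2 : principal G ≠ ψ := fun e => by rw [← e, hd1] at hdψ; norm_num at hdψ
    have hne3 : χ ≠ ψ := fun e => by rw [e, hdψ] at hdχ; norm_num at hdχ
    have hle := Finset.sum_le_sum_of_subset_of_nonneg
      (Finset.subset_univ (({principal G, χ, ψ} : Finset (IrrCharacter G)) ∪ Y))
      (f := fun η : IrrCharacter G => Complex.normSq ((η : G → ℂ) g))
      (fun η _ _ => Complex.normSq_nonneg _)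
    rw [hsum, Finset.sum_union (by simp [h1Y, hχY, hψY]), Finset.sum_insert (by simp [hne1, hne2]),
      Finset.sum_pair hne3, Finset.sum_congr rfl (fun η hη => by rw [hagree η hη g hg]),
      Finset.sum_const, hY4, ha, hb, hθv g hg] at hle
    simp only [principal, map_one, Complex.normSq_intCast, nsmul_eq_mul] at hle
    have : ((1 + a g ^ 2 + b g ^ 2 + 4 * (1 - a g + b g) ^ 2 : ℤ) : ℝ) ≤
        (((Nat.card (Subgroup.centralizer ({g} : Set G))) : ℤ) : ℝ) := by
      push_cast at hle ⊢
      linarith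
    exact_mod_cast this
  · exact homega θ 16 hdθ g _ (hθv g hg)
  · have := hψ3 g hg
    rw [hb] at this
    exact_mod_cast this
  · intro A hA s hs1 hs
    haveI : Fintype A := Fintype.ofFinite _
    have h13 : ∀ h : A, ¬ 13 ∣ orderOf (h : G) := fun h hh =>
      hA (hh.trans (Subgroup.orderOf_dvd_natCard A h.2))
    obtain ⟨n, hn⟩ := IsCharacter.exists_classInner_nat
      (IsCharacter.restrict (irr_isCharacter θ) A) (isCharacter_one (G := A))
    rw [Cfsg.classInner] at hn
    simp only [map_one, mul_one] at hn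
    rw [← Finset.sum_subset (Finset.subset_univ s) (fun h _ hh => hθ2 _ (hs h hh)),
      inv_mul_eq_iff_eq_mul₀ (Nat.cast_ne_zero.2 Nat.card_pos.ne'),
      Finset.sum_congr rfl fun h _ => hθv _ (h13 h)] at hn
    exact ⟨n, by exact_mod_cast hn⟩
  · have h := ha 1
    rw [irr_one_eq_charDegree, hdχ] at h
    exact_mod_cast h.symm
  · have h := hb 1
    rw [irr_one_eq_charDegree, hdψ] at h
    exact_mod_cast h.symm
  · have key : ∀ (η : IrrCharacter G) (n m : ℤ), (η : G → ℂ) g⁻¹ = n → (η : G → ℂ) g = m →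
        n = m := by
      intro η n m hn hm
      obtain ⟨k, ρ, hρ⟩ := irr_isCharacter η
      rw [← hρ, Char.char_inv ρ g, hρ, hm, map_intCast] at hn
      exact_mod_cast hn.symm
    exact ⟨key χ _ _ (ha _) (ha _), key ψ _ _ (hb _) (hb _)⟩
  · exact ⟨χ, hdχ⟩
  · by_contra hno
    push_neg at hno
    have hall : ∀ η : IrrCharacter G,
        η ∈ ({principal G, χ, ψ} : Finset (IrrCharacter G)) ∪ Y := by
      intro η
      by_contra hη
      simp only [Finset.mem_union, Finset.mem_insert, Finset.mem_singleton, not_or] at hη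
      exact hno _ ⟨η, rfl⟩ (hother η hη.1.1 hη.1.2.1 hη.1.2.2 hη.2)
    have hsq := Cfsg.Agent.CharX.sum_deg_sq (G := G)
    have hne1 : principal G ≠ χ := fun e => by rw [← e, hd1] at hdχ; norm_num at hdχ
    have hne2 : principal G ≠ ψ := fun e => by rw [← e, hd1] at hdψ; norm_num at hdψ
    have hne3 : χ ≠ ψ := fun e => by rw [e, hdψ] at hdχ; norm_num at hdχ
    rw [← Finset.eq_univ_iff_forall.2 hall, Finset.sum_union (by simp [h1Y, hχY, hψY]),
      Finset.sum_insert (by simp [hne1, hne2]), Finset.sum_pair hne3,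
      Finset.sum_congr rfl (fun η hη => by rw [hdY η hη]), Finset.sum_const, hY4, hd1, hdχ, hdψ,
      hG] at hsq
    norm_num at hsq

end Cfsg.Agent.DegSix.Char5616
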