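import Cfsg.Agent.Lib.FGStruct.QuatFortyEight.Main
import Cfsg.Agent.Lib.Char.Burnside
import Cfsg.Agent.Lib.GW.Residual
import Mathlib.GroupTheory.Transfer

/-!
A group of order forty-eight with a central involution and small centralisers of the elements of order three.
-/

set_option autoImplicit false
set_option linter.unusedSectionVars false
set_option linter.style.haveILetI false

namespace Cfsg.Agent.DegSix.Struct48

open Subgroup
open scoped Pointwise

universe u

variable {L : Type u} [Group L] [Finite L]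

omit [Finite L] in
theorem conj_pow_three (x m : L) : x ^ 3 * m * (x ^ 3)⁻¹ = x * (x * (x * m * x⁻¹) * x⁻¹) * x⁻¹ := by
  simp [pow_succ, mul_assoc]

/-- A subgroup invariant under an element of order three has order congruent to that of its fixed
part. -/
theorem modEq_three {x : L} (hx : orderOf x = 3) (M : Subgroup L)
    (hM : ∀ m ∈ M, x * m * x⁻¹ ∈ M) :
    Nat.card M ≡ Nat.card ↥(M ⊓ centralizer ({x} : Set L)) [MOD 3] := by
  haveI : Fact (Nat.Prime 3) := ⟨Nat.prime_three⟩
  have hH : IsPGroup 3 (zpowers x) := IsPGroup.of_card (n := 1) (by rw [Nat.card_zpowers, hx, pow_one])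
  have hxN : x ∈ normalizer (M : Set L) := by
    refine mem_normalizer_iff.2 fun m => ⟨hM m, fun h => ?_⟩
    have h3 : x ^ 3 = 1 := by rw [← hx]; exact pow_orderOf_eq_one x
    have h2 := hM _ (hM _ h)
    rw [← conj_pow_three, h3] at h2
    simpa using h2
  have hle : zpowers x ≤ normalizer (M : Set L) := zpowers_le.2 hxN
  letI act : MulAction (zpowers x) M :=
    { smul := fun h m => ⟨(h : L) * m * (h : L)⁻¹, (mem_normalizer_iff.1 (hle h.2) m).1 m.2⟩
      one_smul := fun m => Subtype.ext (by show (1 : L) * m * (1 : L)⁻¹ = m; simp)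
      mul_smul := fun a b m => Subtype.ext (by
        show ((a * b : zpowers x) : L) * m * ((a * b : zpowers x) : L)⁻¹ =
          (a : L) * ((b : L) * m * (b : L)⁻¹) * (a : L)⁻¹
        simp [mul_assoc]) }
  have h := hH.card_modEq_card_fixedPoints M
  refine Eq.trans h (congrArg (· % 3) ?_)
  refine Nat.card_congr
    { toFun := fun m => ⟨((m : M) : L), ⟨(m : M).2, mem_centralizer_singleton_iff.2 ?_⟩⟩
      invFun := fun m => ⟨⟨(m : L), m.2.1⟩, fun h => Subtype.ext ?_⟩
      left_inv := fun m => rfl
      right_inv := fun m => rfl }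
  · have h1 := congrArg Subtype.val (m.2 ⟨x, mem_zpowers x⟩)
    change x * ((m : M) : L) * x⁻¹ = _ at h1
    exact (mul_inv_eq_iff_eq_mul.1 h1).symm
  · show (h : L) * (m : L) * (h : L)⁻¹ = m
    obtain ⟨k, hk⟩ := mem_zpowers_iff.1 h.2
    have hc : Commute (m : L) x := (mem_centralizer_singleton_iff.1 m.2.2)
    rw [← hk, (hc.zpow_right k).symm.eq, mul_inv_cancel_right]

/-- An element of order two in a subgroup of index two. -/
theorem sq_mem {M S : Subgroup L} (hMS : M ≤ S) (h : Nat.card S = 2 * Nat.card M) {g : L} (hg : g ∈ S) :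
    g * g ∈ M := by
  have hi : (M.subgroupOf S).index = 2 := by
    have := card_mul_index (M.subgroupOf S)
    rw [Nat.card_congr (subgroupOfEquivOfLe hMS).toEquiv, h, mul_comm 2] at this
    exact Nat.eq_of_mul_eq_mul_left Nat.card_pos this
  have := mul_self_mem_of_index_two hi ⟨g, hg⟩
  simpa [mem_subgroupOf] using this

/-- The structure with a centraliser of order twelve. -/
theorem case_twelve (hL : Nat.card L = 48) {t : L} (htc : t ∈ center L) (ht : orderOf t = 2)
    {x : L} (hx : orderOf x = 3) (hN : normalizer (zpowers x : Set L) ≤ centralizer ({x} : Set L))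
    (hC : Nat.card (centralizer ({x} : Set L)) = 12) :
    ∃ D : Subgroup L, Nat.card D = 4 ∧ D ≤ centralizer ({x} : Set L) ∧ D ≤ center L ∧ t ∈ D ∧
      ∀ g : L, g ^ 4 = 1 → g * g ∈ D := by
  classical
  haveI : Fact (Nat.Prime 3) := ⟨Nat.prime_three⟩
  haveI : Fact (Nat.Prime 2) := ⟨Nat.prime_two⟩
  have hcT : Nat.card (zpowers x) = 3 := by rw [Nat.card_zpowers, hx]
  let P : Sylow 3 L := Sylow.ofCard (zpowers x) (by
    rw [hcT, hL, show (48 : ℕ) = 3 * 16 by norm_num,
      Nat.factorization_mul (by norm_num) (by norm_num), Finsupp.add_apply,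
      Nat.Prime.factorization_self Nat.prime_three,
      Nat.factorization_eq_zero_of_not_dvd (by norm_num : ¬ 3 ∣ 16)]
    norm_num)
  have hP : normalizer (P : Set L) ≤ centralizer (P : Set L) := by
    refine hN.trans fun g hg => mem_centralizer_iff.2 fun h hh => ?_
    obtain ⟨k, rfl⟩ := mem_zpowers_iff.1 hh
    exact (Commute.zpow_right (mem_centralizer_singleton_iff.1 hg) k).eq.symm
  set S := (MonoidHom.transferSylow P hP).ker with hSdef
  have hcomp : IsComplement' S (P : Subgroup L) := MonoidHom.ker_transferSylow_isComplement' P hP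
  have hS : Nat.card S = 16 := by
    have := hcomp.card_mul
    rw [hL, show Nat.card (P : Subgroup L) = 3 from hcT] at this
    omega
  have hSn : ∀ g s, s ∈ S → g * s * g⁻¹ ∈ S := fun g s hs =>
    (inferInstance : (MonoidHom.transferSylow P hP).ker.Normal).conj_mem s hs g
  have htwo : ∀ g : L, g ^ 16 = 1 → g ∈ S := by
    intro g hg
    rw [hSdef, MonoidHom.mem_ker]
    have h1 : (MonoidHom.transferSylow P hP g) ^ 16 = 1 := by rw [← map_pow, hg, map_one]
    have h2 : (MonoidHom.transferSylow P hP g) ^ 3 = 1 := by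
      have := pow_card_eq_one' (x := MonoidHom.transferSylow P hP g)
      rwa [show Nat.card (P : Subgroup L) = 3 from hcT] at this
    have := pow_gcd_eq_one.2 ⟨h1, h2⟩
    simpa using this
  set D := S ⊓ centralizer ({x} : Set L) with hDdef
  have hD : Nat.card D = 4 := by
    have h1 : Nat.card D ∣ 16 := hS ▸ card_dvd_of_le inf_le_left
    have h2 : Nat.card D ∣ 12 := hC ▸ card_dvd_of_le inf_le_right
    have h3 : Nat.card D ∣ 4 := Nat.dvd_gcd h1 h2
    obtain ⟨Q⟩ : Nonempty (Sylow 2 (centralizer ({x} : Set L))) := inferInstance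
    have hQ : Nat.card Q = 4 := by
      rw [Sylow.card_eq_multiplicity, hC, show (12 : ℕ) = 2 ^ 2 * 3 by norm_num,
        Nat.factorization_mul (by norm_num) (by norm_num), Finsupp.add_apply,
        Nat.Prime.factorization_pow Nat.prime_two, Finsupp.single_eq_same,
        Nat.factorization_eq_zero_of_not_dvd (by norm_num : ¬ 2 ∣ 3)]
      norm_num
    have hle : (Q : Subgroup (centralizer ({x} : Set L))).map (Subgroup.subtype _) ≤ D := by
      rintro _ ⟨q, hq, rfl⟩
      refine ⟨htwo _ ?_, q.2⟩
      have h4 : q ^ 4 = 1 := by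
        rw [← orderOf_dvd_iff_pow_eq_one, ← hQ]
        exact Subgroup.orderOf_dvd_natCard _ hq
      show ((q : L)) ^ 16 = 1
      rw [← Subgroup.coe_pow, show 16 = 4 * 4 by norm_num, pow_mul, h4, one_pow]
      rfl
    have h5 := Subgroup.card_le_of_le hle
    rw [card_map_of_injective (Subgroup.subtype_injective _), hQ] at h5
    have := Nat.le_of_dvd (by norm_num) h3
    omega
  have hDS : D ≤ S := inf_le_left
  have hxD : ∀ d ∈ D, x * d * x⁻¹ = d := fun d hd =>
    mul_inv_eq_iff_eq_mul.2 (mem_centralizer_singleton_iff.1 hd.2).symm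
  have invariant : ∀ M : Subgroup L, M ≤ S → D ≤ M → (∀ m ∈ M, x * m * x⁻¹ ∈ M) →
      Nat.card M = 4 ∨ Nat.card M = 16 := by
    intro M hMS hDM hM
    have h := modEq_three hx M hM
    rw [show M ⊓ centralizer ({x} : Set L) = D from le_antisymm (inf_le_inf_right _ hMS)
      (le_inf hDM inf_le_right), hD] at h
    have h1 : Nat.card M ∣ 16 := hS ▸ card_dvd_of_le hMS
    have h2 : 4 ≤ Nat.card M := hD ▸ Subgroup.card_le_of_le hDM
    have h3 : Nat.card M ≤ 16 := Nat.le_of_dvd (by norm_num) h1
    rw [Nat.ModEq] at h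
    interval_cases hk : Nat.card M <;> first | omega | norm_num at h1
  -- the normaliser of D in S
  have hDn : ∀ s ∈ S, ∀ d ∈ D, s * d * s⁻¹ ∈ D := by
    have hM : ∀ m ∈ S ⊓ normalizer (D : Set L), x * m * x⁻¹ ∈ S ⊓ normalizer (D : Set L) := by
      intro m hm
      refine ⟨hSn x m hm.1, ?_⟩
      have hxN : x ∈ normalizer (D : Set L) := by
        refine mem_normalizer_iff.2 fun d => ⟨fun hd => by rwa [hxD d hd], fun hd => ?_⟩
        have h3 := hxD _ hd
        rwa [(MulAut.conj x).injective (show x * (x * d * x⁻¹) * x⁻¹ = x * d * x⁻¹ from h3)] at hd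
      exact mul_mem (mul_mem hxN hm.2) (Subgroup.inv_mem _ hxN)
    have hDM : D ≤ S ⊓ normalizer (D : Set L) := le_inf hDS le_normalizer
    rcases invariant _ inf_le_left hDM hM with h | h
    · exfalso
      have heq : D = S ⊓ normalizer (D : Set L) := Subgroup.eq_of_le_of_card_ge hDM (by rw [h, hD])
      haveI : Group.IsNilpotent S :=
        (IsPGroup.of_card (n := 4) (by rw [hS]; norm_num) : IsPGroup 2 S).isNilpotent
      have hlt : D.subgroupOf S < ⊤ := lt_top_iff_ne_top.2 fun e => by
        have := congrArg (fun K : Subgroup S => Nat.card K) e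
        simp only [Nat.card_congr (subgroupOfEquivOfLe hDS).toEquiv, card_top, hD, hS] at this
        omega
      obtain ⟨m, hm, hmD⟩ := SetLike.exists_of_lt (Group.normalizerCondition_of_isNilpotent _ hlt)
      refine hmD ?_
      rw [mem_subgroupOf, heq]
      refine ⟨m.2, mem_normalizer_iff.2 fun d => ?_⟩
      have h1 := mem_normalizer_iff.1 hm
      constructor
      · intro hd
        exact (h1 ⟨d, hDS hd⟩).1 hd
      · intro hd
        have hdS : d ∈ S := by
          have h2 := hSn (m : L)⁻¹ _ (hDS hd)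
          simpa [mul_assoc] using h2
        exact (h1 ⟨d, hdS⟩).2 hd
    · intro s hs d hd
      have heq : S ⊓ normalizer (D : Set L) = S :=
        Subgroup.eq_of_le_of_card_ge inf_le_left (by rw [h, hS])
      exact (mem_normalizer_iff.1 (heq.ge hs).2 d).1 hd
  -- D is centralised
  have hDab : ∀ a ∈ D, ∀ b ∈ D, a * b = b * a := by
    intro a ha b hb
    haveI := IsPGroup.isMulCommutative_of_card_eq_prime_sq (p := 2) (G := D) (by rw [hD]; norm_num)
    exact congrArg Subtype.val (mul_comm' (⟨a, ha⟩ : D) ⟨b, hb⟩)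
  set K := S ⊓ centralizer (D : Set L) with hKdef
  have hK : K = S := by
    have hM : ∀ m ∈ K, x * m * x⁻¹ ∈ K := by
      intro m hm
      refine ⟨hSn x m hm.1, mem_centralizer_iff.2 fun d hd => ?_⟩
      have h1 := (mem_centralizer_iff.1 hm.2) d hd
      conv_lhs => rw [← hxD d hd]
      conv_rhs => rw [← hxD d hd]
      rw [show x * d * x⁻¹ * (x * m * x⁻¹) = x * (d * m) * x⁻¹ by group,
        show x * m * x⁻¹ * (x * d * x⁻¹) = x * (m * d) * x⁻¹ by group, h1]
    have hDK : D ≤ K := le_inf hDS fun a ha => mem_centralizer_iff.2 fun b hb => hDab b hb a ha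
    rcases invariant K inf_le_left hDK hM with h | h
    · exfalso
      -- the conjugation map has image of order at most two
      have hDK' : D = K := Subgroup.eq_of_le_of_card_ge hDK (by rw [h, hD])
      obtain ⟨e, he, hen⟩ : ∃ e ∈ D, e ≠ t ∧ e ≠ 1 ∧ e ^ 4 = 1 := by
        haveI : Fintype D := Fintype.ofFinite _
        have htD : t ∈ D := ⟨htwo t (by rw [show 16 = 2 * 8 by norm_num, pow_mul,
          show t ^ 2 = 1 from ht ▸ pow_orderOf_eq_one t, one_pow]),
          mem_centralizer_singleton_iff.2 ((mem_center_iff.1 htc x).symm)⟩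
        obtain ⟨e, he⟩ : ∃ e : D, e ∉ ({⟨t, htD⟩, 1} : Finset D) := by
          refine not_forall.1 fun hall => ?_
          have := Finset.card_le_card (fun e (_ : e ∈ (Finset.univ : Finset D)) => hall e)
          rw [Finset.card_univ, ← Nat.card_eq_fintype_card, hD] at this
          exact absurd (this.trans Finset.card_le_two) (by norm_num)
        simp only [Finset.mem_insert, Finset.mem_singleton, not_or] at he
        refine ⟨e, e.2, fun h1 => he.1 (Subtype.ext h1), fun h1 => he.2 (Subtype.ext h1), ?_⟩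
        have h4 : (e : D) ^ 4 = 1 := by rw [← hD]; exact pow_card_eq_one'
        exact congrArg Subtype.val h4
      obtain ⟨het, he1, -⟩ := hen
      have htD : t ∈ D := ⟨htwo t (by rw [show 16 = 2 * 8 by norm_num, pow_mul,
          show t ^ 2 = 1 from ht ▸ pow_orderOf_eq_one t, one_pow]),
          mem_centralizer_singleton_iff.2 ((mem_center_iff.1 htc x).symm)⟩
      -- images of e: two possibilities, so the stabiliser has order at least eight
      have hgen : ∀ d ∈ D, d = 1 ∨ d = t ∨ d = e ∨ d = t * e := by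
        intro d hd
        haveI : Fintype D := Fintype.ofFinite _
        have hte : t * e ≠ 1 := fun h1 => het (by
          rw [eq_inv_of_mul_eq_one_right h1]
          exact inv_eq_of_mul_eq_one_right (by rw [← pow_two, ← ht]; exact pow_orderOf_eq_one t))
        have hte2 : t * e ≠ t := fun h1 => he1 (mul_left_cancel (h1.trans (mul_one t).symm))
        have hte3 : t * e ≠ e := fun h1 => by
          have : t = 1 := mul_right_cancel (h1.trans (one_mul e).symm)
          rw [this, orderOf_one] at ht
          norm_num at ht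
        have ht1 : t ≠ 1 := fun h1 => by rw [h1, orderOf_one] at ht; norm_num at ht
        let F : Finset D := {1, ⟨t, htD⟩, ⟨e, he⟩, ⟨t * e, mul_mem htD he⟩}
        have hFu : F = Finset.univ := by
          refine Finset.eq_univ_of_card _ ?_
          rw [← Nat.card_eq_fintype_card, hD]
          simp [F, Subtype.ext_iff, ht1.symm, Ne.symm he1, Ne.symm het, hte.symm, hte2.symm, hte3.symm]
        have := Finset.mem_univ (⟨d, hd⟩ : D)
        rw [← hFu] at this
        simpa [F, Subtype.ext_iff] using this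
      -- the stabiliser of e
      have hKe : S ⊓ centralizer ({e} : Set L) ≤ K := by
        intro s hs
        refine ⟨hs.1, mem_centralizer_iff.2 fun d hd => ?_⟩
        have h1 : Commute e s := (mem_centralizer_singleton_iff.1 hs.2).symm
        have h2 : Commute t s := (mem_center_iff.1 htc s).symm
        rcases hgen d hd with rfl | rfl | rfl | rfl
        · simp
        · exact h2.eq
        · exact h1.eq
        · exact (h2.mul_left h1).eq
      obtain ⟨s, hs, hse⟩ : ∃ s ∈ S, s * e * s⁻¹ ≠ e := by
        by_contra hno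
        push_neg at hno
        have : S ≤ S ⊓ centralizer ({e} : Set L) := fun s hs =>
          ⟨hs, mem_centralizer_singleton_iff.2 (mul_inv_eq_iff_eq_mul.1 (hno s hs))⟩
        have h8 := Subgroup.card_le_of_le (this.trans hKe)
        rw [hS, h] at h8
        omega
      have hs' : s * e * s⁻¹ = t * e := by
        rcases hgen _ (hDn s hs e he) with h1 | h1 | h1 | h1
        · exact absurd (conj_eq_one_iff.1 h1) he1
        · refine absurd ((MulAut.conj s).injective ?_) het
          show s * e * s⁻¹ = s * t * s⁻¹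
          rw [h1, mem_center_iff.1 htc s, mul_inv_cancel_right]
        · exact absurd h1 hse
        · exact h1
      have hidx : ∀ a ∈ S, a ∈ K ∨ s⁻¹ * a ∈ K := by
        intro a ha
        rcases hgen _ (hDn a ha e he) with h1 | h1 | h1 | h1
        · exact absurd (conj_eq_one_iff.1 h1) he1
        · refine absurd ((MulAut.conj a).injective ?_) het
          show a * e * a⁻¹ = a * t * a⁻¹
          rw [h1, mem_center_iff.1 htc a, mul_inv_cancel_right]
        · exact Or.inl (hKe ⟨ha, mem_centralizer_singleton_iff.2 (mul_inv_eq_iff_eq_mul.1 h1)⟩)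
        · refine Or.inr (hKe ⟨mul_mem (Subgroup.inv_mem _ hs) ha, mem_centralizer_singleton_iff.2 ?_⟩)
          refine mul_inv_eq_iff_eq_mul.1 ?_
          rw [show s⁻¹ * a * e * (s⁻¹ * a)⁻¹ = s⁻¹ * (a * e * a⁻¹) * s by group, h1, ← hs']
          group
      -- so S is covered by two cosets of K
      haveI : Fintype S := Fintype.ofFinite _
      haveI : Fintype K := Fintype.ofFinite _
      let f : K ⊕ K → S := Sum.elim (fun k => ⟨k, k.2.1⟩) (fun k => ⟨s * k, mul_mem hs k.2.1⟩)
      have hf : Function.Surjective f := by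
        rintro ⟨a, ha⟩
        rcases hidx a ha with h1 | h1
        · exact ⟨Sum.inl ⟨a, h1⟩, rfl⟩
        · exact ⟨Sum.inr ⟨_, h1⟩, Subtype.ext (by simp [f])⟩
      have := Nat.card_le_card_of_surjective f hf
      rw [hS, Nat.card_sum, h] at this
      omega
    · exact Subgroup.eq_of_le_of_card_ge inf_le_left (by rw [h, hS])
  have htD : t ∈ D := ⟨htwo t (by rw [show 16 = 2 * 8 by norm_num, pow_mul,
      show t ^ 2 = 1 from ht ▸ pow_orderOf_eq_one t, one_pow]),
      mem_centralizer_singleton_iff.2 ((mem_center_iff.1 htc x).symm)⟩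
  refine ⟨D, hD, inf_le_right, fun d hd => mem_center_iff.2 fun g => ?_, htD, fun g hg => ?_⟩
  · -- every element is a product of an element of S and a power of x
    obtain ⟨⟨⟨s, hs⟩, ⟨p, hp⟩⟩, hsp⟩ := hcomp.surjective g
    simp only at hsp
    have h1 : Commute s d := ((mem_centralizer_iff.1 (hK.ge hs).2) d hd).symm
    obtain ⟨k, rfl⟩ := mem_zpowers_iff.1 (show p ∈ zpowers x from hp)
    have h2 : Commute x d := (mem_centralizer_singleton_iff.1 hd.2).symm
    rw [← hsp]
    exact (h1.mul_left (h2.zpow_left k)).eq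
  · -- squares
    have hgS : g ∈ S := htwo g (by rw [show 16 = 4 * 4 by norm_num, pow_mul, hg, one_pow])
    obtain ⟨M, hMcard, hDM⟩ : ∃ M : Subgroup S, Nat.card M = 2 ^ 3 ∧ D.subgroupOf S ≤ M :=
      Sylow.exists_subgroup_card_pow_prime_le 2 (by rw [hS]; norm_num) (D.subgroupOf S)
        (n := 2) (by rw [Nat.card_congr (subgroupOfEquivOfLe hDS).toEquiv, hD]; norm_num) (by norm_num)
    set M₁ := M.map S.subtype with hM₁def
    have hM₁S : M₁ ≤ S := map_subtype_le M
    have hM₁ : Nat.card M₁ = 8 := by rw [hM₁def, card_map_of_injective S.subtype_injective, hMcard]; norm_num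
    have hDM₁ : D ≤ M₁ := fun d hd => ⟨⟨d, hDS hd⟩, hDM (mem_subgroupOf.2 hd), rfl⟩
    let K' : Subgroup L := S ⊓ M₁ ⊓ M₁.map (MulAut.conj x).toMonoidHom ⊓
      M₁.map (MulAut.conj (x * x)).toMonoidHom
    have hmap : ∀ (c : L) (m : L), m ∈ M₁.map (MulAut.conj c).toMonoidHom ↔ c⁻¹ * m * c ∈ M₁ := by
      intro c m
      constructor
      · rintro ⟨a, ha, rfl⟩
        simpa [mul_assoc] using ha
      · intro h1
        exact ⟨_, h1, by simp [mul_assoc]⟩
    have h3 : x * x * x = 1 := by
      have := pow_orderOf_eq_one x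
      rw [hx] at this
      simpa [pow_succ] using this
    have hK'inv : ∀ m ∈ K', x * m * x⁻¹ ∈ K' := by
      rintro m ⟨⟨⟨hmS, hm0⟩, hm1⟩, hm2⟩
      replace hm1 := (hmap _ _).1 hm1
      replace hm2 := (hmap _ _).1 hm2
      refine ⟨⟨⟨hSn x m hmS, ?_⟩, (hmap _ _).2 ?_⟩, (hmap _ _).2 ?_⟩
      · have hxx : (x * x)⁻¹ = x := inv_eq_of_mul_eq_one_right h3
        have hxi : x⁻¹ = x * x := inv_eq_of_mul_eq_one_right (by rw [← mul_assoc, h3])
        rw [hxx] at hm2
        rw [hxi]
        exact hm2
      · rw [show x⁻¹ * (x * m * x⁻¹) * x = m by group]; exact hm0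
      · rw [show (x * x)⁻¹ * (x * m * x⁻¹) * (x * x) = x⁻¹ * m * x by group]; exact hm1
    have hDK' : D ≤ K' := by
      intro d hd
      have hcd : ∀ c : L, Commute x c → Commute c d → c⁻¹ * d * c ∈ M₁ := fun c _ hc => by
        rw [mul_assoc, ← hc.eq, inv_mul_cancel_left]; exact hDM₁ hd
      have h2 : Commute x d := (mem_centralizer_singleton_iff.1 hd.2).symm
      exact ⟨⟨⟨hDS hd, hDM₁ hd⟩, (hmap _ _).2 (hcd x (Commute.refl x) h2)⟩,
        (hmap _ _).2 (hcd (x * x) ((Commute.refl x).mul_right (Commute.refl x)) (h2.mul_left h2))⟩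
    have hK' : Nat.card K' = 4 := by
      have hle : K' ≤ M₁ := fun m hm => hm.1.1.2
      rcases invariant K' (fun m hm => hm.1.1.1) hDK' hK'inv with h | h
      · exact h
      · have := Subgroup.card_le_of_le hle
        omega
    have heq : D = K' := Subgroup.eq_of_le_of_card_ge hDK' (by rw [hK', hD])
    rw [heq]
    have hsqM : ∀ a ∈ S, a * a ∈ M₁ := fun a ha => sq_mem hM₁S (by rw [hS, hM₁]) ha
    refine ⟨⟨⟨mul_mem hgS hgS, hsqM g hgS⟩, (hmap _ _).2 ?_⟩, (hmap _ _).2 ?_⟩
    · rw [show x⁻¹ * (g * g) * x = (x⁻¹ * g * x⁻¹⁻¹) * (x⁻¹ * g * x⁻¹⁻¹) by group]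
      exact hsqM _ (hSn _ g hgS)
    · rw [show (x * x)⁻¹ * (g * g) * (x * x) =
        ((x * x)⁻¹ * g * (x * x)⁻¹⁻¹) * ((x * x)⁻¹ * g * (x * x)⁻¹⁻¹) by simp [mul_assoc]]
      exact hsqM _ (hSn _ g hgS)

/-- The structure of such a group. -/
theorem structure48 (hL : Nat.card L = 48) {t : L} (htc : t ∈ center L) (ht : orderOf t = 2)
    (h8 : ∀ x : L, orderOf x = 3 → ∀ D : Subgroup L, IsPGroup 2 D →
      D ≤ centralizer ({x} : Set L) → Nat.card D ≤ 4) :
    (∃ x : L, orderOf x = 3 ∧ ∃ D : Subgroup L, Nat.card D = 4 ∧ D ≤ centralizer ({x} : Set L) ∧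
      D ≤ center L ∧ t ∈ D ∧ ∀ g : L, g ^ 4 = 1 → g * g ∈ D) ∨
    Nonempty (L ≃* GL (Fin 2) (ZMod 3)) ∨
    (∀ P : Sylow 2 L, Nonempty (↥(P : Subgroup L) ≃* QuaternionGroup 4)) ∨
    (∃ Q : Subgroup L, Nat.card Q = 8 ∧ Q.Normal ∧ t ∈ Q ∧ (∀ q ∈ Q, q * q = 1) ∧
      centralizer (Q : Set L) ≤ Q ∧
      (∀ P : Sylow 2 L, Q ≤ P) ∧
      ∃ x : L, orderOf x = 3 ∧ Q ⊓ centralizer ({x} : Set L) = zpowers t) := by
  classical
  haveI : Fact (Nat.Prime 3) := ⟨Nat.prime_three⟩
  haveI : Fact (Nat.Prime 2) := ⟨Nat.prime_two⟩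
  obtain ⟨x, hx⟩ := exists_prime_orderOf_dvd_card' (G := L) 3 (by rw [hL]; norm_num)
  have hcT : Nat.card (zpowers x) = 3 := by rw [Nat.card_zpowers, hx]
  set C := centralizer ({x} : Set L) with hCdef
  set N := normalizer (zpowers x : Set L) with hNdef
  have hxC : x ∈ C := mem_centralizer_singleton_iff.2 rfl
  have htC : t ∈ C := mem_centralizer_singleton_iff.2 ((mem_center_iff.1 htc x).symm)
  have hCN : C ≤ N := fun g hg => mem_normalizer_iff.2 fun h => by
    have hc : Commute g x := mem_centralizer_singleton_iff.1 hg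
    constructor
    · intro hh
      obtain ⟨k, rfl⟩ := mem_zpowers_iff.1 hh
      rw [(hc.zpow_right k).eq, mul_inv_cancel_right]
      exact zpow_mem (mem_zpowers x) k
    · intro hh
      obtain ⟨k, hk⟩ := mem_zpowers_iff.1 hh
      have h2 : g * h * g⁻¹ = g * x ^ k * g⁻¹ := by
        rw [← hk, (hc.zpow_right k).eq, mul_inv_cancel_right]
      rw [(MulAut.conj g).injective h2]
      exact zpow_mem (mem_zpowers x) k
  have hC6 : 6 ∣ Nat.card C := by
    have h2 : 2 ∣ Nat.card C := ht ▸ Subgroup.orderOf_dvd_natCard C htC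
    have h3 : 3 ∣ Nat.card C := hx ▸ Subgroup.orderOf_dvd_natCard C hxC
    exact Nat.Coprime.mul_dvd_of_dvd_of_dvd (by norm_num : Nat.Coprime 2 3) h2 h3
  have hC12 : Nat.card C = 6 ∨ Nat.card C = 12 := by
    obtain ⟨Q⟩ : Nonempty (Sylow 2 C) := inferInstance
    have hQ := h8 x hx ((Q : Subgroup C).map C.subtype) (Q.2.map _) (map_subtype_le _)
    rw [card_map_of_injective C.subtype_injective, Sylow.card_eq_multiplicity] at hQ
    have hd : Nat.card C ∣ 48 := hL ▸ card_subgroup_dvd_card C
    have := Nat.le_of_dvd (by norm_num) hd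
    obtain ⟨k, hk⟩ := hC6
    have hk8 : k ≤ 8 := by omega
    interval_cases k
    · exact absurd hk Nat.card_pos.ne'
    · exact Or.inl hk
    · exact Or.inr hk
    · rw [hk] at hd; norm_num at hd
    · rw [hk, show 6 * 4 = 2 ^ 3 * 3 by norm_num, Nat.factorization_mul (by norm_num) (by norm_num),
        Finsupp.add_apply, Nat.Prime.factorization_pow Nat.prime_two, Finsupp.single_eq_same] at hQ
      have : 2 ^ 3 ≤ 2 ^ (3 + (Nat.factorization 3) 2) := Nat.pow_le_pow_right (by norm_num) (by omega)
      omega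
    · rw [hk] at hd; norm_num at hd
    · rw [hk] at hd; norm_num at hd
    · rw [hk] at hd; norm_num at hd
    · rw [hk, show 6 * 8 = 2 ^ 4 * 3 by norm_num, Nat.factorization_mul (by norm_num) (by norm_num),
        Finsupp.add_apply, Nat.Prime.factorization_pow Nat.prime_two, Finsupp.single_eq_same] at hQ
      have : 2 ^ 4 ≤ 2 ^ (4 + (Nat.factorization 3) 2) := Nat.pow_le_pow_right (by norm_num) (by omega)
      omega
  -- the centraliser has index at most two in the normaliser
  have hNC : Nat.card N ≤ 2 * Nat.card C := by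
    have hcase : ∀ g ∈ N, g * x * g⁻¹ = x ∨ g * x * g⁻¹ = x⁻¹ := by
      intro g hg
      obtain ⟨k, hk⟩ := mem_zpowers_iff.1 ((mem_normalizer_iff.1 hg x).1 (mem_zpowers x))
      have hm : x ^ k = x ^ (k % 3) := by
        have := zpow_mod_orderOf x k
        rw [hx] at this
        exact_mod_cast this.symm
      have : k % 3 = 0 ∨ k % 3 = 1 ∨ k % 3 = 2 := by omega
      rcases this with h | h | h <;> rw [h] at hm
      · rw [hm, zpow_zero] at hk
        exact absurd (conj_eq_one_iff.1 hk.symm) (fun e => by rw [e, orderOf_one] at hx; norm_num at hx)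
      · exact Or.inl (by rw [← hk, hm, zpow_one])
      · refine Or.inr (by
          rw [← hk, hm, show (2 : ℤ) = ((2 : ℕ) : ℤ) by norm_num, zpow_natCast]
          exact eq_inv_of_mul_eq_one_left (by
            have := pow_orderOf_eq_one x
            rw [hx, pow_succ] at this
            exact this))
    by_cases hn : ∀ g ∈ N, g * x * g⁻¹ = x
    · have : N ≤ C := fun g hg => mem_centralizer_singleton_iff.2 (mul_inv_eq_iff_eq_mul.1 (hn g hg))
      have := Subgroup.card_le_of_le this
      omega
    · push_neg at hn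
      obtain ⟨s, hs, hsx⟩ := hn
      have hs' := (hcase s hs).resolve_left hsx
      let f : C ⊕ C → N := Sum.elim (fun k => ⟨k, hCN k.2⟩) (fun k => ⟨s * k, mul_mem hs (hCN k.2)⟩)
      have hf : Function.Surjective f := by
        rintro ⟨a, ha⟩
        rcases hcase a ha with h1 | h1
        · exact ⟨Sum.inl ⟨a, mem_centralizer_singleton_iff.2 (mul_inv_eq_iff_eq_mul.1 h1)⟩, rfl⟩
        · refine ⟨Sum.inr ⟨s⁻¹ * a, mem_centralizer_singleton_iff.2 (mul_inv_eq_iff_eq_mul.1 ?_)⟩,
            Subtype.ext (by simp [f])⟩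
          rw [show s⁻¹ * a * x * (s⁻¹ * a)⁻¹ = s⁻¹ * (a * x * a⁻¹) * s by group, h1, ← hs']
          group
      have := Nat.card_le_card_of_surjective f hf
      rw [Nat.card_sum] at this
      omega
  have hN : Nat.card N = 12 := by
    let P : Sylow 3 L := Sylow.ofCard (zpowers x) (by
      rw [hcT, hL, show (48 : ℕ) = 3 * 16 by norm_num,
        Nat.factorization_mul (by norm_num) (by norm_num), Finsupp.add_apply,
        Nat.Prime.factorization_self Nat.prime_three,
        Nat.factorization_eq_zero_of_not_dvd (by norm_num : ¬ 3 ∣ 16)]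
      norm_num)
    have h := card_sylow_modEq_one 3 L
    rw [P.card_eq_index_normalizer] at h
    have hmul := card_mul_index N
    change Nat.ModEq 3 N.index 1 at h
    rw [hL] at hmul
    have h6 : 6 ≤ Nat.card N := le_trans (Nat.le_of_dvd Nat.card_pos hC6) (Subgroup.card_le_of_le hCN)
    have hle : Nat.card N ≤ 24 := le_trans hNC (by omega)
    rw [Nat.ModEq] at h
    have : N.index ≤ 8 := by nlinarith
    interval_cases hi : N.index <;> omega
  rcases hC12 with hC | hC
  swap
  · left
    refine ⟨x, hx, case_twelve hL htc ht hx ?_ hC⟩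
    exact (Subgroup.eq_of_le_of_card_ge hCN (by omega)).ge
  right
  -- the Sylow two-subgroups
  obtain ⟨P₀⟩ : Nonempty (Sylow 2 L) := inferInstance
  have hP16 : ∀ P : Sylow 2 L, Nat.card P = 16 := by
    intro P
    rw [Sylow.card_eq_multiplicity, hL, show (48 : ℕ) = 2 ^ 4 * 3 by norm_num,
      Nat.factorization_mul (by norm_num) (by norm_num), Finsupp.add_apply,
      Nat.Prime.factorization_pow Nat.prime_two, Finsupp.single_eq_same,
      Nat.factorization_eq_zero_of_not_dvd (by norm_num : ¬ 2 ∣ 3)]
    norm_num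
  have hnn : ¬ ∃ P : Sylow 2 L, (P : Subgroup L).Normal := by
    rintro ⟨P, hP⟩
    have h := modEq_three hx (P : Subgroup L) fun m hm => hP.conj_mem m hm x
    have h1 : Nat.card ↥((P : Subgroup L) ⊓ C) ∣ 16 := hP16 P ▸ card_dvd_of_le inf_le_left
    have h2 : Nat.card ↥((P : Subgroup L) ⊓ C) ∣ 6 := hC ▸ card_dvd_of_le inf_le_right
    have h3 : Nat.card ↥((P : Subgroup L) ⊓ C) ∣ 2 := Nat.dvd_gcd h1 h2
    have ht2 : 2 ≤ Nat.card ↥((P : Subgroup L) ⊓ C) := by
      have htP : t ∈ (P : Subgroup L) := by
        have h2' : IsPGroup 2 (zpowers t) := IsPGroup.of_card (n := 1) (by rw [Nat.card_zpowers, ht, pow_one])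
        obtain ⟨R, hR⟩ := h2'.exists_le_sylow
        haveI := hP
        haveI : Subsingleton (Sylow 2 L) := (Sylow.unique_of_normal P hP).instSubsingleton
        rw [Subsingleton.elim P R]
        exact hR (mem_zpowers t)
      have := Nat.le_of_dvd Nat.card_pos
        (Subgroup.orderOf_dvd_natCard ((P : Subgroup L) ⊓ C) (x := t) ⟨htP, htC⟩)
      rwa [ht] at this
    have := Nat.le_of_dvd (by norm_num) h3
    rw [Nat.ModEq, hP16, ← hCdef, show Nat.card ↥((P : Subgroup L) ⊓ C) = 2 by omega] at h
    norm_num at h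
  have hn3 : Nat.card (Sylow 2 L) = 3 := by
    have h1 : Nat.card (Sylow 2 L) ≠ 1 := fun h => by
      haveI := (Nat.card_eq_one_iff_unique.1 h).1
      exact hnn ⟨P₀, P₀.normal_of_subsingleton⟩
    have h2 : Nat.card (Sylow 2 L) ∣ 3 := by
      have := P₀.card_dvd_index
      have hi := card_mul_index (P₀ : Subgroup L)
      rw [hP16, hL] at hi
      rwa [show (P₀ : Subgroup L).index = 3 by omega] at this
    exact ((Nat.dvd_prime Nat.prime_three).1 h2).resolve_left h1
  set φ := MulAction.toPermHom L (Sylow 2 L) with hφ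
  set Q := φ.ker with hQdef
  have hrange : Nat.card Q * Nat.card φ.range = 48 := by
    rw [← hL, ← Subgroup.index_ker, Subgroup.card_mul_index]
  have hr6 : Nat.card φ.range ∣ 6 := by
    have := card_subgroup_dvd_card φ.range
    rwa [Nat.card_perm, hn3] at this
  have hr3 : 3 ∣ Nat.card φ.range := by
    haveI : MulAction.IsPretransitive φ.range (Sylow 2 L) := ⟨fun a b => by
      obtain ⟨g, hg⟩ := MulAction.exists_smul_eq L a b
      exact ⟨⟨φ g, g, rfl⟩, hg⟩⟩
    rw [← hn3, ← MulAction.index_stabilizer_of_transitive (G := φ.range) P₀]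
    exact index_dvd_card _
  have hQle : ∀ P : Sylow 2 L, IsPGroup 2 Q → Q ≤ P := by
    intro P hQ2 q hq
    have hfix : q • P = P := by
      have := MonoidHom.mem_ker.1 hq
      exact congrArg (fun f : Equiv.Perm (Sylow 2 L) => f P) this
    have hmem : q ∈ Q ⊓ normalizer (P : Set L) := ⟨hq, Sylow.smul_eq_iff_mem_normalizer.1 hfix⟩
    rw [hQ2.inf_normalizer_sylow P] at hmem
    exact hmem.2
  have hQ8 : Nat.card Q = 8 := by
    have := Nat.le_of_dvd (by norm_num) hr6
    obtain ⟨k, hk⟩ := hr3
    have : k ≤ 2 := by omega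
    interval_cases k
    · exact absurd hk Nat.card_pos.ne'
    · exfalso
      rw [hk] at hrange
      have h16 : Nat.card Q = 16 := by omega
      have hQ2 : IsPGroup 2 Q := IsPGroup.of_card (n := 4) (by rw [h16]; norm_num)
      refine hnn ⟨P₀, ?_⟩
      rw [← Subgroup.eq_of_le_of_card_ge (hQle P₀ hQ2) (by rw [h16, hP16])]
      infer_instance
    · rw [hk] at hrange; omega
  have hQ2 : IsPGroup 2 Q := IsPGroup.of_card (n := 3) (by rw [hQ8]; norm_num)
  have htQ : t ∈ Q := by
    refine MonoidHom.mem_ker.2 (Equiv.ext fun P => ?_)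
    show t • P = P
    refine Sylow.smul_eq_iff_mem_normalizer.2 (centralizer_le_normalizer _ ?_)
    exact mem_centralizer_iff.2 fun h _ => mem_center_iff.1 htc h
  have hQC : Q ⊓ C = zpowers t := by
    refine (Subgroup.eq_of_le_of_card_ge (le_inf (zpowers_le.2 htQ) (zpowers_le.2 htC)) ?_).symm
    have h1 : Nat.card ↥(Q ⊓ C) ∣ 8 := hQ8 ▸ card_dvd_of_le inf_le_left
    have h2 : Nat.card ↥(Q ⊓ C) ∣ 6 := hC ▸ card_dvd_of_le inf_le_right
    have := Nat.le_of_dvd (by norm_num) (Nat.dvd_gcd h1 h2)
    rw [Nat.card_zpowers, ht]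
    exact this
  by_cases huniq : ∀ w ∈ Q, w * w = 1 → w = 1 ∨ w = t
  · -- Sylow intersections have rank one
    haveI : Group.IsSolvable L := Char.isSolvable_of_card_pq 2 3 Nat.prime_two Nat.prime_three _ L rfl
      ⟨4, 1, by rw [hL]; norm_num⟩
    have hO : Cfsg.oddCore L = ⊥ := by
      by_contra hne
      haveI := GW.oddCore_normal (X := L)
      have hodd := GW.oddCore_odd (X := L)
      have hd : Nat.card (Cfsg.oddCore L) ∣ 3 := by
        have h1 : Nat.card (Cfsg.oddCore L) ∣ 16 * 3 := by
          rw [show 16 * 3 = 48 by norm_num, ← hL]; exact card_subgroup_dvd_card _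
        exact (Nat.Coprime.dvd_of_dvd_mul_left
          (Nat.Coprime.pow_right 4 (Nat.coprime_two_right.2 hodd)) (by simpa using h1))
      have h3 : Nat.card (Cfsg.oddCore L) = 3 :=
        ((Nat.dvd_prime Nat.prime_three).1 hd).resolve_left
          (fun h => hne (Subgroup.card_eq_one.1 h))
      let P : Sylow 3 L := Sylow.ofCard (Cfsg.oddCore L) (by
        rw [h3, hL, show (48 : ℕ) = 3 * 16 by norm_num,
          Nat.factorization_mul (by norm_num) (by norm_num), Finsupp.add_apply,
          Nat.Prime.factorization_self Nat.prime_three,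
          Nat.factorization_eq_zero_of_not_dvd (by norm_num : ¬ 3 ∣ 16)]
        norm_num)
      let R : Sylow 3 L := Sylow.ofCard (zpowers x) (by
        rw [hcT, hL, show (48 : ℕ) = 3 * 16 by norm_num,
          Nat.factorization_mul (by norm_num) (by norm_num), Finsupp.add_apply,
          Nat.Prime.factorization_self Nat.prime_three,
          Nat.factorization_eq_zero_of_not_dvd (by norm_num : ¬ 3 ∣ 16)]
        norm_num)
      haveI : Subsingleton (Sylow 3 L) := (Sylow.unique_of_normal P ‹_›).instSubsingleton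
      have : N = ⊤ := by
        rw [hNdef, show (zpowers x : Set L) = ((R : Subgroup L) : Set L) from rfl, Subsingleton.elim R P]
        exact normalizer_eq_top_iff.2 ‹_›
      rw [this, card_top, hL] at hN
      norm_num at hN
    have hI : ∀ S T : Sylow 2 L, S ≠ T → Cfsg.PRankLE 2 1 ↥((S : Subgroup L) ⊓ (T : Subgroup L)) := by
      intro S T hne
      have hle : Q ≤ (S : Subgroup L) ⊓ (T : Subgroup L) := le_inf (hQle S hQ2) (hQle T hQ2)
      have heq : Q = (S : Subgroup L) ⊓ (T : Subgroup L) := by
        refine Subgroup.eq_of_le_of_card_ge hle ?_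
        have h1 : Nat.card ↥((S : Subgroup L) ⊓ (T : Subgroup L)) ∣ 16 :=
          hP16 S ▸ card_dvd_of_le inf_le_left
        have h2 : Nat.card ↥((S : Subgroup L) ⊓ (T : Subgroup L)) ≠ 16 := fun h => hne (Sylow.ext
          ((Subgroup.eq_of_le_of_card_ge inf_le_left (by rw [h, hP16 S])).symm.trans
            (Subgroup.eq_of_le_of_card_ge inf_le_right (by rw [h, hP16 T]))))
        rw [hQ8]
        have h4 := Nat.le_of_dvd (by norm_num) h1
        by_contra h8'
        push_neg at h8'
        interval_cases hc : Nat.card ↥((S : Subgroup L) ⊓ (T : Subgroup L)) <;>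
          first | omega | norm_num at h1
      intro A hA hA2
      have hsub : A ≤ (zpowers t).subgroupOf _ := by
        intro a ha
        rw [mem_subgroupOf]
        have h1 : ((a : L)) * (a : L) = 1 := by
          have := congrArg Subtype.val (hA2 a ha)
          simpa [pow_two] using this
        rcases huniq (a : L) (heq.ge a.2) h1 with h | h <;> rw [h]
        · exact one_mem _
        · exact mem_zpowers t
      have h2 := Subgroup.card_le_of_le hsub
      rw [pow_one]
      refine h2.trans ?_
      have hle2 : zpowers t ≤ (S : Subgroup L) ⊓ (T : Subgroup L) := (zpowers_le.2 htQ).trans hle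
      rw [Nat.card_congr (subgroupOfEquivOfLe hle2).toEquiv, Nat.card_zpowers, ht]
    rcases FGStruct.QuatFortyEight.structure_core_free hO hI hnn with h | ⟨-, -, -, h⟩
    · exact Or.inl h
    · exact Or.inr (Or.inl h)
  right; right
  push_neg at huniq
  obtain ⟨w, hwQ, hww, hw1, hwt⟩ := huniq
  refine ⟨Q, hQ8, inferInstance, htQ, ?_, ?_, fun P => hQle P hQ2, x, hx, hQC⟩
  · -- all elements square to one
    have htt : t * t = 1 := by rw [← pow_two, ← ht]; exact pow_orderOf_eq_one t
    have h3 : x ^ 3 = 1 := by rw [← hx]; exact pow_orderOf_eq_one x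
    let c : ℕ → L := fun i => x ^ i * w * (x ^ i)⁻¹
    have hcQ : ∀ i, c i ∈ Q := fun i => (inferInstance : φ.ker.Normal).conj_mem w hwQ (x ^ i)
    have hnotC : w ∉ C := fun h => by
      have : w ∈ zpowers t := hQC ▸ ⟨hwQ, h⟩
      obtain ⟨k, rfl⟩ := mem_zpowers_iff.1 this
      rcases Int.even_or_odd' k with ⟨m, rfl | rfl⟩
      · exact hw1 (by rw [zpow_mul, zpow_two, htt, one_zpow])
      · exact hwt (by rw [zpow_add, zpow_mul, zpow_two, htt, one_zpow, one_mul, zpow_one])
    have hx1 : c 1 ≠ w := fun h => hnotC (mem_centralizer_singleton_iff.2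
      (mul_inv_eq_iff_eq_mul.1 (by simpa [c] using h)).symm)
    have hxt : c 1 ≠ t * w := by
      intro h
      have e1 : x * w * x⁻¹ = t * w := by simpa [c] using h
      have htx : x * t * x⁻¹ = t := mul_inv_eq_iff_eq_mul.2 (mem_center_iff.1 htc x)
      have e2 : x * (t * w) * x⁻¹ = w := by
        rw [show x * (t * w) * x⁻¹ = (x * t * x⁻¹) * (x * w * x⁻¹) by group, htx, e1, ← mul_assoc,
          htt, one_mul]
      have e3 : x ^ 3 * w * (x ^ 3)⁻¹ = t * w := by
        rw [conj_pow_three, e1, e2, e1]
      rw [h3] at e3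
      simp only [one_mul, inv_one, mul_one] at e3
      have : t = 1 := mul_right_cancel (e3.symm.trans (one_mul w).symm)
      rw [this, orderOf_one] at ht
      norm_num at ht
    have hsq : ∀ i, c i * c i = 1 ∧ (t * c i) * (t * c i) = 1 := by
      intro i
      have h1 : c i * c i = 1 := by
        rw [show c i * c i = x ^ i * (w * w) * (x ^ i)⁻¹ by simp [c, mul_assoc], hww, mul_one, mul_inv_cancel]
      refine ⟨h1, ?_⟩
      have hc : Commute t (c i) := (mem_center_iff.1 htc (c i)).symm
      rw [hc.symm.mul_mul_mul_comm t (c i), htt, h1, one_mul]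
    haveI : Fintype Q := Fintype.ofFinite _
    let f : Fin 3 × Fin 2 → L := fun p => t ^ (p.2 : ℕ) * c p.1
    have hconj : ∀ i a b : L, i * (a * b) * i⁻¹ = (i * a * i⁻¹) * (i * b * i⁻¹) := fun i a b => by group
    have hne2 : ∀ i j : ℕ, i < 3 → j < 3 → (c i = c j ∨ c i = t * c j) → i = j := by
      have key : ∀ i d : ℕ, c (i + d) = c i ∨ c (i + d) = t * c i → c d = w ∨ c d = t * w := by
        intro i d h
        have hh : ∀ y : L, x ^ i * y * (x ^ i)⁻¹ = c i → y = w := fun y hy =>
          (MulAut.conj (x ^ i)).injective hy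
        have hs : c (i + d) = x ^ i * c d * (x ^ i)⁻¹ := by simp [c, pow_add, mul_assoc]
        rcases h with h | h
        · exact Or.inl (hh _ (hs ▸ h))
        · right
          refine (MulAut.conj (x ^ i)).injective ?_
          show x ^ i * c d * (x ^ i)⁻¹ = x ^ i * (t * w) * (x ^ i)⁻¹
          rw [← hs, h, hconj, mem_center_iff.1 htc (x ^ i), mul_inv_cancel_right]
      have hd : ∀ d, d = 1 ∨ d = 2 → ¬ (c d = w ∨ c d = t * w) := by
        rintro d (rfl | rfl) h
        · exact h.elim hx1 hxt
        · have hi : x ^ 2 = x⁻¹ := eq_inv_of_mul_eq_one_left (by rw [← pow_succ, h3])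
          simp only [c, hi, inv_inv] at h
          rcases h with h | h
          · apply hx1
            show x ^ 1 * w * (x ^ 1)⁻¹ = w
            conv_lhs => rw [← h]
            simp [pow_one, mul_assoc]
          · apply hxt
            show x ^ 1 * w * (x ^ 1)⁻¹ = t * w
            have e : x * (x⁻¹ * w * x) * x⁻¹ = x * (t * w) * x⁻¹ := by rw [h]
            rw [show x * (x⁻¹ * w * x) * x⁻¹ = w by group, hconj, mem_center_iff.1 htc x,
              mul_inv_cancel_right] at e
            rw [pow_one]
            calc x * w * x⁻¹ = t * (t * (x * w * x⁻¹)) := by rw [← mul_assoc, htt, one_mul]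
              _ = t * w := by rw [← e]
      intro i j hi hj h
      by_contra hij
      rcases lt_or_gt_of_ne hij with hlt | hlt
      · refine hd (j - i) (by omega) (key i (j - i) ?_)
        rw [Nat.add_sub_cancel' hlt.le]
        rcases h with h | h
        · exact Or.inl h.symm
        · exact Or.inr (by rw [h, ← mul_assoc, htt, one_mul])
      · exact hd (i - j) (by omega) (key j (i - j) (by rwa [Nat.add_sub_cancel' hlt.le]))
    let F : Finset L := Finset.univ.image f ∪ {1, t}
    have hinj : Function.Injective f := by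
      rintro ⟨i, a⟩ ⟨j, b⟩ h
      have hij : i = j := by
        refine Fin.ext (hne2 i j i.2 j.2 ?_)
        fin_cases a <;> fin_cases b <;> simp [f] at h
        · exact Or.inl h
        · exact Or.inr h
        · exact Or.inr (by rw [← h, ← mul_assoc, htt, one_mul])
        · exact Or.inl h
      subst hij
      have ht1 : t ≠ 1 := fun e => by rw [e, orderOf_one] at ht; norm_num at ht
      fin_cases a <;> fin_cases b <;> simp [f] at h ⊢ <;>
        exact absurd h (by simpa using ht1)
    have hout : ∀ p, f p ≠ 1 ∧ f p ≠ t := by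
      rintro ⟨i, a⟩
      have hc1 : c i ≠ 1 := fun h => hw1 (conj_eq_one_iff.1 h)
      have hct : c i ≠ t := fun h => hwt ((MulAut.conj (x ^ (i : ℕ))).injective
        (show x ^ (i : ℕ) * w * (x ^ (i : ℕ))⁻¹ = x ^ (i : ℕ) * t * (x ^ (i : ℕ))⁻¹ by
          rw [mem_center_iff.1 htc, mul_inv_cancel_right]; exact h))
      fin_cases a <;> simp [f]
      · exact ⟨hc1, hct⟩
      · refine ⟨fun h => hct ?_, hc1⟩
        rw [eq_inv_of_mul_eq_one_right h]
        exact inv_eq_of_mul_eq_one_right htt
    have hFcard : F.card = 8 := by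
      rw [Finset.card_union_of_disjoint, Finset.card_image_of_injective _ hinj, Finset.card_univ,
        Fintype.card_prod, Fintype.card_fin, Fintype.card_fin, Finset.card_pair]
      · intro e; rw [← e, orderOf_one] at ht; norm_num at ht
      · rw [Finset.disjoint_left]
        intro y hy hy'
        obtain ⟨p, -, rfl⟩ := Finset.mem_image.1 hy
        simp only [Finset.mem_insert, Finset.mem_singleton] at hy'
        exact hy'.elim (hout p).1 (hout p).2
    intro q hq
    have hsub : F ⊆ (Q : Set L).toFinite.toFinset := by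
      intro y hy
      rw [Set.Finite.mem_toFinset]
      rcases Finset.mem_union.1 hy with hy | hy
      · obtain ⟨p, -, rfl⟩ := Finset.mem_image.1 hy
        exact mul_mem (pow_mem htQ _) (hcQ _)
      · simp only [Finset.mem_insert, Finset.mem_singleton] at hy
        rcases hy with rfl | rfl
        · exact one_mem _
        · exact htQ
    have heq : F = (Q : Set L).toFinite.toFinset := by
      refine Finset.eq_of_subset_of_card_le hsub ?_
      rw [← Set.ncard_eq_toFinset_card _ (Q : Set L).toFinite, ← Nat.card_coe_set_eq, hFcard]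
      exact le_of_eq hQ8
    have hqF : q ∈ F := heq ▸ (Set.Finite.mem_toFinset _).2 hq
    rcases Finset.mem_union.1 hqF with hy | hy
    · obtain ⟨⟨i, a⟩, -, rfl⟩ := Finset.mem_image.1 hy
      fin_cases a <;> simp [f]
      · exact (hsq i).1
      · exact (hsq i).2
    · simp only [Finset.mem_insert, Finset.mem_singleton] at hy
      rcases hy with rfl | rfl
      · simp
      · exact htt
  · -- the centraliser
    haveI hQn : Q.Normal := inferInstance
    haveI : (centralizer (Q : Set L)).Normal := Subgroup.normal_centralizer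
    have h2 : IsPGroup 2 (centralizer (Q : Set L)) := by
      by_cases h3 : 3 ∣ Nat.card (centralizer (Q : Set L))
      · exfalso
        obtain ⟨y, hy⟩ := exists_prime_orderOf_dvd_card' (G := centralizer (Q : Set L)) 3 h3
        rw [← Subgroup.orderOf_coe] at hy
        have hf : (Nat.card L).factorization 3 = 1 := by
          rw [hL, show (48 : ℕ) = 3 * 16 by norm_num,
            Nat.factorization_mul (by norm_num) (by norm_num), Finsupp.add_apply,
            Nat.Prime.factorization_self Nat.prime_three,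
            Nat.factorization_eq_zero_of_not_dvd (by norm_num : ¬ 3 ∣ 16)]
        let R : Sylow 3 L := Sylow.ofCard (zpowers x) (by rw [hcT, hf, pow_one])
        let R' : Sylow 3 L := Sylow.ofCard (zpowers (y : L)) (by rw [Nat.card_zpowers, hy, hf, pow_one])
        obtain ⟨g, hg⟩ := MulAction.exists_smul_eq L R' R
        have hx' : x ∈ (R : Subgroup L) := mem_zpowers x
        rw [← hg, Sylow.coe_subgroup_smul, Subgroup.mem_pointwise_smul_iff_inv_smul_mem] at hx'
        have hxQ : x ∈ centralizer (Q : Set L) := by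
          have h4 : ((MulAut.conj g)⁻¹ • x : L) ∈ centralizer (Q : Set L) :=
            (zpowers_le.2 y.2) hx'
          have h5 := Subgroup.normal_centralizer (H := Q).conj_mem _ h4 g
          simpa [mul_assoc] using h5
        have hle : Q ≤ zpowers t := hQC ▸ le_inf le_rfl fun q hq =>
          mem_centralizer_singleton_iff.2 (mem_centralizer_iff.1 hxQ q hq)
        have := Subgroup.card_le_of_le hle
        rw [hQ8, Nat.card_zpowers, ht] at this
        norm_num at this
      · have hd : Nat.card (centralizer (Q : Set L)) ∣ 16 := by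
          have h1 : Nat.card (centralizer (Q : Set L)) ∣ 16 * 3 := by
            rw [show 16 * 3 = 48 by norm_num, ← hL]; exact card_subgroup_dvd_card _
          exact (Nat.Coprime.dvd_of_dvd_mul_right (Nat.prime_three.coprime_iff_not_dvd.2 h3).symm h1)
        obtain ⟨k, -, hk⟩ := (Nat.dvd_prime_pow Nat.prime_two (m := 4)).1 (by simpa using hd)
        exact IsPGroup.of_card hk
    intro k hk
    refine MonoidHom.mem_ker.2 (Equiv.ext fun P => ?_)
    show k • P = P
    refine Sylow.smul_eq_iff_mem_normalizer.2 (Subgroup.le_normalizer ?_)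
    have hle : centralizer (Q : Set L) ≤ P := by
      obtain ⟨R, hR⟩ := h2.exists_le_sylow
      obtain ⟨g, hg⟩ := MulAction.exists_smul_eq L R P
      intro a ha
      rw [← hg, Sylow.coe_subgroup_smul, Subgroup.mem_pointwise_smul_iff_inv_smul_mem]
      refine hR ?_
      have h5 := Subgroup.normal_centralizer (H := Q).conj_mem a ha g⁻¹
      simpa [mul_assoc] using h5
    exact hle hk

end Cfsg.Agent.DegSix.Struct48
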