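import Cfsg.Agent.Lib.DegGraph.Small6000.Char5616
import Cfsg.Agent.Lib.DegGraph.Small6000.Struct48
import Cfsg.Agent.Lib.GLTwoThree.Recog
import Cfsg.Agent.Lib.GLTwoThree.Main
import Cfsg.Agent.Lib.BrauerSuzuki.Main

/-!
A simple group of order `5616` is isomorphic to `PSL(3,3)`.
-/

set_option autoImplicit false
set_option linter.unusedSectionVars false
set_option linter.style.haveILetI false

namespace Cfsg.Agent.DegSix.Local5616

open Subgroup
open scoped Pointwise

universe u

section Four

variable {K : Type u} [Group K] [Finite K]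

/-- No four group has these fixed points in a group of order `108`. -/
theorem false_of_four (hK : Nat.card K = 108) {x : K} (hx : orderOf x = 3) (hxc : x ∈ center K)
    (D : Subgroup K) (hD : Nat.card D = 4) (hsq : ∀ d ∈ D, d * d = 1)
    (hB : ∀ d ∈ D, d ≠ 1 → Nat.card (centralizer ({d} : Set K)) = 12 ∧
      centralizer ({d} : Set K) ≤ centralizer (D : Set K)) : False := by
  classical
  haveI : Fact (Nat.Prime 3) := ⟨Nat.prime_three⟩
  haveI : Fact (Nat.Prime 2) := ⟨Nat.prime_two⟩
  haveI : Fintype D := Fintype.ofFinite _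
  obtain ⟨d₁, hd₁⟩ : ∃ d : D, d ≠ 1 := by
    haveI : Nontrivial D := Finite.one_lt_card_iff_nontrivial.1 (by rw [hD]; norm_num)
    exact exists_ne _
  obtain ⟨d₂, hd₂⟩ : ∃ d : D, d ∉ ({1, d₁} : Finset D) := by
    refine not_forall.1 fun hall => ?_
    have := Finset.card_le_card (fun e (_ : e ∈ (Finset.univ : Finset D)) => hall e)
    rw [Finset.card_univ, ← Nat.card_eq_fintype_card, hD] at this
    exact absurd (this.trans Finset.card_le_two) (by norm_num)
  simp only [Finset.mem_insert, Finset.mem_singleton, not_or] at hd₂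
  have h1ne : (d₁ : K) ≠ 1 := fun h => hd₁ (Subtype.ext h)
  have hDab : ∀ a ∈ D, ∀ b ∈ D, a * b = b * a := by
    intro a ha b hb
    have hi : ∀ c ∈ D, c⁻¹ = c := fun c hc => inv_eq_of_mul_eq_one_right (hsq c hc)
    calc a * b = (a * b)⁻¹ := (hi _ (mul_mem ha hb)).symm
      _ = b * a := by rw [mul_inv_rev, hi a ha, hi b hb]
  set B := centralizer (D : Set K) with hBdef
  have hBd : ∀ d ∈ D, d ≠ 1 → centralizer ({d} : Set K) = B := fun d hd h1 =>
    le_antisymm (hB d hd h1).2 (centralizer_le (by simpa using hd))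
  have hB12 : Nat.card B = 12 := by
    rw [← hBd _ d₁.2 h1ne]; exact (hB _ d₁.2 h1ne).1
  have hDB : D ≤ B := fun a ha => mem_centralizer_iff.2 fun b hb => hDab b hb a ha
  have hxB : x ∈ B := mem_centralizer_iff.2 fun b _ => (mem_center_iff.1 hxc b)
  have hf2 : (Nat.card K).factorization 2 = 2 := by
    rw [hK, show (108 : ℕ) = 2 ^ 2 * 27 by norm_num,
      Nat.factorization_mul (by norm_num) (by norm_num), Finsupp.add_apply,
      Nat.Prime.factorization_pow Nat.prime_two, Finsupp.single_eq_same,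
      Nat.factorization_eq_zero_of_not_dvd (by norm_num : ¬ 2 ∣ 27)]
  let P : Sylow 2 K := Sylow.ofCard D (by rw [hD, hf2]; norm_num)
  have hPD : (P : Subgroup K) = D := rfl
  set N := normalizer (D : Set K) with hNdef
  have hBN : B ≤ N := centralizer_le_normalizer _
  -- the centraliser is the whole normaliser
  have hNB : N = B := by
    by_contra hne
    have hN : 12 ∣ Nat.card N := hB12 ▸ card_dvd_of_le hBN
    have hN108 : Nat.card N ∣ 108 := hK ▸ card_subgroup_dvd_card _
    have hNlt : 12 < Nat.card N := by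
      rcases lt_or_ge 12 (Nat.card N) with h | h
      · exact h
      · exact absurd (Subgroup.eq_of_le_of_card_ge hBN (by rw [hB12]; exact h)).symm hne
    -- the conjugation action on the involutions of D
    obtain ⟨k, hk⟩ := hN
    have hk9 : k ∣ 9 := by
      rw [hk, show 108 = 12 * 9 by norm_num] at hN108
      exact Nat.dvd_of_mul_dvd_mul_left (by norm_num) hN108
    rcases (Nat.dvd_prime_pow Nat.prime_three (m := 2)).1 (by simpa using hk9) with ⟨i, hi, rfl⟩
    interval_cases i
    · omega
    · -- three Sylow subgroups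
      have hn : Nat.card (Sylow 2 K) = 3 := by
        rw [P.card_eq_index_normalizer]
        show N.index = 3
        have := card_mul_index N
        rw [hk, hK] at this
        norm_num at this
        omega
      obtain ⟨Q, hQ⟩ : ∃ Q : Sylow 2 K, Q ≠ P := by
        haveI : Nontrivial (Sylow 2 K) := Finite.one_lt_card_iff_nontrivial.1 (by rw [hn]; norm_num)
        exact exists_ne _
      -- D fixes P, and some involution of D fixes Q
      obtain ⟨d, hd, hd1, hdQ⟩ : ∃ d ∈ D, d ≠ 1 ∧ d • Q = Q := by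
        by_contra hno
        push_neg at hno
        have hinj : Function.Injective (fun d : D => (d : K) • Q) := by
          intro a b hab
          by_contra hne'
          refine hno ((b : K)⁻¹ * a) (mul_mem (inv_mem b.2) a.2) (fun h => hne' ?_) ?_
          · exact Subtype.ext (inv_mul_eq_one.1 h).symm
          · rw [mul_smul, show (a : K) • Q = (b : K) • Q from hab, inv_smul_smul]
        have := Nat.card_le_card_of_injective _ hinj
        rw [hD, hn] at this
        omega
      have hdN : d ∈ normalizer ((Q : Subgroup K) : Set K) := Sylow.smul_eq_iff_mem_normalizer.1 hdQ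
      have hdQ' : d ∈ (Q : Subgroup K) := by
        have hp : IsPGroup 2 (zpowers d) := by
          refine IsPGroup.of_card (n := 1) ?_
          rw [Nat.card_zpowers, pow_one]
          exact orderOf_eq_prime (by rw [pow_two]; exact hsq d hd) hd1
        have : d ∈ zpowers d ⊓ normalizer ((Q : Subgroup K) : Set K) := ⟨mem_zpowers d, hdN⟩
        exact ((hp.inf_normalizer_sylow Q).le this).2
      have hQcard : Nat.card Q = 4 := by rw [Sylow.card_eq_multiplicity, hf2]; norm_num
      haveI := IsPGroup.isMulCommutative_of_card_eq_prime_sq (p := 2) (G := (Q : Subgroup K))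
        (by rw [hQcard]; norm_num)
      have hQB : (Q : Subgroup K) ≤ B := by
        rw [← hBd d hd hd1]
        exact fun q hq => mem_centralizer_singleton_iff.2
          (congrArg Subtype.val (mul_comm' (⟨q, hq⟩ : (Q : Subgroup K)) ⟨d, hdQ'⟩))
      have hp : IsPGroup 2 ↥((Q : Subgroup K) ⊔ D) :=
        IsPGroup.to_sup_of_normal_right' Q.2 P.2 (hQB.trans hBN)
      have hQeq := Q.3 hp le_sup_left
      have hPeq := P.3 hp le_sup_right
      exact hQ (Sylow.ext (hQeq.symm.trans hPeq))
    · -- D normal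
      have hN : N = ⊤ := Subgroup.eq_top_of_card_eq _ (by rw [hk, hK]; norm_num)
      haveI : Fintype K := Fintype.ofFinite _
      have hidx : (centralizer ({(d₁ : K)} : Set K)).index = 9 := by
        have := card_mul_index (centralizer ({(d₁ : K)} : Set K))
        rw [(hB _ d₁.2 h1ne).1, hK] at this
        omega
      rw [← Char.card_classFinset] at hidx
      have hsub : Char.classFinset (d₁ : K) ⊆ (Finset.univ : Finset D).image (fun e : D => (e : K)) := by
        intro y hy
        obtain ⟨c, hc⟩ := isConj_iff.1 (Char.mem_classFinset.1 hy)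
        have := (mem_normalizer_iff.1 (show c ∈ N by rw [hN]; trivial) (d₁ : K)).1 d₁.2
        rw [hc] at this
        exact Finset.mem_image.2 ⟨⟨y, this⟩, Finset.mem_univ _, rfl⟩
      have := (Finset.card_le_card hsub).trans Finset.card_image_le
      rw [hidx, Finset.card_univ, ← Nat.card_eq_fintype_card, hD] at this
      omega
  -- a normal complement
  have hP : normalizer (P : Set K) ≤ centralizer (P : Set K) := hNB.le
  set R := (MonoidHom.transferSylow P hP).ker with hR
  have hcomp : IsComplement' R (P : Subgroup K) := MonoidHom.ker_transferSylow_isComplement' P hP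
  have hR27 : Nat.card R = 27 := by
    have := hcomp.card_mul_card
    rw [hK, hPD, hD] at this
    omega
  have hRn : R.Normal := inferInstance
  have hxR : x ∈ R := by
    rw [hR, MonoidHom.mem_ker]
    have h1 : (MonoidHom.transferSylow P hP x) ^ 3 = 1 := by
      rw [← map_pow, ← hx, pow_orderOf_eq_one, map_one]
    have h2 : (MonoidHom.transferSylow P hP x) ^ 4 = 1 := by
      have := pow_card_eq_one' (x := MonoidHom.transferSylow P hP x)
      rwa [show Nat.card (P : Subgroup K) = 4 from hD] at this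
    have := pow_gcd_eq_one.2 ⟨h1, h2⟩
    simpa using this
  set T := zpowers x with hT
  haveI hTn : T.Normal := ⟨fun a ha g => by
    obtain ⟨k, rfl⟩ := mem_zpowers_iff.1 ha
    rw [(Commute.zpow_left (mem_center_iff.1 hxc g).symm k).symm.eq, mul_inv_cancel_right]
    exact ha⟩
  set π := QuotientGroup.mk' T with hπ
  have hπ0 : ∀ a, π a = 1 ↔ a ∈ T := fun a => QuotientGroup.eq_one_iff a
  have hT3 : Nat.card T = 3 := by rw [hT, Nat.card_zpowers, hx]
  have hRab : ∀ a ∈ R, ∀ b ∈ R, π a * π b = π b * π a := by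
    intro a ha b hb
    have hcard : Nat.card (R.map π) = 9 := by
      have h1 : (R.map π).comap π = R := by
        rw [comap_map_eq, QuotientGroup.ker_mk']
        exact sup_eq_left.2 (zpowers_le.2 hxR)
      have h2 := card_mul_index (R.map π)
      have h3 := card_mul_index R
      have h4 : R.index = (R.map π).index := by
        conv_lhs => rw [← h1]
        exact index_comap_of_surjective _ (QuotientGroup.mk'_surjective T)
      have h5 := Subgroup.card_eq_card_quotient_mul_card_subgroup T
      rw [hK, hT3] at h5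
      rw [← h4] at h2
      rw [hK, hR27] at h3
      rw [show R.index = 4 by omega] at h2
      omega
    haveI := IsPGroup.isMulCommutative_of_card_eq_prime_sq (p := 3) (G := R.map π)
      (by rw [hcard]; norm_num)
    exact congrArg Subtype.val
      (mul_comm' (⟨π a, mem_map_of_mem π ha⟩ : R.map π) ⟨π b, mem_map_of_mem π hb⟩)
  have hfix : ∀ d ∈ D, d ≠ 1 → ∀ r ∈ R, d * r = r * d → r ∈ T := by
    intro d hd hd1 r hr hdr
    have hle : T ≤ R ⊓ B := le_inf (zpowers_le.2 hxR) (zpowers_le.2 hxB)
    have heq : T = R ⊓ B := by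
      refine Subgroup.eq_of_le_of_card_ge hle ?_
      have h1 : Nat.card ↥(R ⊓ B) ∣ 27 := hR27 ▸ card_dvd_of_le inf_le_left
      have h2 : Nat.card ↥(R ⊓ B) ∣ 12 := hB12 ▸ card_dvd_of_le inf_le_right
      rw [hT3]
      exact Nat.le_of_dvd (by norm_num) (Nat.dvd_gcd h1 h2)
    rw [heq]
    exact ⟨hr, hBd d hd hd1 ▸ mem_centralizer_singleton_iff.2 hdr.symm⟩
  have hinv : ∀ d ∈ D, d ≠ 1 → ∀ p ∈ R, π (d * p * d) = (π p)⁻¹ := by
    intro d hd hd1 p hp
    have hdd := hsq d hd
    have hdi : d⁻¹ = d := inv_eq_of_mul_eq_one_right hdd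
    have hdp : d * p * d ∈ R := by
      have := hRn.conj_mem p hp d
      rwa [hdi] at this
    set r := p * (d * p * d) with hr
    have hrR : r ∈ R := mul_mem hp hdp
    have hdr : d * r * d = d * p * d * p := by
      rw [hr, show d * (p * (d * p * d)) * d = d * p * d * p * (d * d) by simp [mul_assoc], hdd, mul_one]
    obtain ⟨s, hs, hds⟩ : ∃ s ∈ T, d * r * d = r * s := by
      refine ⟨r⁻¹ * (d * r * d), (hπ0 _).1 ?_, by rw [mul_inv_cancel_left]⟩
      rw [map_mul, map_inv, inv_mul_eq_one, hdr, hr, map_mul, map_mul π (d * p * d) p]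
      exact hRab p hp _ hdp
    have hsc : Commute d s := by
      obtain ⟨k, rfl⟩ := mem_zpowers_iff.1 hs
      exact (show Commute d x from mem_center_iff.1 hxc d).zpow_right k
    have hss : s * s = 1 := by
      have h1 : d * (d * r * d) * d = r := by
        rw [show d * (d * r * d) * d = (d * d) * r * (d * d) by simp [mul_assoc], hdd, one_mul, mul_one]
      rw [hds, show d * (r * s) * d = d * r * (s * d) by simp [mul_assoc], ← hsc.eq, ← mul_assoc,
        hds, mul_assoc] at h1
      exact mul_eq_left.1 h1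
    have hs3 : s ^ 3 = 1 := by
      rw [← orderOf_dvd_iff_pow_eq_one, ← hT3]
      exact Subgroup.orderOf_dvd_natCard T hs
    have hs1 : s = 1 := by
      rw [pow_succ, pow_two, hss, one_mul] at hs3
      exact hs3
    rw [hs1, mul_one] at hds
    have hcr : d * r = r * d := by
      calc d * r = d * r * d * d := by rw [mul_assoc (d * r), hdd, mul_one]
        _ = r * d := by rw [hds]
    have := (hπ0 r).2 (hfix d hd hd1 r hrR hcr)
    rw [hr, map_mul] at this
    exact eq_inv_of_mul_eq_one_right this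
  have h2ne : (d₂ : K) ≠ 1 := fun h => hd₂.1 (Subtype.ext h)
  have h12 : (d₁ : K) * (d₂ : K) ≠ 1 := fun h => hd₂.2 (Subtype.ext (by
    rw [eq_inv_of_mul_eq_one_right h]
    exact inv_eq_of_mul_eq_one_right (hsq _ d₁.2)))
  have hall : ∀ p ∈ R, p ∈ T := by
    intro p hp
    have hdp : (d₂ : K) * p * d₂ ∈ R := by
      have := hRn.conj_mem p hp d₂
      rwa [inv_eq_of_mul_eq_one_right (hsq _ d₂.2)] at this
    have h3 := hinv _ (mul_mem d₁.2 d₂.2) h12 p hp
    rw [show ((d₁ : K) * d₂) * p * ((d₁ : K) * d₂) = ((d₁ : K) * d₂) * p * ((d₂ : K) * d₁) by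
      rw [hDab _ d₁.2 _ d₂.2],
      show ((d₁ : K) * d₂) * p * ((d₂ : K) * d₁) = (d₁ : K) * ((d₂ : K) * p * d₂) * d₁ by
        simp [mul_assoc],
      hinv _ d₁.2 h1ne _ hdp, hinv _ d₂.2 h2ne p hp, inv_inv] at h3
    have h4 : π (p * p) = 1 := by
      rw [map_mul]; nth_rw 1 [h3]; exact inv_mul_cancel _
    obtain ⟨k, hk⟩ := mem_zpowers_iff.1 ((hπ0 _).1 h4)
    have hp27 : p ^ 27 = 1 := by
      rw [← orderOf_dvd_iff_pow_eq_one, ← hR27]
      exact Subgroup.orderOf_dvd_natCard R hp
    have : p = (p * p) ^ 14 := by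
      rw [← pow_two, ← pow_mul, show 2 * 14 = 1 + 27 by norm_num, pow_add, hp27, pow_one, mul_one]
    rw [this, ← hk]
    exact pow_mem (zpow_mem (mem_zpowers x) k) _
  have := Subgroup.card_le_of_le (show R ≤ T from hall)
  rw [hR27, hT3] at this
  omega

/-- Three distinct elementary subgroups of index two force a group of order sixteen to be abelian. -/
theorem comm_of_three (hK : Nat.card K = 16) (A B C : Subgroup K) (hA : Nat.card A = 8)
    (hB : Nat.card B = 8) (hC : Nat.card C = 8) (hab : A ≠ B) (hac : A ≠ C) (hbc : B ≠ C)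
    (hA2 : ∀ a ∈ A, a * a = 1) (hB2 : ∀ a ∈ B, a * a = 1) (hC2 : ∀ a ∈ C, a * a = 1)
    (a b : K) : a * b = b * a := by
  classical
  haveI : Fintype K := Fintype.ofFinite _
  have comm : ∀ (X : Subgroup K), (∀ c ∈ X, c * c = 1) → ∀ u ∈ X, ∀ v ∈ X, u * v = v * u := by
    intro X hX u hu v hv
    have hi : ∀ c ∈ X, c⁻¹ = c := fun c hc => inv_eq_of_mul_eq_one_right (hX c hc)
    calc u * v = (u * v)⁻¹ := (hi _ (mul_mem hu hv)).symm
      _ = v * u := by rw [mul_inv_rev, hi u hu, hi v hv]
  have hidx : ∀ X : Subgroup K, Nat.card X = 8 → X.index = 2 := fun X hX => by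
    have := card_mul_index X; rw [hX, hK] at this; omega
  have top : ∀ X Y : Subgroup K, Nat.card X = 8 → Nat.card Y = 8 → X ≠ Y →
      X ⊔ Y = ⊤ ∧ Nat.card ↥(X ⊓ Y) = 4 := by
    intro X Y hX hY hne
    have hlt : Nat.card X < Nat.card ↥(X ⊔ Y) := by
      refine lt_of_le_of_ne (Subgroup.card_le_of_le le_sup_left) fun h => hne ?_
      have hX' := Subgroup.eq_of_le_of_card_ge (le_sup_left : X ≤ X ⊔ Y) (by omega)
      exact (Subgroup.eq_of_le_of_card_ge (hX'.symm ▸ le_sup_right : Y ≤ X) (by omega)).symm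
    have h16 : Nat.card ↥(X ⊔ Y) ∣ 16 := hK ▸ card_subgroup_dvd_card _
    have h16' := Nat.le_of_dvd (by norm_num) h16
    have htop : X ⊔ Y = ⊤ := by
      refine Subgroup.eq_top_of_card_eq _ ?_
      rw [hX] at hlt
      rw [hK]
      interval_cases hc : Nat.card ↥(X ⊔ Y) <;> first | rfl | norm_num at h16
    refine ⟨htop, ?_⟩
    haveI := Subgroup.normal_of_index_eq_two (hidx Y hY)
    have h1 : Y.relIndex X = 2 := by
      rw [← Subgroup.relIndex_sup_right, htop, relIndex_top_right, hidx Y hY]
    have h2 := card_mul_index ((X ⊓ Y).subgroupOf X)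
    rw [Nat.card_congr (subgroupOfEquivOfLe inf_le_left).toEquiv, hX] at h2
    rw [show ((X ⊓ Y).subgroupOf X).index = 2 by rw [← relIndex, inf_relIndex_left]; exact h1] at h2
    omega
  have central : ∀ X Y : Subgroup K, X ⊔ Y = ⊤ → (∀ c ∈ X, c * c = 1) → (∀ c ∈ Y, c * c = 1) →
      X ⊓ Y ≤ center K := by
    intro X Y h hX hY z hz
    have hle : X ⊔ Y ≤ centralizer ({z} : Set K) := sup_le
      (fun u hu => mem_centralizer_singleton_iff.2 (comm X hX u hu z hz.1))
      (fun u hu => mem_centralizer_singleton_iff.2 (comm Y hY u hu z hz.2))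
    refine mem_center_iff.2 fun g => ?_
    exact mem_centralizer_singleton_iff.1 (hle (h ▸ mem_top g))
  obtain ⟨hAB, cAB⟩ := top A B hA hB hab
  obtain ⟨hAC, cAC⟩ := top A C hA hC hac
  obtain ⟨hBC, cBC⟩ := top B C hB hC hbc
  by_cases heq : A ⊓ B = A ⊓ C
  swap
  · have hAz : A ≤ center K := by
      have hle : (A ⊓ B) ⊔ (A ⊓ C) ≤ center K :=
        sup_le (central A B hAB hA2 hB2) (central A C hAC hA2 hC2)
      refine le_trans (ge_of_eq ?_) hle
      have hle' : (A ⊓ B) ⊔ (A ⊓ C) ≤ A := sup_le inf_le_left inf_le_left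
      refine Subgroup.eq_of_le_of_card_ge hle' ?_
      have hdvd : Nat.card ↥((A ⊓ B) ⊔ (A ⊓ C)) ∣ 8 := hA ▸ card_dvd_of_le hle'
      have hlt : 4 < Nat.card ↥((A ⊓ B) ⊔ (A ⊓ C)) := by
        refine lt_of_le_of_ne (cAB ▸ Subgroup.card_le_of_le le_sup_left) fun h => heq ?_
        have e1 := Subgroup.eq_of_le_of_card_ge (le_sup_left : A ⊓ B ≤ (A ⊓ B) ⊔ (A ⊓ C)) (by omega)
        exact (Subgroup.eq_of_le_of_card_ge (e1.symm ▸ le_sup_right : A ⊓ C ≤ A ⊓ B) (by omega)).symm
      have := Nat.le_of_dvd (by norm_num) hdvd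
      rw [hA]
      interval_cases hc : Nat.card ↥((A ⊓ B) ⊔ (A ⊓ C)) <;> first | rfl | norm_num at hdvd
    have hle : A ⊔ B ≤ centralizer (B : Set K) := sup_le
      (fun u hu => mem_centralizer_iff.2 fun v _ => mem_center_iff.1 (hAz hu) v)
      (fun u hu => mem_centralizer_iff.2 fun v hv => comm B hB2 v hv u hu)
    have hBz : B ≤ center K := fun v hv => mem_center_iff.2 fun g =>
      ((mem_centralizer_iff.1 (hle (hAB ▸ mem_top g))) v hv).symm
    have := sup_le hAz hBz (hAB ▸ mem_top a)
    exact (mem_center_iff.1 this b).symm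
  have hI : A ⊓ B = B ⊓ C := by
    refine Subgroup.eq_of_le_of_card_ge (le_inf inf_le_right (heq.trans_le inf_le_right)) ?_
    omega
  have hsq : ∀ g : K, g * g = 1 := by
    intro g
    let F : Subgroup K → Finset K := fun X => Finset.univ.filter (· ∈ X)
    have hF : ∀ X : Subgroup K, (F X).card = Nat.card X := fun X => by
      rw [Nat.card_eq_fintype_card, Fintype.card_subtype]
    have hinter : ∀ X Y, F X ∩ F Y = F (X ⊓ Y) := fun X Y => by
      ext z; simp [F, mem_inf]
    have h1 := Finset.card_union_add_card_inter (F A) (F B)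
    have h2 := Finset.card_union_add_card_inter (F A ∪ F B) (F C)
    have h3 : (F A ∪ F B) ∩ F C = F (A ⊓ B) := by
      rw [Finset.union_inter_distrib_right, hinter, hinter, ← heq, ← hI, Finset.union_self]
    rw [hinter, hF, hF, hF, hA, hB, cAB] at h1
    rw [h3, hF, hF, hC, cAB] at h2
    have huniv : F A ∪ F B ∪ F C = Finset.univ :=
      Finset.eq_univ_of_card _ (by rw [← Nat.card_eq_fintype_card, hK]; omega)
    have := Finset.mem_univ g
    rw [← huniv] at this
    simp only [F, Finset.mem_union, Finset.mem_filter, Finset.mem_univ, true_and] at this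
    rcases this with (h | h) | h
    · exact hA2 g h
    · exact hB2 g h
    · exact hC2 g h
  exact comm ⊤ (fun c _ => hsq c) a (mem_top _) b (mem_top _)

end Four

variable {G : Type u} [Group G] [Finite G] [IsSimpleGroup G] (hG : Nat.card G = 5616)

include hG

theorem not_dvd_card_cent {g : G} (hg1 : g ≠ 1) (hg : ¬ 13 ∣ orderOf g) :
    Nat.card (centralizer ({g} : Set G)) ∣ 432 := by
  haveI : Fact (Nat.Prime 13) := ⟨by norm_num⟩
  haveI : Fintype G := Fintype.ofFinite G
  obtain ⟨a, b, -, -, -, -, -, -, -, -, hcomm, -, -⟩ := Char5616.facts hG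
  have h13 : ¬ 13 ∣ Nat.card (centralizer ({g} : Set G)) := by
    intro h
    obtain ⟨y, hy⟩ := exists_prime_orderOf_dvd_card' 13 h
    rw [← Subgroup.orderOf_coe] at hy
    rcases (Nat.dvd_prime (by norm_num : Nat.Prime 13)).1
      (hcomm g y hy (mem_centralizer_singleton_iff.1 y.2).symm) with h1 | h1
    · exact hg1 (orderOf_eq_one_iff.1 h1)
    · exact hg (by rw [h1])
  have h1 : Nat.card (centralizer ({g} : Set G)) ∣ 13 * 432 := by
    rw [show 13 * 432 = 5616 by norm_num, ← hG]; exact card_subgroup_dvd_card _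
  exact Nat.Coprime.dvd_of_dvd_mul_left
    ((Nat.Prime.coprime_iff_not_dvd (by norm_num : Nat.Prime 13)).2 h13).symm h1

theorem card_cent_invol {t : G} (ht : orderOf t = 2) :
    Nat.card (centralizer ({t} : Set G)) = 48 := by
  haveI : Fintype G := Fintype.ofFinite G
  have ht13 : ¬ 13 ∣ orderOf t := by rw [ht]; norm_num
  have ht1 : t ≠ 1 := fun h => by rw [h, orderOf_one] at ht; norm_num at ht
  have hd := not_dvd_card_cent hG ht1 ht13
  obtain ⟨a, b, hinv, hnorm, -, -, -, -, -, -, -, -, -⟩ := Char5616.facts hG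
  obtain ⟨-, h27, hlin, hquad⟩ := hinv t ht
  have hn := hnorm t ht13
  have ha : a t = 4 := by
    have hb : b t = a t - 1 := by linarith
    rw [hb] at hquad
    have h4 : (a t - 4) * (5 * a t + 28) = 0 := by linarith [sq_nonneg (a t)]
    rcases mul_eq_zero.1 h4 with h | h <;> omega
  have hb : b t = 3 := by linarith
  rw [ha, hb] at hn
  rw [hb] at h27
  have hmul := card_mul_index (centralizer ({t} : Set G))
  rw [hG] at hmul
  generalize Nat.card (centralizer ({t} : Set G)) = c at hd hmul hn ⊢
  generalize (centralizer ({t} : Set G)).index = i at hmul h27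
  have h9 : 9 ∣ i := by omega
  obtain ⟨j, rfl⟩ := h9
  have hc : c ∣ 624 := ⟨j, by nlinarith⟩
  have h48 : c ∣ 48 := Nat.dvd_gcd hd hc
  have hle := Nat.le_of_dvd (by norm_num) h48
  have : 26 ≤ c := by norm_num at hn; omega
  interval_cases c <;> first | rfl | norm_num at h48

theorem cent_three {x : G} (hx : orderOf x = 3) (D : Subgroup G) (hD : IsPGroup 2 D)
    (hDC : D ≤ centralizer ({x} : Set G)) :
    Nat.card D ≤ 4 ∧ (Nat.card D = 4 → Nat.card (centralizer ({x} : Set G)) = 108) := by
  classical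
  haveI : Fact (Nat.Prime 2) := ⟨Nat.prime_two⟩
  haveI : Fintype G := Fintype.ofFinite G
  by_cases hD4 : Nat.card D < 4
  · exact ⟨hD4.le, fun h => absurd h (by omega)⟩
  obtain ⟨a, b, -, hnorm, hω, h3, hsum, ha1, hb1, hinv, -, -, -⟩ := Char5616.facts hG
  have hx13 : ¬ 13 ∣ orderOf x := by rw [hx]; norm_num
  have hx1 : x ≠ 1 := fun h => by rw [h, orderOf_one] at hx; norm_num at hx
  have hC432 := not_dvd_card_cent hG hx1 hx13
  have hcomm : ∀ (u : zpowers x) (d : D), Commute ((zpowers x).subtype u) (D.subtype d) := by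
    intro u d
    obtain ⟨k, hk⟩ := mem_zpowers_iff.1 u.2
    have h1 : Commute x (d : G) := (mem_centralizer_singleton_iff.1 (hDC d.2)).symm
    show Commute (u : G) (d : G)
    rw [← hk]
    exact h1.zpow_left k
  set f := (zpowers x).subtype.noncommCoprod D.subtype hcomm with hf
  obtain ⟨n, hn⟩ := IsPGroup.iff_card.1 hD
  have hcop : (Nat.card (zpowers x)).Coprime (Nat.card D) := by
    rw [Nat.card_zpowers, hx, hn]
    exact Nat.Coprime.pow_right n (by norm_num)
  have hinj : Function.Injective f := by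
    rw [injective_iff_map_eq_one]
    rintro ⟨u, d⟩ h
    rw [hf, MonoidHom.noncommCoprod_apply] at h
    simp only [Subgroup.coe_subtype] at h
    have hu : (u : G) ∈ zpowers x ⊓ D := ⟨u.2, by
      rw [eq_inv_of_mul_eq_one_left h]; exact Subgroup.inv_mem _ d.2⟩
    rw [inf_eq_bot_of_coprime hcop, mem_bot] at hu
    rw [hu, one_mul] at h
    exact Prod.ext (Subtype.ext hu) (Subtype.ext h)
  have hA : Nat.card f.range = 3 * Nat.card D := by
    rw [← Nat.card_congr (MonoidHom.ofInjective hinj).toEquiv, Nat.card_prod, Nat.card_zpowers, hx]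
  have hxr : x ∈ f.range := ⟨(⟨x, mem_zpowers x⟩, 1), by rw [hf, MonoidHom.noncommCoprod_apply]; simp⟩
  have hA13 : ¬ 13 ∣ Nat.card f.range := by
    rw [hA, hn]
    intro h
    rcases (Nat.Prime.dvd_mul (by norm_num : Nat.Prime 13)).1 h with h | h
    · norm_num at h
    · exact absurd ((Nat.prime_dvd_prime_iff_eq (by norm_num) Nat.prime_two).1
        ((by norm_num : Nat.Prime 13).dvd_of_dvd_pow h)) (by norm_num)
  have hx3 : x ^ 3 = 1 := by rw [← hx]; exact pow_orderOf_eq_one x
  have hxx : x⁻¹ ≠ x := fun h => by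
    have h2 : x * x = 1 := by
      nth_rw 1 [← h]
      exact inv_mul_cancel x
    rw [pow_succ, pow_two, h2, one_mul] at hx3
    exact hx1 hx3
  let x' : f.range := ⟨x, hxr⟩
  have hs := hsum f.range hA13 {1, x', x'⁻¹} (by simp) (by
    intro h hh
    simp only [Finset.mem_insert, Finset.mem_singleton, not_or] at hh
    obtain ⟨⟨u, d⟩, hud⟩ := h.2
    have hd : d ≠ 1 := by
      intro hd
      have hu : (u : G) = (h : G) := by
        rw [← hud, hd, hf, MonoidHom.noncommCoprod_apply]; simp
      obtain ⟨k, hk⟩ := mem_zpowers_iff.1 u.2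
      have hk3 : x ^ (k % 3) = x ^ k := by
        have := zpow_mod_orderOf x k
        rw [hx] at this
        exact_mod_cast this
      have hk' : k % 3 = 0 ∨ k % 3 = 1 ∨ k % 3 = 2 := by omega
      rw [← hk, ← hk3] at hu
      rcases hk' with e | e | e <;> rw [e] at hu
      · exact hh.1 (Subtype.ext (by simpa using hu.symm))
      · exact hh.2.1 (Subtype.ext (show (h : G) = x by rw [← hu, zpow_one]))
      · refine hh.2.2 (Subtype.ext ?_)
        show (h : G) = x⁻¹
        rw [← hu, show (2 : ℤ) = ((2 : ℕ) : ℤ) by norm_num, zpow_natCast]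
        exact eq_inv_of_mul_eq_one_left (by rw [← pow_succ, hx3])
    have h2 : 2 ∣ orderOf d := by
      obtain ⟨k, hk⟩ := (IsPGroup.iff_orderOf.1 hD) d
      rw [hk]
      refine dvd_pow_self 2 fun h0 => hd ?_
      rw [← orderOf_eq_one_iff, hk, h0, pow_zero]
    rw [← hud, orderOf_injective f hinj, Prod.orderOf_mk]
    exact h2.trans (Nat.dvd_lcm_right _ _))
  have hx'1 : (1 : f.range) ∉ ({x', x'⁻¹} : Finset f.range) := by
    simp [x', Subtype.ext_iff, hx1, Ne.symm hx1]
  have hx'2 : x' ≠ x'⁻¹ := fun h => hxx (congrArg Subtype.val h).symm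
  rw [Finset.sum_insert hx'1, Finset.sum_pair hx'2, hA] at hs
  have hbx : b x = 0 := h3 x hx13 (by rw [hx])
  simp only [OneMemClass.coe_one, Subgroup.coe_inv, x', ha1, hb1, (hinv x).1, (hinv x).2, hbx] at hs
  have hnx := hnorm x hx13
  have hωx := hω x hx13
  rw [hbx] at hnx hωx
  have hDC' : Nat.card D ∣ Nat.card (centralizer ({x} : Set G)) := card_dvd_of_le hDC
  have hD16 : Nat.card D ∣ 16 := by
    have h1 : Nat.card D ∣ 16 * 351 := by
      rw [show 16 * 351 = 5616 by norm_num, ← hG]; exact card_subgroup_dvd_card _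
    rw [hn] at h1 ⊢
    exact Nat.Coprime.dvd_of_dvd_mul_right (Nat.Coprime.pow_left n (by norm_num)) h1
  have hmul := card_mul_index (centralizer ({x} : Set G))
  rw [hG] at hmul
  generalize a x = A at hs hnx hωx
  generalize Nat.card D = m at hD4 hs hDC' hD16 ⊢
  generalize Nat.card (centralizer ({x} : Set G)) = c at hC432 hnx hDC' hmul ⊢
  generalize (centralizer ({x} : Set G)).index = i at hmul hωx
  have hc432 : c ≤ 432 := Nat.le_of_dvd (by norm_num) hC432
  have hm4 : 4 ∣ m := by
    obtain ⟨k, -, rfl⟩ := (Nat.dvd_prime_pow Nat.prime_two (m := 4)).1 (by simpa using hD16)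
    have : 2 ≤ k := by
      by_contra hk
      interval_cases k <;> omega
    exact pow_dvd_pow 2 this
  have hu1 : (12 : ℤ) ∣ 16 + 2 * (1 - A) := by
    have hm4' : (12 : ℤ) ∣ (((3 * m : ℕ)) : ℤ) := by
      exact_mod_cast Nat.mul_dvd_mul_left 3 hm4
    have e : (16 : ℤ) + 2 * (1 - A) = 1 - 12 + 27 + (1 - A + 0 + (1 - A + 0)) := by ring
    rw [e]
    exact hm4'.trans hs
  have hu2 : (1 - A) ^ 2 ≤ 107 := by nlinarith [sq_nonneg A]
  have hub : -10 ≤ 1 - A ∧ 1 - A ≤ 10 := ⟨by nlinarith, by nlinarith⟩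
  have hc4 : 4 ∣ c := hm4.trans hDC'
  have hcases : A = 9 ∨ A = 3 ∨ A = -3 ∨ A = -9 := by omega
  have hu : A = -3 := by
    rcases hcases with h | h | h | h <;> subst h <;> norm_num at hnx hωx
    · -- -8
      have : c = 432 := by
        have := Nat.le_of_dvd (by norm_num) hC432
        obtain ⟨k, hk⟩ := hC432
        have : k < 2 := by
          by_contra hk'
          push_neg at hk'
          nlinarith
        interval_cases k <;> omega
      subst this
      have : i = 13 := by omega
      subst this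
      norm_num at hωx
    · -- -2
      have h8 : 8 ∣ i := by omega
      obtain ⟨j, rfl⟩ := h8
      have : c ∣ 702 := ⟨j, by nlinarith⟩
      have := hc4.trans this
      norm_num at this
    · rfl
    · omega
  subst hu
  norm_num at hnx hωx hu1
  have h4 : 4 ∣ i := by omega
  obtain ⟨j, rfl⟩ := h4
  have hd : c ∣ 1404 := ⟨j, by nlinarith⟩
  have hc108 : c ∣ 108 := Nat.dvd_gcd hC432 hd
  have hc : c = 108 := by
    have := Nat.le_of_dvd (by norm_num) hc108
    obtain ⟨k, hk⟩ := hc108
    have : k < 2 := by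
      by_contra hk'
      push_neg at hk'
      nlinarith
    interval_cases k <;> omega
  subst hc
  refine ⟨?_, fun _ => rfl⟩
  exact Nat.le_of_dvd (by norm_num) (Nat.dvd_gcd hDC' hD16 : m ∣ Nat.gcd 108 16)

/-- The involutions with a central element of order four in the centraliser. -/
def TypeA (t : G) : Prop :=
  ∃ d : G, d * d = t ∧ centralizer ({t} : Set G) ≤ centralizer ({d} : Set G) ∧
    ∀ g ∈ centralizer ({t} : Set G), g ^ 4 = 1 → g * g ≠ 1 → g * g = t

/-- The involutions with an elementary normal subgroup of order eight in the centraliser. -/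
def TypeE (t : G) (Q : Subgroup G) : Prop :=
  Nat.card Q = 8 ∧ t ∈ Q ∧ (∀ q ∈ Q, q * q = 1) ∧ Q ≤ centralizer ({t} : Set G) ∧
    centralizer ({t} : Set G) ≤ normalizer (Q : Set G) ∧ centralizer (Q : Set G) ≤ Q ∧
    (∀ S : Subgroup G, Nat.card S = 16 → S ≤ centralizer ({t} : Set G) → Q ≤ S) ∧
    ∃ x : G, orderOf x = 3 ∧ x ∈ centralizer ({t} : Set G) ∧
      ∀ q ∈ Q, q * x = x * q → q = 1 ∨ q = t

theorem not_rankOne (h : BrauerSuzuki.RankOne G) : False := by
  haveI : Fact (Nat.Prime 2) := ⟨Nat.prime_two⟩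
  obtain ⟨t, ht⟩ := exists_prime_orderOf_dvd_card' (G := G) 2 (by rw [hG]; norm_num)
  have hz := BrauerSuzuki.inZStar G h t ht
  haveI hn : (Cfsg.pPrimeCore 2 G).Normal := FittingCores.pPrimeCore_normal 2
  have hbot : Cfsg.pPrimeCore 2 G = ⊥ := by
    refine (hn.eq_bot_or_eq_top).resolve_right fun htop => ?_
    have := PBasic.pPrimeCore_coprime 2 G
    rw [htop, card_top, hG] at this
    norm_num at this
  have htc : t ∈ center G := mem_center_iff.2 fun g => by
    have h1 := hz g
    rw [hbot, mem_bot] at h1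
    exact mul_inv_eq_iff_eq_mul.1 (mul_inv_eq_one.1 h1)
  have hc := card_cent_invol hG ht
  have htop : centralizer ({t} : Set G) = ⊤ :=
    eq_top_iff.2 fun g _ => mem_centralizer_singleton_iff.2 (mem_center_iff.1 htc g)
  rw [htop, card_top, hG] at hc
  norm_num at hc

theorem factorization_two : (Nat.card G).factorization 2 = 4 := by
  rw [hG, show (5616 : ℕ) = 2 ^ 4 * 351 by norm_num,
    Nat.factorization_mul (by norm_num) (by norm_num), Finsupp.add_apply,
    Nat.Prime.factorization_pow Nat.prime_two, Finsupp.single_eq_same,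
    Nat.factorization_eq_zero_of_not_dvd (by norm_num : ¬ 2 ∣ 351)]

theorem classify {t : G} (ht : orderOf t = 2) :
    Nonempty (centralizer ({t} : Set G) ≃* GL (Fin 2) (ZMod 3)) ∨ TypeA t ∨ ∃ Q, TypeE t Q := by
  classical
  haveI : Fact (Nat.Prime 2) := ⟨Nat.prime_two⟩
  haveI : Fact (Nat.Prime 3) := ⟨Nat.prime_three⟩
  set C := centralizer ({t} : Set G) with hCdef
  have hC := card_cent_invol hG ht
  rw [← hCdef] at hC
  have htC : t ∈ C := mem_centralizer_singleton_iff.2 rfl
  have hemb : ∀ (D : Subgroup C), Nat.card (D.map C.subtype) = Nat.card D := fun D =>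
    card_map_of_injective C.subtype_injective
  have h8 : ∀ x : C, orderOf x = 3 → ∀ D : Subgroup C, IsPGroup 2 D →
      D ≤ centralizer ({x} : Set C) → Nat.card D ≤ 4 := by
    intro x hx D hD hDx
    rw [← hemb D]
    refine (cent_three hG (x := (x : G)) (by rw [Subgroup.orderOf_coe, hx]) _ (hD.map _) ?_).1
    rintro _ ⟨d, hd, rfl⟩
    exact mem_centralizer_singleton_iff.2 (congrArg Subtype.val (mem_centralizer_singleton_iff.1 (hDx hd)))
  have htcen : (⟨t, htC⟩ : C) ∈ center C :=
    mem_center_iff.2 fun g => Subtype.ext (mem_centralizer_singleton_iff.1 g.2)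
  rcases Struct48.structure48 hC htcen (by rw [Subgroup.orderOf_mk, ht]) h8 with
    ⟨x, hx, D, hD4, hDx, hDc, htD, hsqD⟩ | h | h | ⟨Q, hQ8, hQn, htQ, hQ2, hQC, hQP, x, hx, hQx⟩
  · have hCd : ∀ d ∈ D, centralizer ({t} : Set G) ≤ centralizer ({((d : C) : G)} : Set G) := by
      intro d hd g hg
      exact mem_centralizer_singleton_iff.2
        (congrArg Subtype.val (mem_center_iff.1 (hDc hd) ⟨g, hg⟩))
    have hd4 : ∀ d ∈ D, d ^ 4 = 1 := fun d hd => by
      rw [← orderOf_dvd_iff_pow_eq_one, ← hD4]; exact Subgroup.orderOf_dvd_natCard D hd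
    by_cases hex : ∀ d ∈ D, d * d = 1
    · -- four group
      exfalso
      have hxG : orderOf (x : G) = 3 := by rw [Subgroup.orderOf_coe, hx]
      set K := centralizer ({(x : G)} : Set G) with hKdef
      have hDK : D.map C.subtype ≤ K := by
        rintro _ ⟨d, hd, rfl⟩
        exact mem_centralizer_singleton_iff.2 (congrArg Subtype.val (mem_centralizer_singleton_iff.1 (hDx hd)))
      have hP2 : IsPGroup 2 D := IsPGroup.of_card (n := 2) (by rw [hD4]; norm_num)
      have hK108 : Nat.card K = 108 :=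
        (cent_three hG hxG _ (hP2.map _) hDK).2 (by rw [hemb, hD4])
      let D' : Subgroup K := (D.map C.subtype).subgroupOf K
      have hD' : Nat.card D' = 4 := by
        rw [Nat.card_congr (subgroupOfEquivOfLe hDK).toEquiv, hemb, hD4]
      have hxK : (x : G) ∈ K := mem_centralizer_singleton_iff.2 rfl
      refine false_of_four hK108 (x := ⟨x, hxK⟩) (by rw [Subgroup.orderOf_mk, hxG])
        (mem_center_iff.2 fun g => Subtype.ext (mem_centralizer_singleton_iff.1 g.2)) D' hD'
        (fun d hd => ?_) (fun d hd hd1 => ?_)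
      · obtain ⟨e, he, hed⟩ := mem_subgroupOf.1 hd
        refine Subtype.ext ?_
        show (d : G) * (d : G) = 1
        rw [← hed]
        exact congrArg Subtype.val (hex e he)
      · obtain ⟨e, he, hed⟩ := mem_subgroupOf.1 hd
        change (e : G) = (d : G) at hed
        have hdord : orderOf (d : G) = 2 := by
          refine orderOf_eq_prime ?_ (fun h => hd1 (Subtype.ext h))
          rw [pow_two, ← hed]
          exact congrArg Subtype.val (hex e he)
        have hCeq : centralizer ({(d : G)} : Set G) = C := by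
          refine (Subgroup.eq_of_le_of_card_ge (hed ▸ hCd e he) ?_).symm
          rw [hC, card_cent_invol hG hdord]
        constructor
        · have heq : (centralizer ({d} : Set K)).map K.subtype = K ⊓ C := by
            ext g
            constructor
            · rintro ⟨k, hk, rfl⟩
              refine ⟨k.2, hCeq ▸ mem_centralizer_singleton_iff.2 ?_⟩
              exact congrArg Subtype.val (mem_centralizer_singleton_iff.1 hk)
            · rintro ⟨hgK, hgC⟩
              refine ⟨⟨g, hgK⟩, mem_centralizer_singleton_iff.2 (Subtype.ext ?_), rfl⟩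
              exact mem_centralizer_singleton_iff.1 (hCeq.symm ▸ hgC : g ∈ centralizer ({(d : G)} : Set G))
          rw [← card_map_of_injective K.subtype_injective, heq]
          have h1 : Nat.card ↥(K ⊓ C) ∣ 108 := hK108 ▸ card_dvd_of_le inf_le_left
          have h2 : Nat.card ↥(K ⊓ C) ∣ 48 := hC ▸ card_dvd_of_le inf_le_right
          have h3 : Nat.card ↥(K ⊓ C) ∣ 12 := Nat.dvd_gcd h1 h2
          have h4 : 4 ∣ Nat.card ↥(K ⊓ C) := by
            rw [← hD4, ← hemb D]
            exact card_dvd_of_le (le_inf hDK (map_subtype_le D))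
          have h5 : 3 ∣ Nat.card ↥(K ⊓ C) := by
            rw [← hxG]
            exact Subgroup.orderOf_dvd_natCard _ ⟨hxK, x.2⟩
          exact Nat.dvd_antisymm h3 (Nat.Coprime.mul_dvd_of_dvd_of_dvd (by norm_num : Nat.Coprime 4 3) h4 h5)
        · intro k hk
          refine mem_centralizer_iff.2 fun d' hd' => ?_
          obtain ⟨e', he', hed'⟩ := mem_subgroupOf.1 hd'
          change (e' : G) = ((d' : K) : G) at hed'
          have hkC : (k : G) ∈ C := hCeq ▸ mem_centralizer_singleton_iff.2
            (congrArg Subtype.val (mem_centralizer_singleton_iff.1 hk))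
          refine Subtype.ext ?_
          show ((d' : K) : G) * (k : G) = (k : G) * ((d' : K) : G)
          rw [← hed']
          exact (mem_centralizer_singleton_iff.1 (hCd e' he' hkC)).symm
    · -- cyclic
      right; left
      push_neg at hex
      obtain ⟨d, hd, hdd⟩ := hex
      have hord : orderOf d = 4 := orderOf_eq_prime_pow (p := 2) (n := 1)
        (by rw [pow_one, pow_two]; exact hdd) (by norm_num; exact hd4 d hd)
      have hDz : zpowers d = D :=
        Subgroup.eq_of_le_of_card_ge (zpowers_le.2 hd) (by rw [Nat.card_zpowers, hord, hD4])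
      have hinv : ∀ e ∈ D, e * e = 1 → e ≠ 1 → e = d * d := by
        intro e he hee he1
        obtain ⟨k, rfl⟩ := mem_zpowers_iff.1 (hDz.ge he)
        have hk : d ^ (k % 4) = d ^ k := by
          have := zpow_mod_orderOf d k
          rw [hord] at this
          exact_mod_cast this
        rw [← hk] at hee he1 ⊢
        have : k % 4 = 0 ∨ k % 4 = 1 ∨ k % 4 = 2 ∨ k % 4 = 3 := by omega
        rcases this with e4 | e4 | e4 | e4 <;> rw [e4] at hee he1 ⊢
        · exact absurd (zpow_zero d) he1
        · rw [zpow_one] at hee; exact absurd hee hdd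
        · exact zpow_two d
        · refine absurd ?_ hdd
          rw [← zpow_add] at hee
          have e6 : d ^ ((3 : ℤ) + 3) = d * d * d ^ (4 : ℕ) := by
            rw [show ((3 : ℤ) + 3) = ((2 + 4 : ℕ) : ℤ) by norm_num, zpow_natCast, pow_add, pow_two]
          rw [e6, hd4 d hd, mul_one] at hee
          exact hee
      have ht1 : (⟨t, htC⟩ : C) ≠ 1 := fun h => by
        have : t = 1 := congrArg Subtype.val h
        rw [this, orderOf_one] at ht; norm_num at ht
      have htt : (⟨t, htC⟩ : C) * ⟨t, htC⟩ = 1 :=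
        Subtype.ext (show t * t = 1 by rw [← pow_two, ← ht]; exact pow_orderOf_eq_one t)
      have htdd := hinv _ htD htt ht1
      refine ⟨(d : G), (congrArg Subtype.val htdd).symm, hCd d hd, fun g hg hg4 hgg => ?_⟩
      have h2 : (⟨g, hg⟩ : C) * ⟨g, hg⟩ ≠ 1 := fun h => hgg (congrArg Subtype.val h)
      have h4 : (⟨g, hg⟩ : C) ^ 4 = 1 := Subtype.ext (by simpa using hg4)
      have h3 := hinv _ (hsqD _ h4) (by rw [← h4]; simp [pow_succ, mul_assoc]) h2
      rw [← htdd] at h3
      exact congrArg Subtype.val h3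
  · exact Or.inl h
  · exfalso
    obtain ⟨P⟩ : Nonempty (Sylow 2 C) := inferInstance
    obtain ⟨e⟩ := h P
    have hP : Nat.card P = 16 := by
      rw [Nat.card_congr e.toEquiv, Nat.card_eq_fintype_card, QuaternionGroup.card]
    let S : Sylow 2 G := Sylow.ofCard ((P : Subgroup C).map C.subtype) (by
      rw [hemb, hP, factorization_two hG]; norm_num)
    refine not_rankOne hG (BrauerSuzuki.rankOne_of_sylow S fun a b ha hb => ?_)
    let e' := ((P : Subgroup C).equivMapOfInjective C.subtype C.subtype_injective).symm.trans e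
    exact e'.injective (SylowConn.quaternion_unique 4 _ _ ((e'.orderOf_eq a).trans ha)
      ((e'.orderOf_eq b).trans hb))
  · right; right
    refine ⟨Q.map C.subtype, by rw [hemb, hQ8], ⟨⟨t, htC⟩, htQ, rfl⟩, ?_, map_subtype_le Q, ?_, ?_, ?_,
      (x : G), by rw [Subgroup.orderOf_coe, hx], x.2, ?_⟩
    · rintro _ ⟨q, hq, rfl⟩
      exact congrArg Subtype.val (hQ2 q hq)
    · intro c hc
      refine mem_normalizer_iff.2 fun g => ⟨?_, ?_⟩
      · rintro ⟨q, hq, rfl⟩
        exact ⟨⟨c, hc⟩ * q * ⟨c, hc⟩⁻¹, hQn.conj_mem q hq _, rfl⟩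
      · rintro ⟨q, hq, hqg⟩
        refine ⟨⟨c, hc⟩⁻¹ * q * ⟨c, hc⟩⁻¹⁻¹, hQn.conj_mem q hq _, ?_⟩
        change (q : G) = c * g * c⁻¹ at hqg
        show c⁻¹ * (q : G) * c⁻¹⁻¹ = g
        rw [hqg]; simp [mul_assoc]
    · intro g hg
      have hgC : g ∈ C := mem_centralizer_singleton_iff.2
        (mem_centralizer_iff.1 hg t ⟨⟨t, htC⟩, htQ, rfl⟩).symm
      refine ⟨⟨g, hgC⟩, hQC (mem_centralizer_iff.2 fun q hq => Subtype.ext ?_), rfl⟩
      exact mem_centralizer_iff.1 hg (q : G) ⟨q, hq, rfl⟩
    · intro S hS hSC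
      let P : Sylow 2 C := Sylow.ofCard (S.subgroupOf C) (by
        rw [Nat.card_congr (subgroupOfEquivOfLe hSC).toEquiv, hS, hC,
          show (48 : ℕ) = 2 ^ 4 * 3 by norm_num, Nat.factorization_mul (by norm_num) (by norm_num),
          Finsupp.add_apply, Nat.Prime.factorization_pow Nat.prime_two, Finsupp.single_eq_same,
          Nat.factorization_eq_zero_of_not_dvd (by norm_num : ¬ 2 ∣ 3)]
        norm_num)
      rintro _ ⟨q, hq, rfl⟩
      exact hQP P hq
    · rintro _ ⟨q, hq, rfl⟩ hqx
      have hmem : q ∈ zpowers (⟨t, htC⟩ : C) :=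
        hQx ▸ ⟨hq, mem_centralizer_singleton_iff.2 (Subtype.ext hqx)⟩
      obtain ⟨k, rfl⟩ := mem_zpowers_iff.1 hmem
      have htt : t * t = 1 := by rw [← pow_two, ← ht]; exact pow_orderOf_eq_one t
      rw [map_zpow]
      show t ^ k = 1 ∨ t ^ k = t
      rcases Int.even_or_odd' k with ⟨m, rfl | rfl⟩
      · exact Or.inl (by rw [zpow_mul, zpow_two, htt, one_zpow])
      · exact Or.inr (by rw [zpow_add, zpow_mul, zpow_two, htt, one_zpow, one_mul, zpow_one])

theorem normalizer_eq {t : G} (ht : orderOf t = 2) {Q : Subgroup G} (hQ : TypeE t Q) :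
    normalizer (Q : Set G) = centralizer ({t} : Set G) := by
  classical
  obtain ⟨hQ8, htQ, hQ2, hQC, hCN, hCQ, hQS, x, hx, hxC, hxfix⟩ := hQ
  refine le_antisymm ?_ hCN
  set C := centralizer ({t} : Set G) with hCdef
  set N := normalizer (Q : Set G) with hNdef
  have hC := card_cent_invol hG ht
  rw [← hCdef] at hC
  letI act : MulAction N Q :=
    { smul := fun g q => ⟨(g : G) * q * (g : G)⁻¹, (mem_normalizer_iff.1 g.2 q).1 q.2⟩
      one_smul := fun q => Subtype.ext (by show (1 : G) * q * (1 : G)⁻¹ = q; simp)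
      mul_smul := fun a b q => Subtype.ext (by
        show ((a * b : N) : G) * q * ((a * b : N) : G)⁻¹ =
          (a : G) * ((b : G) * q * (b : G)⁻¹) * (a : G)⁻¹
        simp [mul_assoc]) }
  let t' : Q := ⟨t, htQ⟩
  have hstab : MulAction.stabilizer N t' = C.subgroupOf N := by
    ext g
    rw [MulAction.mem_stabilizer_iff, mem_subgroupOf, hCdef, mem_centralizer_singleton_iff]
    constructor
    · intro h
      exact mul_inv_eq_iff_eq_mul.1 (congrArg Subtype.val h)
    · intro h
      exact Subtype.ext (mul_inv_eq_iff_eq_mul.2 h)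
  have hk : (MulAction.stabilizer N t').index = (MulAction.orbit N t').ncard :=
    MulAction.index_stabilizer N t'
  have hmul : Nat.card N = 48 * (MulAction.orbit N t').ncard := by
    rw [← hk, ← hC, ← Nat.card_congr (subgroupOfEquivOfLe hCN).toEquiv, hstab, Subgroup.card_mul_index]
  have hdvd : (MulAction.orbit N t').ncard ∣ 117 := by
    have h1 : Nat.card N ∣ 5616 := hG ▸ card_subgroup_dvd_card _
    rw [hmul, show 5616 = 48 * 117 by norm_num] at h1
    exact Nat.dvd_of_mul_dvd_mul_left (by norm_num) h1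
  have hle8 : (MulAction.orbit N t').ncard ≤ 8 := by
    refine (Set.ncard_le_card _).trans (le_of_eq ?_)
    exact hQ8
  have hne3 : (MulAction.orbit N t').ncard ≠ 3 := by
    intro h3
    obtain ⟨s, hs, hst⟩ : ∃ s ∈ MulAction.orbit N t', s ≠ t' := by
      by_contra hno
      push_neg at hno
      have := (Set.ncard_le_ncard (s := MulAction.orbit N t') (t := {t'}) hno).trans_eq
        (Set.ncard_singleton t')
      omega
    let X : N := ⟨x, hCN hxC⟩
    have hfix : X • t' = t' := by
      rw [← MulAction.mem_stabilizer_iff, hstab, mem_subgroupOf]; exact hxC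
    have hs1 : s ≠ 1 := by
      rintro rfl
      obtain ⟨g, hg⟩ := hs
      have hgt : (g : G) * t * (g : G)⁻¹ = 1 := congrArg Subtype.val hg
      rw [conj_eq_one_iff] at hgt
      rw [hgt, orderOf_one] at ht
      norm_num at ht
    have hmove : X • s ≠ s := fun h => by
      have h' := mul_inv_eq_iff_eq_mul.1 (congrArg Subtype.val h)
      rcases hxfix (s : G) s.2 h'.symm with h1 | h1
      · exact hs1 (Subtype.ext h1)
      · exact hst (Subtype.ext h1)
    have hX3 : X ^ 3 = 1 := Subtype.ext (show x ^ 3 = 1 by rw [← hx]; exact pow_orderOf_eq_one x)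
    have h31 : X • X • X • s = s := by
      rw [smul_smul, smul_smul, show X * X * X = X ^ 3 by simp [pow_succ], hX3, one_smul]
    let F : Finset Q := {t', s, X • s, X • X • s}
    have h4 : F.card = 4 := by
      have e1 : t' ≠ X • s := fun h => hst (smul_left_cancel X (h.symm.trans hfix.symm))
      have e2 : t' ≠ X • X • s := fun h => e1 (smul_left_cancel X (hfix.trans h))
      have e3 : s ≠ X • X • s := fun h => hmove (by
        have h' := congrArg (fun y => X • y) h
        simp only [h31] at h'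
        exact h')
      have e4 : X • s ≠ X • X • s := fun h => hmove (smul_left_cancel X h).symm
      simp [F, Ne.symm hst, e1, e2, e3, e4, Ne.symm hmove]
    have hsub : (F : Set Q) ⊆ MulAction.orbit N t' := by
      intro y hy
      simp only [F, Finset.coe_insert, Finset.coe_singleton, Set.mem_insert_iff,
        Set.mem_singleton_iff] at hy
      rcases hy with rfl | rfl | rfl | rfl
      · exact MulAction.mem_orbit_self t'
      · exact hs
      · exact MulAction.mem_orbit_of_mem_orbit X hs
      · exact MulAction.mem_orbit_of_mem_orbit X (MulAction.mem_orbit_of_mem_orbit X hs)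
    have := Set.ncard_le_ncard hsub
    rw [Set.ncard_coe_finset, h4, h3] at this
    omega
  have h1 : (MulAction.orbit N t').ncard = 1 := by
    have hpos : 0 < (MulAction.orbit N t').ncard := Nat.pos_of_dvd_of_pos hdvd (by norm_num)
    interval_cases h : (MulAction.orbit N t').ncard <;> first | rfl | omega | norm_num at hdvd
  exact (Subgroup.eq_of_le_of_card_ge hCN (by rw [hmul, h1, hC])).ge

theorem eq_of_typeE {a b : G} (ha : orderOf a = 2) (hb : orderOf b = 2) {Q : Subgroup G}
    (hQa : TypeE a Q) (hQb : TypeE b Q) : a = b := by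
  have hC : centralizer ({a} : Set G) = centralizer ({b} : Set G) :=
    (normalizer_eq hG ha hQa).symm.trans (normalizer_eq hG hb hQb)
  obtain ⟨-, -, -, -, -, -, -, x, -, hxC, hxfix⟩ := hQa
  have hbQ : b ∈ Q := hQb.2.1
  rcases hxfix b hbQ (mem_centralizer_singleton_iff.1 (hC ▸ hxC)).symm with h | h
  · rw [h, orderOf_one] at hb; norm_num at hb
  · exact h.symm

/-- The recognition. -/
theorem nonempty_psl : Nonempty (G ≃* Matrix.ProjectiveSpecialLinearGroup (Fin 3) (ZMod 3)) := by
  classical
  haveI : Fact (Nat.Prime 2) := ⟨Nat.prime_two⟩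
  by_cases hGL : ∃ t : G, orderOf t = 2 ∧ Nonempty (centralizer ({t} : Set G) ≃* GL (Fin 2) (ZMod 3))
  · obtain ⟨t, ht, ⟨e⟩⟩ := hGL
    exact GLTwoThree.nonempty_psl_of_card ht e (fun u hu => GLTwoThree.isConj_t ht e hu) hG
  exfalso
  push_neg at hGL
  have hAE : ∀ t : G, orderOf t = 2 → TypeA t ∨ ∃ Q, TypeE t Q := fun t ht =>
    (classify hG ht).resolve_left fun h => not_isEmpty_iff.2 h (hGL t ht)
  have hnoE : ∀ t : G, orderOf t = 2 → ∀ Q, ¬ TypeE t Q := by
    intro t ht Q hQ
    have hQ' := hQ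
    obtain ⟨hQ8, htQ, hQ2, hQC, hCN, hCQ, hQS, -⟩ := hQ
    set C := centralizer ({t} : Set G) with hCdef
    have hC := card_cent_invol hG ht
    rw [← hCdef] at hC
    -- a Sylow subgroup of the centraliser
    obtain ⟨P⟩ : Nonempty (Sylow 2 C) := inferInstance
    set S := (P : Subgroup C).map C.subtype with hSdef
    have hS : Nat.card S = 16 := by
      rw [hSdef, card_map_of_injective C.subtype_injective, Sylow.card_eq_multiplicity, hC,
        show (48 : ℕ) = 2 ^ 4 * 3 by norm_num, Nat.factorization_mul (by norm_num) (by norm_num),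
        Finsupp.add_apply, Nat.Prime.factorization_pow Nat.prime_two, Finsupp.single_eq_same,
        Nat.factorization_eq_zero_of_not_dvd (by norm_num : ¬ 2 ∣ 3)]
      norm_num
    have hSC : S ≤ C := map_subtype_le _
    have hQleS := hQS S hS hSC
    obtain ⟨s, hsS, hsQ⟩ : ∃ s ∈ S, s ∉ Q := by
      by_contra hno
      push_neg at hno
      have := Subgroup.card_le_of_le hno
      omega
    have hQab : ∀ a ∈ Q, ∀ b ∈ Q, a * b = b * a := by
      intro a ha b hb
      have hi : ∀ c ∈ Q, c⁻¹ = c := fun c hc => inv_eq_of_mul_eq_one_right (hQ2 c hc)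
      calc a * b = (a * b)⁻¹ := (hi _ (mul_mem ha hb)).symm
        _ = b * a := by rw [mul_inv_rev, hi a ha, hi b hb]
    have hsN : s ∈ normalizer (Q : Set G) := hCN (hSC hsS)
    -- the centre of S meets Q in at least four elements
    let f : Q →* Q :=
      { toFun := fun q => ⟨(q : G) * (s * q * s⁻¹), mul_mem q.2 ((mem_normalizer_iff.1 hsN q).1 q.2)⟩
        map_one' := Subtype.ext (by simp)
        map_mul' := fun a b => Subtype.ext (by
          show (a : G) * b * (s * ((a : G) * b) * s⁻¹) =
            (a : G) * (s * a * s⁻¹) * ((b : G) * (s * b * s⁻¹))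
          have h1 : Commute (b : G) (s * a * s⁻¹) :=
            hQab _ b.2 _ ((mem_normalizer_iff.1 hsN a).1 a.2)
          have h2 := h1.mul_mul_mul_comm (a : G) (s * b * s⁻¹)
          rw [← h2]
          simp [mul_assoc]) }
    have hker : ∀ q : Q, q ∈ f.ker ↔ s * (q : G) * s⁻¹ = q := by
      intro q
      rw [MonoidHom.mem_ker]
      constructor
      · intro h
        have h' : (q : G) * (s * q * s⁻¹) = 1 := congrArg Subtype.val h
        rw [eq_inv_of_mul_eq_one_right h']
        exact inv_eq_of_mul_eq_one_right (hQ2 q q.2)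
      · intro h
        refine Subtype.ext ?_
        show (q : G) * (s * q * s⁻¹) = 1
        rw [h, hQ2 q q.2]
    have hsq : s * s ∈ Q :=
      Struct48.sq_mem hQleS (by rw [hS, hQ8]) hsS
    have hrange : f.range ≤ f.ker := by
      rintro _ ⟨q, rfl⟩
      rw [hker]
      show s * ((q : G) * (s * q * s⁻¹)) * s⁻¹ = (q : G) * (s * q * s⁻¹)
      have h2 : s * s * (q : G) * (s * s)⁻¹ = q := by
        rw [hQab _ hsq _ q.2, mul_inv_cancel_right]
      have h3 : Commute (s * (q : G) * s⁻¹) (q : G) :=
        hQab _ ((mem_normalizer_iff.1 hsN q).1 q.2) _ q.2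
      calc s * ((q : G) * (s * q * s⁻¹)) * s⁻¹ = (s * q * s⁻¹) * (s * s * q * (s * s)⁻¹) := by
            simp [mul_assoc]
        _ = (q : G) * (s * q * s⁻¹) := by rw [h2, h3.eq]
    have hcard := card_mul_index f.ker
    rw [Subgroup.index_ker, hQ8] at hcard
    have hle := Subgroup.card_le_of_le hrange
    have h3 : 3 ≤ Nat.card f.ker := by
      by_contra hlt
      push_neg at hlt
      nlinarith
    haveI : Fintype f.ker := Fintype.ofFinite _
    obtain ⟨u, hu⟩ : ∃ u : f.ker, ((u : Q) : G) ≠ 1 ∧ ((u : Q) : G) ≠ t := by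
      by_contra hno
      push_neg at hno
      have hsub : (Finset.univ : Finset f.ker).image (fun u : f.ker => ((u : Q) : G)) ⊆ {1, t} := by
        intro y hy
        obtain ⟨u, -, rfl⟩ := Finset.mem_image.1 hy
        simp only [Finset.mem_insert, Finset.mem_singleton]
        by_cases h1 : ((u : Q) : G) = 1
        · exact Or.inl h1
        · exact Or.inr (hno u h1)
      have := (Finset.card_le_card hsub).trans Finset.card_le_two
      rw [Finset.card_image_of_injective _ (fun a b h => Subtype.ext (Subtype.ext h)),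
        Finset.card_univ, ← Nat.card_eq_fintype_card] at this
      omega
    obtain ⟨hu1, hut⟩ := hu
    set w : G := ((u : Q) : G) with hw
    have hwQ : w ∈ Q := (u : Q).2
    have hSw : ∀ a ∈ Q, a * a = 1 → s * a * s⁻¹ = a → S ≤ centralizer ({a} : Set G) := by
      intro a ha _ hsa
      intro g hg
      by_cases hgQ : g ∈ Q
      · exact mem_centralizer_singleton_iff.2 (hQab g hgQ a ha)
      · have hgs : s⁻¹ * g ∈ Q := by
          have hi : (Q.subgroupOf S).index = 2 := by
            have := card_mul_index (Q.subgroupOf S)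
            rw [Nat.card_congr (subgroupOfEquivOfLe hQleS).toEquiv, hS, hQ8] at this
            omega
          have := (mul_mem_iff_of_index_two hi (a := (⟨s, hsS⟩ : S)⁻¹) (b := ⟨g, hg⟩)).2
            (by simp [mem_subgroupOf, hsQ, hgQ])
          simpa [mem_subgroupOf] using this
        refine mem_centralizer_singleton_iff.2 ?_
        have h1 : Commute s a := mul_inv_eq_iff_eq_mul.1 hsa
        have h2 : Commute (s⁻¹ * g) a := hQab _ hgs _ ha
        have h12 := h1.mul_left h2
        rwa [mul_inv_cancel_left] at h12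
    have hsw : s * w * s⁻¹ = w := (hker _).1 u.2
    have hst : s * t * s⁻¹ = t :=
      mul_inv_eq_iff_eq_mul.2 (mem_centralizer_singleton_iff.1 (hSC hsS))
    have htw : s * (t * w) * s⁻¹ = t * w := by
      rw [show s * (t * w) * s⁻¹ = (s * t * s⁻¹) * (s * w * s⁻¹) by simp [mul_assoc], hst, hsw]
    have htw1 : t * w ≠ 1 := fun h => hut (by
      rw [eq_inv_of_mul_eq_one_right h]; exact inv_eq_of_mul_eq_one_right (hQ2 t htQ))
    have htwt : t * w ≠ t := fun h => hu1 (mul_eq_left.1 h)
    have htww : t * w ≠ w := fun h => by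
      have : t = 1 := mul_eq_right.1 h
      rw [this, orderOf_one] at ht; norm_num at ht
    have hord : ∀ a ∈ Q, a ≠ 1 → orderOf a = 2 := fun a ha h1 =>
      orderOf_eq_prime (by rw [pow_two]; exact hQ2 a ha) h1
    -- the types of these involutions
    have hE : ∀ a ∈ Q, a ≠ 1 → s * a * s⁻¹ = a → ∃ R, TypeE a R ∧ R ≤ S := by
      intro a ha ha1 hsa
      have hSa := hSw a ha (hQ2 a ha) hsa
      rcases hAE a (hord a ha ha1) with hA | ⟨R, hR⟩
      · exfalso
        obtain ⟨d, hdd, hCd, -⟩ := hA
        have hdQ : d ∈ Q := hCQ (mem_centralizer_iff.2 fun q hq =>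
          mem_centralizer_singleton_iff.1
            (hCd (mem_centralizer_singleton_iff.2 (hQab q hq a ha))))
        exact ha1 (hdd ▸ hQ2 d hdQ)
      · exact ⟨R, hR, hR.2.2.2.2.2.2.1 S hS hSa⟩
    obtain ⟨R₂, hR₂, hR₂S⟩ := hE w hwQ hu1 hsw
    obtain ⟨R₃, hR₃, hR₃S⟩ := hE (t * w) (mul_mem htQ hwQ) htw1 htw
    have hd12 : Q ≠ R₂ := fun h => hut (eq_of_typeE hG (hord w hwQ hu1) ht hR₂ (h ▸ hQ'))
    have hd13 : Q ≠ R₃ := fun h =>
      htwt (eq_of_typeE hG (hord _ (mul_mem htQ hwQ) htw1) ht hR₃ (h ▸ hQ'))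
    have hd23 : R₂ ≠ R₃ := fun h =>
      htww (eq_of_typeE hG (hord _ (mul_mem htQ hwQ) htw1) (hord w hwQ hu1) hR₃ (h ▸ hR₂))
    have sub_eq : ∀ {A B : Subgroup G}, A ≤ S → B ≤ S → A.subgroupOf S = B.subgroupOf S → A = B := by
      intro A B hA hB h
      rw [← inf_eq_left.2 hA, ← inf_eq_left.2 hB, ← subgroupOf_map_subtype, ← subgroupOf_map_subtype, h]
    have c8 : ∀ {A : Subgroup G}, A ≤ S → Nat.card A = 8 → Nat.card (A.subgroupOf S) = 8 :=
      fun hA h => by rw [Nat.card_congr (subgroupOfEquivOfLe hA).toEquiv, h]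
    have sq' : ∀ {A : Subgroup G}, (∀ a ∈ A, a * a = 1) → ∀ a ∈ A.subgroupOf S, a * a = 1 :=
      fun h a ha => Subtype.ext (h _ (mem_subgroupOf.1 ha))
    have habS := comm_of_three hS (Q.subgroupOf S) (R₂.subgroupOf S) (R₃.subgroupOf S)
      (c8 hQleS hQ8) (c8 hR₂S hR₂.1) (c8 hR₃S hR₃.1)
      (fun h => hd12 (sub_eq hQleS hR₂S h)) (fun h => hd13 (sub_eq hQleS hR₃S h))
      (fun h => hd23 (sub_eq hR₂S hR₃S h)) (sq' hQ2) (sq' hR₂.2.2.1) (sq' hR₃.2.2.1)
    exact hsQ (hCQ (mem_centralizer_iff.2 fun q hq =>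
      congrArg Subtype.val (habS ⟨q, hQleS hq⟩ ⟨s, hsS⟩)))
  have hA : ∀ t : G, orderOf t = 2 → TypeA t := fun t ht =>
    (hAE t ht).resolve_right fun ⟨Q, hQ⟩ => hnoE t ht Q hQ
  refine not_rankOne hG fun a b ha hb hab => ?_
  obtain ⟨-, -, -, h3⟩ := hA a ha
  obtain ⟨d, hdd, hCd, -⟩ := hA b hb
  have hbb : b * b = 1 := by rw [← pow_two, ← hb]; exact pow_orderOf_eq_one b
  have hda : d ∈ centralizer ({a} : Set G) := mem_centralizer_singleton_iff.2
    (mem_centralizer_singleton_iff.1 (hCd (mem_centralizer_singleton_iff.2 hab.eq))).symm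
  have h4 : d ^ 4 = 1 := by
    rw [show 4 = 2 * 2 by norm_num, pow_mul, pow_two d, hdd, pow_two, hbb]
  have hne : d * d ≠ 1 := fun h => by
    rw [hdd] at h; rw [h, orderOf_one] at hb; norm_num at hb
  exact (hdd ▸ h3 d hda h4 hne).symm

end Cfsg.Agent.DegSix.Local5616
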