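import Cfsg.Agent.Lib.DegGraph.Small6000.Basic
import Cfsg.Agent.Lib.DegGraph.Small6000.A7
import Cfsg.Agent.Lib.DegGraph.Small6000.Local5616
import Cfsg.Agent.Lib.Small.Orders3640.Main
import Cfsg.Agent.Lib.Classical.DicksonProper
import Cfsg.Agent.S0494
import Cfsg.Agent.S0495
import Cfsg.Agent.S0497
import Cfsg.Agent.S0498
import Cfsg.Agent.S0981
import Cfsg.Agent.S0984
import Cfsg.Agent.S1011
import Cfsg.Agent.S1020
import Cfsg.Agent.S1021
import Cfsg.Agent.S4774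
import Cfsg.Agent.S4812
import Mathlib.FieldTheory.Finite.GaloisField

/-!
The simple groups of order below 6000: uniqueness and the parts of their degree graphs that are needed.
-/

set_option autoImplicit false
set_option linter.unusedSectionVars false
set_option linter.style.haveILetI false

namespace Cfsg.Agent.DegSix.Simple

universe u v

variable {S : Type u} [Group S] [Finite S] [IsSimpleGroup S]

theorem card_psl {F : Type} [Field F] [Finite F] (q : ℕ) (hq : Nat.card F = q) :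
    Nat.gcd 2 (q - 1) * Nat.card (Matrix.ProjectiveSpecialLinearGroup (Fin 2) F) = q * (q ^ 2 - 1) := by
  have := Dickson.gcd_mul_card_psl (K := F)
  rwa [hq] at this

theorem iso60 (h : Nat.card S = 60) :
    Nonempty (S ≃* Matrix.ProjectiveSpecialLinearGroup (Fin 2) (GaloisField 2 2)) := by
  haveI : Fintype (GaloisField 2 2) := Fintype.ofFinite _
  have hF := GaloisField.card 2 2 (by norm_num)
  haveI : IsSimpleGroup (Matrix.ProjectiveSpecialLinearGroup (Fin 2) (GaloisField 2 2)) :=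
    Matrix.ProjectiveSpecialLinearGroup.rank_two_simple (by rw [hF]; norm_num)
  have hc := card_psl (F := GaloisField 2 2) 4 (by rw [hF]; norm_num)
  norm_num at hc
  obtain ⟨a⟩ := S0494.result (G := S) h
  obtain ⟨b⟩ := S0494.result (G := Matrix.ProjectiveSpecialLinearGroup (Fin 2) (GaloisField 2 2)) (by omega)
  exact ⟨a.trans b.symm⟩

theorem iso168 (h : Nat.card S = 168) :
    Nonempty (S ≃* Matrix.ProjectiveSpecialLinearGroup (Fin 2) (ZMod 7)) := by
  haveI : Fact (Nat.Prime 7) := ⟨by norm_num⟩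
  exact S0495.result h (ZMod.card 7)

theorem iso360 (h : Nat.card S = 360) :
    Nonempty (S ≃* Matrix.ProjectiveSpecialLinearGroup (Fin 2) (GaloisField 3 2)) := by
  haveI : Fact (Nat.Prime 3) := ⟨Nat.prime_three⟩
  haveI : Fintype (GaloisField 3 2) := Fintype.ofFinite _
  have hF := GaloisField.card 3 2 (by norm_num)
  haveI : IsSimpleGroup (Matrix.ProjectiveSpecialLinearGroup (Fin 2) (GaloisField 3 2)) :=
    Matrix.ProjectiveSpecialLinearGroup.rank_two_simple (by rw [hF]; norm_num)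
  have hc := card_psl (F := GaloisField 3 2) 9 (by rw [hF]; norm_num)
  norm_num at hc
  obtain ⟨a⟩ := S0497.result (G := S) h
  obtain ⟨b⟩ := S0497.result (G := Matrix.ProjectiveSpecialLinearGroup (Fin 2) (GaloisField 3 2)) (by omega)
  exact ⟨a.trans b.symm⟩

theorem iso504 (h : Nat.card S = 504) :
    Nonempty (S ≃* Matrix.ProjectiveSpecialLinearGroup (Fin 2) (GaloisField 2 3)) := by
  haveI : Fintype (GaloisField 2 3) := Fintype.ofFinite _
  exact S1011.result h (by rw [← Nat.card_eq_fintype_card, GaloisField.card 2 3 (by norm_num)]; norm_num)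

theorem iso660 (h : Nat.card S = 660) :
    Nonempty (S ≃* Matrix.ProjectiveSpecialLinearGroup (Fin 2) (ZMod 11)) := by
  haveI : Fact (Nat.Prime 11) := ⟨by norm_num⟩
  exact S0498.result 11 (Or.inl rfl) (by rw [h]; norm_num) (ZMod.card 11)

theorem iso1092 (h : Nat.card S = 1092) :
    Nonempty (S ≃* Matrix.ProjectiveSpecialLinearGroup (Fin 2) (ZMod 13)) := by
  haveI : Fact (Nat.Prime 13) := ⟨by norm_num⟩
  exact S0498.result 13 (Or.inr rfl) (by rw [h]; norm_num) (ZMod.card 13)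

theorem iso2448 (h : Nat.card S = 2448) :
    Nonempty (S ≃* Matrix.ProjectiveSpecialLinearGroup (Fin 2) (ZMod 17)) := by
  haveI : Fact (Nat.Prime 17) := ⟨by norm_num⟩
  exact S1020.result h (ZMod.card 17)

theorem iso3420 (h : Nat.card S = 3420) :
    Nonempty (S ≃* Matrix.ProjectiveSpecialLinearGroup (Fin 2) (ZMod 19)) := by
  haveI : Fact (Nat.Prime 19) := ⟨by norm_num⟩
  exact S1021.result h (ZMod.card 19)

theorem iso4080 (h : Nat.card S = 4080) :
    Nonempty (S ≃* Matrix.ProjectiveSpecialLinearGroup (Fin 2) (GaloisField 2 4)) := by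
  haveI : Fintype (GaloisField 2 4) := Fintype.ofFinite _
  exact S0981.result h (by rw [← Nat.card_eq_fintype_card, GaloisField.card 2 4 (by norm_num)]; norm_num)

/-- Simple groups of equal order below 6000 are isomorphic. -/
theorem iso_of_card {T : Type v} [Group T] [Finite T] [IsSimpleGroup T] (hS : ¬ IsMulCommutative S)
    (hlt : Nat.card S < 6000) (h : Nat.card T = Nat.card S) : Nonempty (T ≃* S) := by
  have hm := Ord3640.card_mem_6000 hS hlt
  simp only [Finset.mem_insert, Finset.mem_singleton] at hm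
  rcases hm with e | e | e | e | e | e | e | e | e | e | e <;> rw [e] at h
  · obtain ⟨a⟩ := iso60 h; obtain ⟨b⟩ := iso60 e; exact ⟨a.trans b.symm⟩
  · obtain ⟨a⟩ := iso168 h; obtain ⟨b⟩ := iso168 e; exact ⟨a.trans b.symm⟩
  · obtain ⟨a⟩ := iso360 h; obtain ⟨b⟩ := iso360 e; exact ⟨a.trans b.symm⟩
  · obtain ⟨a⟩ := iso504 h; obtain ⟨b⟩ := iso504 e; exact ⟨a.trans b.symm⟩
  · obtain ⟨a⟩ := iso660 h; obtain ⟨b⟩ := iso660 e; exact ⟨a.trans b.symm⟩
  · obtain ⟨a⟩ := iso1092 h; obtain ⟨b⟩ := iso1092 e; exact ⟨a.trans b.symm⟩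
  · obtain ⟨a⟩ := iso2448 h; obtain ⟨b⟩ := iso2448 e; exact ⟨a.trans b.symm⟩
  · obtain ⟨a⟩ := S0984.result (G := T) h; obtain ⟨b⟩ := S0984.result (G := S) e; exact ⟨a.trans b.symm⟩
  · obtain ⟨a⟩ := iso3420 h; obtain ⟨b⟩ := iso3420 e; exact ⟨a.trans b.symm⟩
  · obtain ⟨a⟩ := iso4080 h; obtain ⟨b⟩ := iso4080 e; exact ⟨a.trans b.symm⟩
  · obtain ⟨a⟩ := Local5616.nonempty_psl (G := T) h; obtain ⟨b⟩ := Local5616.nonempty_psl (G := S) e
    exact ⟨a.trans b.symm⟩

/-- The degree graph of a two-dimensional group over a field of odd order. -/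
theorem odd_spec {F : Type} [Field F] [Finite F] (t q : ℕ) [CharP F t] (ht : t.Prime) (ht2 : t ≠ 2)
    (hq : Nat.card F = q) (h5 : 5 < q)
    (e : Nonempty (S ≃* Matrix.ProjectiveSpecialLinearGroup (Fin 2) F)) :
    Cfsg.degreePrimes S = {r : ℕ | r.Prime ∧ r ∣ q * (q ^ 2 - 1)} ∧
    ∀ r s : ℕ, (Cfsg.degreeGraph S).Adj r s ↔ (r ≠ s ∧ r.Prime ∧ s.Prime ∧ r ∣ q ^ 2 - 1 ∧ s ∣ q ^ 2 - 1 ∧
      (r = 2 ∨ s = 2 ∨ (r ∣ q + 1 ∧ s ∣ q + 1) ∨ (r ∣ q - 1 ∧ s ∣ q - 1))) := by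
  haveI := Fact.mk ht
  haveI : Fintype F := Fintype.ofFinite F
  exact S4774.result F t ht2 q (by rw [← Nat.card_eq_fintype_card, hq]) h5 (Or.inl e)

/-- The degree graph of a two-dimensional group over a field of characteristic two. -/
theorem even_spec {F : Type} [Field F] [Finite F] [CharP F 2] (q : ℕ) (hq : Nat.card F = q) (h4 : 4 ≤ q)
    (e : Nonempty (S ≃* Matrix.ProjectiveSpecialLinearGroup (Fin 2) F)) :
    Cfsg.degreePrimes S = {r : ℕ | r.Prime ∧ r ∣ q * (q ^ 2 - 1)} ∧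
    ∀ r s : ℕ, (Cfsg.degreeGraph S).Adj r s ↔ (r ≠ s ∧ r.Prime ∧ s.Prime ∧
      ((r ∣ q + 1 ∧ s ∣ q + 1) ∨ (r ∣ q - 1 ∧ s ∣ q - 1))) := by
  haveI : Fintype F := Fintype.ofFinite F
  exact S4812.result F q (by rw [← Nat.card_eq_fintype_card, hq]) h4 (Or.inl e)

theorem facts60 (h : Nat.card S = 60) :
    (2 ∈ Cfsg.degreePrimes S ∧ 3 ∈ Cfsg.degreePrimes S ∧ 5 ∈ Cfsg.degreePrimes S) ∧
      ¬ (Cfsg.degreeGraph S).Adj 2 3 ∧ ¬ (Cfsg.degreeGraph S).Adj 2 5 ∧ ¬ (Cfsg.degreeGraph S).Adj 3 5 := by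
  obtain ⟨h1, h2⟩ := even_spec (F := GaloisField 2 2) 4
    (by rw [GaloisField.card 2 2 (by norm_num)]; norm_num) le_rfl (iso60 h)
  rw [h1, h2, h2, h2]
  norm_num

theorem facts168 (h : Nat.card S = 168) :
    7 ∈ Cfsg.degreePrimes S ∧ 2 ∈ Cfsg.degreePrimes S ∧ (Cfsg.degreeGraph S).Adj 2 3 := by
  haveI : Fact (Nat.Prime 7) := ⟨by norm_num⟩
  obtain ⟨h1, h2⟩ := odd_spec (F := ZMod 7) 7 7 (by norm_num) (by norm_num) (Nat.card_zmod 7)
    (by norm_num) (iso168 h)
  rw [h1, h2]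
  norm_num

theorem facts360 (h : Nat.card S = 360) :
    5 ∈ Cfsg.degreePrimes S ∧ (Cfsg.degreeGraph S).Adj 2 5 ∧ ¬ (Cfsg.degreeGraph S).Adj 2 3 := by
  haveI : Fact (Nat.Prime 3) := ⟨Nat.prime_three⟩
  obtain ⟨h1, h2⟩ := odd_spec (F := GaloisField 3 2) 3 9 Nat.prime_three (by norm_num)
    (by rw [GaloisField.card 3 2 (by norm_num)]; norm_num) (by norm_num) (iso360 h)
  rw [h1, h2, h2]
  norm_num

theorem facts504 (h : Nat.card S = 504) :
    7 ∈ Cfsg.degreePrimes S ∧ 2 ∈ Cfsg.degreePrimes S ∧ ¬ (Cfsg.degreeGraph S).Adj 2 3 := by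
  obtain ⟨h1, h2⟩ := even_spec (F := GaloisField 2 3) 8
    (by rw [GaloisField.card 2 3 (by norm_num)]; norm_num) (by norm_num) (iso504 h)
  rw [h1, h2]
  norm_num

theorem facts660 (h : Nat.card S = 660) : 11 ∈ Cfsg.degreePrimes S := by
  haveI : Fact (Nat.Prime 11) := ⟨by norm_num⟩
  rw [(odd_spec (F := ZMod 11) 11 11 (by norm_num) (by norm_num) (Nat.card_zmod 11) (by norm_num) (iso660 h)).1]
  norm_num

theorem facts1092 (h : Nat.card S = 1092) : 13 ∈ Cfsg.degreePrimes S := by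
  haveI : Fact (Nat.Prime 13) := ⟨by norm_num⟩
  rw [(odd_spec (F := ZMod 13) 13 13 (by norm_num) (by norm_num) (Nat.card_zmod 13) (by norm_num) (iso1092 h)).1]
  norm_num

theorem facts2448 (h : Nat.card S = 2448) : 17 ∈ Cfsg.degreePrimes S := by
  haveI : Fact (Nat.Prime 17) := ⟨by norm_num⟩
  rw [(odd_spec (F := ZMod 17) 17 17 (by norm_num) (by norm_num) (Nat.card_zmod 17) (by norm_num) (iso2448 h)).1]
  norm_num

theorem facts3420 (h : Nat.card S = 3420) : 19 ∈ Cfsg.degreePrimes S := by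
  haveI : Fact (Nat.Prime 19) := ⟨by norm_num⟩
  rw [(odd_spec (F := ZMod 19) 19 19 (by norm_num) (by norm_num) (Nat.card_zmod 19) (by norm_num) (iso3420 h)).1]
  norm_num

theorem facts4080 (h : Nat.card S = 4080) : 17 ∈ Cfsg.degreePrimes S := by
  rw [(even_spec (F := GaloisField 2 4) 16
    (by rw [GaloisField.card 2 4 (by norm_num)]; norm_num) (by norm_num) (iso4080 h)).1]
  norm_num

theorem facts2520 (h : Nat.card S = 2520) : 5 ∈ Cfsg.degreePrimes S ∧ 7 ∈ Cfsg.degreePrimes S := by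
  obtain ⟨e⟩ := S0984.result (G := S) h
  rw [Basic.degreePrimes_congr e]
  exact A7.mem_five_seven

theorem facts5616 (h : Nat.card S = 5616) : 13 ∈ Cfsg.degreePrimes S ∧ 3 ∈ Cfsg.degreePrimes S := by
  haveI : Fintype S := Fintype.ofFinite S
  obtain ⟨a, b, -, -, -, -, -, -, -, -, -, h12, d, hd, h13⟩ := Char5616.facts h
  exact ⟨⟨by norm_num, d, hd, h13⟩, ⟨Nat.prime_three, 12, h12, by norm_num⟩⟩

end Cfsg.Agent.DegSix.Simple
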