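import Mathlib.GroupTheory.SchurZassenhaus
import Mathlib.GroupTheory.Solvable
import Mathlib.GroupTheory.PGroup
import Mathlib.GroupTheory.Sylow
import Mathlib.GroupTheory.QuotientGroup.Basic
import Mathlib.Tactic

/-!
Solvable groups of a given order: a normal Sylow subgroup or an abelian normal Hall subgroup.
-/

set_option autoImplicit false
set_option linter.unusedSectionVars false
set_option linter.style.haveILetI false

namespace Cfsg.Agent.DegSix.Solvable

open Subgroup
open scoped commutatorElement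

universe u

variable {G : Type u} [Group G] [Finite G]

/-- Congruence for the fixed part of an invariant subgroup. -/
theorem modEq_prime {r : ℕ} (hr : r.Prime) {x : G} (hx : x ^ r = 1) (M : Subgroup G)
    (hM : ∀ m ∈ M, x * m * x⁻¹ ∈ M) :
    Nat.card M ≡ Nat.card ↥(M ⊓ centralizer ({x} : Set G)) [MOD r] := by
  haveI : Fact r.Prime := ⟨hr⟩
  have hH : IsPGroup r (zpowers x) := by
    rintro ⟨y, hy⟩
    obtain ⟨k, rfl⟩ := mem_zpowers_iff.1 hy
    refine ⟨1, Subtype.ext ?_⟩
    show (x ^ k) ^ r ^ 1 = 1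
    rw [pow_one, ← zpow_natCast (x ^ k) r, ← zpow_mul, mul_comm, zpow_mul, zpow_natCast, hx, one_zpow]
  have hxN : x ∈ normalizer (M : Set G) := mem_normalizer_iff.2 fun m => ⟨hM m, fun h => by
    have key : ∀ k : ℕ, x ^ k * (x * m * x⁻¹) * (x ^ k)⁻¹ ∈ M := by
      intro k
      induction k with
      | zero => simpa using h
      | succ k ih =>
        have := hM _ ih
        rwa [show x * (x ^ k * (x * m * x⁻¹) * (x ^ k)⁻¹) * x⁻¹ =
          x ^ (k + 1) * (x * m * x⁻¹) * (x ^ (k + 1))⁻¹ by simp [pow_succ', mul_assoc]] at this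
    have := key (r - 1)
    have hr1 : x ^ (r - 1) * x = 1 := by rw [← pow_succ, Nat.sub_add_cancel hr.one_le, hx]
    rwa [show x ^ (r - 1) * (x * m * x⁻¹) * (x ^ (r - 1))⁻¹ =
      (x ^ (r - 1) * x) * m * (x ^ (r - 1) * x)⁻¹ by simp [mul_assoc], hr1, one_mul, inv_one,
      mul_one] at this⟩
  have hle : zpowers x ≤ normalizer (M : Set G) := zpowers_le.2 hxN
  letI act : MulAction (zpowers x) M :=
    { smul := fun h m => ⟨(h : G) * m * (h : G)⁻¹, (mem_normalizer_iff.1 (hle h.2) m).1 m.2⟩
      one_smul := fun m => Subtype.ext (by show (1 : G) * m * (1 : G)⁻¹ = m; simp)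
      mul_smul := fun a b m => Subtype.ext (by
        show ((a * b : zpowers x) : G) * m * ((a * b : zpowers x) : G)⁻¹ =
          (a : G) * ((b : G) * m * (b : G)⁻¹) * (a : G)⁻¹
        simp [mul_assoc]) }
  have h := hH.card_modEq_card_fixedPoints M
  refine Eq.trans h (congrArg (· % r) ?_)
  refine Nat.card_congr
    { toFun := fun m => ⟨((m : M) : G), ⟨(m : M).2, mem_centralizer_singleton_iff.2 ?_⟩⟩
      invFun := fun m => ⟨⟨(m : G), m.2.1⟩, fun h => Subtype.ext ?_⟩
      left_inv := fun m => rfl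
      right_inv := fun m => rfl }
  · have h1 := congrArg Subtype.val (m.2 ⟨x, mem_zpowers x⟩)
    change x * ((m : M) : G) * x⁻¹ = _ at h1
    exact (mul_inv_eq_iff_eq_mul.1 h1).symm
  · show (h : G) * (m : G) * (h : G)⁻¹ = m
    obtain ⟨k, hk⟩ := mem_zpowers_iff.1 h.2
    have hc : Commute (m : G) x := (mem_centralizer_singleton_iff.1 m.2.2)
    rw [← hk, (hc.zpow_right k).symm.eq, mul_inv_cancel_right]

/-- A normal Hall subgroup of a normal subgroup is normal. -/
theorem normal_of_hall (A C : Subgroup G) [C.Normal] (hAC : A ≤ C)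
    (hn : ∀ c ∈ C, ∀ a ∈ A, c * a * c⁻¹ ∈ A)
    (hcop : (Nat.card A).Coprime (A.subgroupOf C).index) : A.Normal := by
  haveI : (A.subgroupOf C).Normal :=
    ⟨fun a ha c => by simpa [mem_subgroupOf] using hn c c.2 a (mem_subgroupOf.1 ha)⟩
  refine ⟨fun a ha g => ?_⟩
  let b : C := ⟨g * a * g⁻¹, (inferInstance : C.Normal).conj_mem a (hAC ha) g⟩
  have h1 : orderOf (QuotientGroup.mk' (A.subgroupOf C) b) ∣ Nat.card A := by
    refine (orderOf_map_dvd _ b).trans ?_
    rw [← Subgroup.orderOf_coe]
    show orderOf (g * a * g⁻¹) ∣ Nat.card A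
    rw [show g * a * g⁻¹ = MulAut.conj g a from rfl, MulEquiv.orderOf_eq]
    exact Subgroup.orderOf_dvd_natCard A ha
  have h2 : orderOf (QuotientGroup.mk' (A.subgroupOf C) b) ∣ (A.subgroupOf C).index :=
    orderOf_dvd_natCard _
  have h3 := Nat.eq_one_of_dvd_one (hcop ▸ Nat.dvd_gcd h1 h2)
  rw [orderOf_eq_one_iff] at h3
  exact mem_subgroupOf.1 ((QuotientGroup.eq_one_iff b).1 h3)

theorem pow_comm_central {x y c : G} (hc : ∀ g, g * c = c * g) (h : x * y = y * x * c) :
    ∀ k : ℕ, x ^ k * y = y * x ^ k * c ^ k := by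
  intro k
  induction k with
  | zero => simp
  | succ k ih =>
    have hc' : ∀ g : G, Commute g c := hc
    rw [pow_succ' x, mul_assoc, ih, ← mul_assoc, ← mul_assoc, h, pow_succ' c]
    calc y * x * c * x ^ k * c ^ k = y * x * (x ^ k * c) * c ^ k := by
          rw [(hc' (x ^ k)).eq]; simp [mul_assoc]
      _ = y * (x * x ^ k) * (c * c ^ k) := by simp [mul_assoc]

/-- The dichotomy. -/
theorem dichotomy {n p R : ℕ} (hp : p.Prime) (hp2 : ¬ p ^ 2 ∣ n)
    (hR : R = 0 ∨ (R ∣ n ∧ R.Coprime (n / R)))
    (hn : ∀ q j, q.Prime → q ≠ p → q ^ j ∣ n → q ^ j ≠ R → ∀ i < j, ¬ p ∣ q ^ j - q ^ i) :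
    ∀ (m : ℕ) (G : Type u) [Group G] [Finite G] [Group.IsSolvable G], Nat.card G = m → m ∣ n →
      (∀ P : Sylow p G, (P : Subgroup G).Normal) ∨
      ∃ A : Subgroup G, A.Normal ∧ IsMulCommutative A ∧ Nat.card A = R := by
  haveI := Fact.mk hp
  intro m
  induction m using Nat.strong_induction_on with
  | _ m ih =>
  intro G _ _ _ hG hmn
  classical
  by_cases hpm : p ∣ m
  swap
  · left
    intro P
    have h1 : Nat.card P = 1 := by
      rw [Sylow.card_eq_multiplicity, hG, Nat.factorization_eq_zero_of_not_dvd hpm, pow_zero]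
    rw [Subgroup.card_eq_one.1 h1]
    infer_instance
  have hp2m : ¬ p ^ 2 ∣ m := fun h => hp2 (h.trans hmn)
  have hfac : m.factorization p = 1 := by
    have hm0 : m ≠ 0 := hG ▸ Nat.card_pos.ne'
    refine le_antisymm ?_ ((hp.dvd_iff_one_le_factorization hm0).1 hpm)
    by_contra h
    exact hp2m ((hp.pow_dvd_iff_le_factorization hm0).2 (by omega))
  have hcardP : ∀ P : Sylow p G, Nat.card P = p := fun P => by
    rw [Sylow.card_eq_multiplicity, hG, hfac, pow_one]
  have hR' : R ≠ 0 → R ∣ n ∧ R.Coprime (n / R) := fun h => hR.resolve_left h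
  -- an elementary normal subgroup
  obtain ⟨M, q, j, hMn, hMc, hq, hj, hMq, hMcard⟩ : ∃ (M : Subgroup G) (q j : ℕ), M.Normal ∧
      IsMulCommutative M ∧ q.Prime ∧ 0 < j ∧ (∀ a ∈ M, a ^ q = 1) ∧ Nat.card M = q ^ j := by
    have hex : ∃ k, derivedSeries G k = ⊥ := (Group.isSolvable_def G).1 inferInstance
    have hk := Nat.find_spec hex
    have hk0 : Nat.find hex ≠ 0 := by
      intro h0
      rw [h0, derivedSeries_zero] at hk
      have h1 : Nat.card G = 1 := by rw [← Subgroup.card_top, hk, Subgroup.card_bot]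
      rw [hG] at h1
      subst h1
      exact hp.one_lt.ne' (Nat.dvd_one.1 hpm)
    obtain ⟨k, hk'⟩ := Nat.exists_eq_succ_of_ne_zero hk0
    rw [hk'] at hk
    set A := derivedSeries G k with hA
    have hAne : A ≠ ⊥ := fun h => by
      have := Nat.find_min' hex h
      omega
    have hAc : ∀ a ∈ A, ∀ b ∈ A, a * b = b * a := by
      intro a ha b hb
      have : ⁅a, b⁆ ∈ derivedSeries G (k + 1) := by
        rw [derivedSeries_succ]; exact commutator_mem_commutator ha hb
      rw [hk, mem_bot] at this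
      exact commutatorElement_eq_one_iff_mul_comm.1 this
    haveI hAn : A.Normal := derivedSeries_normal G k
    have hA1 : 1 < Nat.card A := (Subgroup.one_lt_card_iff_ne_bot A).2 hAne
    obtain ⟨q, hq, hqA⟩ := Nat.exists_prime_and_dvd hA1.ne'
    haveI := Fact.mk hq
    let M : Subgroup G :=
      { carrier := {a | a ∈ A ∧ a ^ q = 1}
        one_mem' := ⟨one_mem A, one_pow q⟩
        mul_mem' := fun {a b} ha hb => ⟨mul_mem ha.1 hb.1, by
          rw [(show Commute a b from hAc a ha.1 b hb.1).mul_pow, ha.2, hb.2, one_mul]⟩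
        inv_mem' := fun {a} ha => ⟨Subgroup.inv_mem _ ha.1, by rw [inv_pow, ha.2, inv_one]⟩ }
    have hMn : M.Normal := ⟨fun a ha g => ⟨hAn.conj_mem a ha.1 g, by rw [conj_pow, ha.2, mul_one, mul_inv_cancel]⟩⟩
    have hpg : IsPGroup q M := fun a => ⟨1, Subtype.ext (by simpa using a.2.2)⟩
    obtain ⟨j, hj⟩ := IsPGroup.iff_card.1 hpg
    have hj0 : 0 < j := by
      obtain ⟨a, ha⟩ := exists_prime_orderOf_dvd_card' (G := A) q hqA
      have haM : (a : G) ∈ M := ⟨a.2, by
        rw [← ha, ← Subgroup.orderOf_coe]; exact pow_orderOf_eq_one _⟩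
      have hd := Subgroup.orderOf_dvd_natCard M haM
      rw [Subgroup.orderOf_coe, ha, hj] at hd
      refine Nat.pos_of_ne_zero fun h => ?_
      rw [h, pow_zero] at hd
      exact hq.one_lt.ne' (Nat.dvd_one.1 hd)
    exact ⟨M, q, j, hMn, ⟨⟨fun a b => Subtype.ext (hAc a a.2.1 b b.2.1)⟩⟩, hq, hj0, fun a ha => ha.2, hj⟩
  haveI := hMn
  have hqjm : q ^ j ∣ m := hMcard ▸ hG ▸ card_subgroup_dvd_card M
  by_cases hqp : q = p
  · left
    subst hqp
    have hj1 : j = 1 := by
      by_contra hne
      exact hp2m ((pow_dvd_pow q (by omega : 2 ≤ j)).trans hqjm)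
    intro P
    let P₀ : Sylow q G := Sylow.ofCard M (by rw [hMcard, hj1, hG, hfac])
    haveI := (Sylow.unique_of_normal P₀ hMn).instSubsingleton
    rw [Subsingleton.elim P P₀]
    exact hMn
  by_cases hMR : Nat.card M = R
  · exact Or.inr ⟨M, hMn, hMc, hMR⟩
  obtain ⟨P⟩ : Nonempty (Sylow p G) := inferInstance
  -- the Sylow subgroup centralises it
  have hPC : (P : Subgroup G) ≤ centralizer (M : Set G) := by
    intro x hx
    have hxp : x ^ p = 1 := by
      rw [← orderOf_dvd_iff_pow_eq_one, ← hcardP P]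
      exact Subgroup.orderOf_dvd_natCard _ hx
    have hmod := modEq_prime hp hxp M fun a ha => hMn.conj_mem a ha x
    have hd : Nat.card ↥(M ⊓ centralizer ({x} : Set G)) ∣ q ^ j := hMcard ▸ card_dvd_of_le inf_le_left
    obtain ⟨i, hij, hi⟩ := (Nat.dvd_prime_pow hq).1 hd
    have heq : i = j := by
      by_contra hne
      refine hn q j hq hqp (hqjm.trans hmn) (hMcard ▸ hMR) i (by omega) ?_
      rw [hMcard, hi] at hmod
      exact (Nat.modEq_iff_dvd' (Nat.pow_le_pow_right hq.pos hij)).1 hmod.symm
    have hall : M ⊓ centralizer ({x} : Set G) = M :=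
      Subgroup.eq_of_le_of_card_ge inf_le_left (by rw [hi, heq, hMcard])
    exact mem_centralizer_iff.2 fun a ha => mem_centralizer_singleton_iff.1 (hall.ge ha).2
  by_cases hC : centralizer (M : Set G) = ⊤
  swap
  · set C := centralizer (M : Set G) with hCdef
    haveI hCn : C.Normal := Subgroup.normal_centralizer
    have hlt : Nat.card C < m := by
      rw [← hG]
      exact lt_of_le_of_ne (card_le_card_group C) fun h => hC (eq_top_of_card_eq C h)
    rcases ih _ hlt C rfl ((hG ▸ card_subgroup_dvd_card C).trans hmn) with h | ⟨A, hAn, hAc, hAR⟩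
    · left
      let P' : Sylow p C := Sylow.ofCard ((P : Subgroup G).subgroupOf C) (by
        rw [Nat.card_congr (subgroupOfEquivOfLe hPC).toEquiv, hcardP]
        have h1 : p ∣ Nat.card C := hcardP P ▸ card_dvd_of_le hPC
        have h2 : ¬ p ^ 2 ∣ Nat.card C := fun e => hp2m (e.trans (hG ▸ card_subgroup_dvd_card C))
        have h3 : (Nat.card C).factorization p = 1 := by
          refine le_antisymm ?_ ((hp.dvd_iff_one_le_factorization Nat.card_pos.ne').1 h1)
          by_contra hh
          exact h2 ((hp.pow_dvd_iff_le_factorization Nat.card_pos.ne').2 (by omega))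
        rw [h3, pow_one])
      have hP' : ((P : Subgroup G).subgroupOf C).Normal := h P'
      have hPn : (P : Subgroup G).Normal := by
        refine normal_of_hall (P : Subgroup G) C hPC (fun c hc a ha => ?_) ?_
        · exact hP'.conj_mem ⟨a, hPC ha⟩ (mem_subgroupOf.2 ha) ⟨c, hc⟩
        · rw [hcardP, hp.coprime_iff_not_dvd]
          intro hd
          have := card_mul_index ((P : Subgroup G).subgroupOf C)
          rw [Nat.card_congr (subgroupOfEquivOfLe hPC).toEquiv, hcardP] at this
          refine hp2m ?_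
          refine dvd_trans ?_ (hG ▸ card_subgroup_dvd_card C)
          rw [← this, pow_two]
          exact mul_dvd_mul_left p hd
      intro Q
      haveI := (Sylow.unique_of_normal P hPn).instSubsingleton
      rw [Subsingleton.elim Q P]
      exact hPn
    · right
      have hR0 : R ≠ 0 := hAR ▸ Nat.card_pos.ne'
      have hmap : Nat.card (A.map C.subtype) = R := by
        rw [card_map_of_injective C.subtype_injective, hAR]
      refine ⟨A.map C.subtype, ?_, ⟨⟨?_⟩⟩, hmap⟩
      · refine normal_of_hall _ C (map_subtype_le A) ?_ ?_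
        · rintro c hc _ ⟨a, ha, rfl⟩
          exact ⟨_, hAn.conj_mem a ha ⟨c, hc⟩, rfl⟩
        · have h1 := card_mul_index ((A.map C.subtype).subgroupOf C)
          rw [Nat.card_congr (subgroupOfEquivOfLe (map_subtype_le A)).toEquiv, hmap] at h1
          rw [hmap]
          obtain ⟨hRn, hcop⟩ := hR' hR0
          refine Nat.Coprime.coprime_dvd_right ?_ hcop
          refine Nat.dvd_div_of_mul_dvd ?_
          rw [h1]
          exact (hG ▸ card_subgroup_dvd_card C).trans hmn
      · rintro ⟨_, a, ha, rfl⟩ ⟨_, b, hb, rfl⟩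
        have := congrArg (fun z : A => ((z : C) : G)) (hAc.is_comm.comm ⟨a, ha⟩ ⟨b, hb⟩)
        exact Subtype.ext this
  -- central case
  have hMz : ∀ a ∈ M, ∀ g : G, g * a = a * g := fun a ha g =>
    ((mem_centralizer_iff.1 (hC ▸ mem_top g)) a ha).symm
  set π := QuotientGroup.mk' M with hπ
  have hπ0 : ∀ a, π a = 1 ↔ a ∈ M := fun a => QuotientGroup.eq_one_iff a
  have hquot : Nat.card (G ⧸ M) * q ^ j = m := by
    rw [← hMcard, ← hG, ← Subgroup.card_eq_card_quotient_mul_card_subgroup]
  have hltq : Nat.card (G ⧸ M) < m := by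
    rw [← hquot]
    exact lt_mul_of_one_lt_right Nat.card_pos (Nat.one_lt_pow hj.ne' hq.one_lt)
  haveI : Group.IsSolvable (G ⧸ M) := Group.isSolvable_of_surjective (QuotientGroup.mk'_surjective M)
  rcases ih _ hltq (G ⧸ M) rfl ((Dvd.intro _ hquot).trans hmn) with h | ⟨A, hAn, hAc, hAR⟩
  · left
    have hP2 : IsPGroup p ((P : Subgroup G).map π) := P.2.map π
    obtain ⟨Q, hQ⟩ := hP2.exists_le_sylow
    have hPn : (P : Subgroup G).Normal := by
      refine ⟨fun a ha g => ?_⟩
      have hQeq : (P : Subgroup G).map π = Q := by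
        refine Subgroup.eq_of_le_of_card_ge hQ ?_
        have hle : Nat.card Q ≤ p := by
          rw [Sylow.card_eq_multiplicity]
          refine (Nat.pow_le_pow_right hp.pos ?_).trans (le_of_eq (pow_one p))
          by_contra hh
          exact hp2m (((hp.pow_dvd_iff_le_factorization Nat.card_pos.ne').2 (by omega)).trans
            (Dvd.intro _ hquot))
        refine hle.trans (le_of_eq ?_)
        have hinj : Function.Injective (π.comp (P : Subgroup G).subtype) := by
          rw [injective_iff_map_eq_one]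
          rintro ⟨b, hb⟩ hb1
          have hbM : b ∈ M := (hπ0 b).1 hb1
          have e1 : b ^ q = 1 := hMq b hbM
          have e2 : b ^ p = 1 := by
            rw [← orderOf_dvd_iff_pow_eq_one, ← hcardP P]
            exact Subgroup.orderOf_dvd_natCard _ hb
          have := pow_gcd_eq_one.2 ⟨e1, e2⟩
          rw [(Nat.coprime_primes hq hp).2 hqp, pow_one] at this
          exact Subtype.ext this
        have e := Nat.card_congr (MonoidHom.ofInjective hinj).toEquiv
        rw [MonoidHom.range_comp, Subgroup.range_subtype, hcardP] at e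
        exact e
      have hQn := h Q
      have : π (g * a * g⁻¹) ∈ (P : Subgroup G).map π := by
        rw [hQeq, map_mul, map_mul, map_inv]
        exact hQn.conj_mem _ (hQeq ▸ mem_map_of_mem π ha) _
      obtain ⟨a', ha', haa⟩ := this
      have hb : a'⁻¹ * (g * a * g⁻¹) ∈ M := (hπ0 _).1 (by rw [map_mul, map_inv, haa, inv_mul_cancel])
      set b := a'⁻¹ * (g * a * g⁻¹) with hbdef
      have hap : ∀ c ∈ (P : Subgroup G), c ^ p = 1 := fun c hc => by
        rw [← orderOf_dvd_iff_pow_eq_one, ← hcardP P]; exact Subgroup.orderOf_dvd_natCard _ hc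
      have hbp : b ^ p = 1 := by
        have h1 : (a' * b) ^ p = 1 := by
          rw [hbdef, mul_inv_cancel_left, conj_pow, hap a ha, mul_one, mul_inv_cancel]
        rwa [(show Commute a' b from hMz b hb a').mul_pow, hap a' ha', one_mul] at h1
      have hb1 : b = 1 := by
        have := pow_gcd_eq_one.2 ⟨hMq b hb, hbp⟩
        rwa [(Nat.coprime_primes hq hp).2 hqp, pow_one] at this
      rw [hbdef, inv_mul_eq_one] at hb1
      exact hb1 ▸ ha'
    intro P'
    haveI := (Sylow.unique_of_normal P hPn).instSubsingleton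
    rw [Subsingleton.elim P' P]
    exact hPn
  · right
    have hR0 : R ≠ 0 := hAR ▸ Nat.card_pos.ne'
    obtain ⟨hRn, hcop⟩ := hR' hR0
    set X := A.comap π with hX
    haveI : X.Normal := hAn.comap π
    have hMX : M ≤ X := fun a ha => by rw [hX, mem_comap, (hπ0 a).2 ha]; exact one_mem _
    have hidx : (M.subgroupOf X).index = R := by
      have h1 : (M.subgroupOf X).index * Nat.card M = Nat.card X := by
        rw [← Nat.card_congr (subgroupOfEquivOfLe hMX).toEquiv, index_mul_card]
      have h2 := card_mul_index X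
      have h3 := card_mul_index A
      have h4 : X.index = A.index := index_comap_of_surjective _ (QuotientGroup.mk'_surjective M)
      rw [h4, ← h1, hMcard, hG, ← hquot] at h2
      rw [hAR] at h3
      rw [← h3] at h2
      have h5 : 0 < q ^ j * A.index := Nat.mul_pos (pow_pos hq.pos j)
        (Nat.pos_of_ne_zero Subgroup.index_ne_zero_of_finite)
      exact Nat.eq_of_mul_eq_mul_right h5 (by linarith)
    have hcop' : (q ^ j).Coprime R := by
      have h1 : R * q ^ j ∣ n := by
        refine dvd_trans ?_ hmn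
        rw [← hquot]
        exact mul_dvd_mul_right (hAR ▸ card_subgroup_dvd_card A) _
      exact (Nat.Coprime.coprime_dvd_right (Nat.dvd_div_of_mul_dvd h1) hcop).symm
    -- the preimage is abelian
    have hXc : ∀ x ∈ X, ∀ y ∈ X, x * y = y * x := by
      intro x hx y hy
      set c := (y * x)⁻¹ * (x * y) with hc
      have hcM : c ∈ M := (hπ0 c).1 (by
        rw [hc, map_mul, map_inv, map_mul, map_mul, inv_mul_eq_one]
        exact (congrArg Subtype.val (hAc.is_comm.comm ⟨π x, hx⟩ ⟨π y, hy⟩)).symm)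
      have hxy : x * y = y * x * c := (mul_inv_cancel_left _ _).symm
      have hxR : x ^ R ∈ M := by
        refine (hπ0 _).1 ?_
        rw [map_pow, ← orderOf_dvd_iff_pow_eq_one, ← hAR]
        exact Subgroup.orderOf_dvd_natCard A hx
      have hk := pow_comm_central (hMz c hcM) hxy R
      rw [hMz _ hxR y] at hk
      have hcR : c ^ R = 1 := mul_eq_left.1 hk.symm
      have hcq : c ^ (q ^ j) = 1 := by
        rw [← orderOf_dvd_iff_pow_eq_one, ← hMcard]
        exact Subgroup.orderOf_dvd_natCard M hcM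
      have := pow_gcd_eq_one.2 ⟨hcq, hcR⟩
      rw [hcop', pow_one] at this
      rw [hxy, this, mul_one]
    obtain ⟨K, hK⟩ := exists_right_complement'_of_coprime (N := M.subgroupOf X) (by
      rw [Nat.card_congr (subgroupOfEquivOfLe hMX).toEquiv, hMcard, hidx]; exact hcop')
    have hKR : Nat.card K = R := hK.symm.index_eq_card.symm.trans hidx
    have hmap : Nat.card (K.map X.subtype) = R := by
      rw [card_map_of_injective X.subtype_injective, hKR]
    refine ⟨K.map X.subtype, normal_of_hall _ X (map_subtype_le K) ?_ ?_, ⟨⟨?_⟩⟩, hmap⟩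
    · rintro c hc _ ⟨a, ha, rfl⟩
      show c * (a : G) * c⁻¹ ∈ K.map X.subtype
      rw [hXc c hc a a.2, mul_inv_cancel_right]
      exact ⟨a, ha, rfl⟩
    · have h1 := card_mul_index ((K.map X.subtype).subgroupOf X)
      rw [Nat.card_congr (subgroupOfEquivOfLe (map_subtype_le K)).toEquiv, hmap] at h1
      rw [hmap]
      refine Nat.Coprime.coprime_dvd_right ?_ hcop
      refine Nat.dvd_div_of_mul_dvd ?_
      rw [h1]
      exact (hG ▸ card_subgroup_dvd_card X).trans hmn
    · rintro ⟨a, ha⟩ ⟨b, hb⟩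
      exact Subtype.ext (hXc a (map_subtype_le K ha) b (map_subtype_le K hb))

end Cfsg.Agent.DegSix.Solvable
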