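import Cfsg.Agent.Lib.DegGraph.Small6000.Basic
import Cfsg.Agent.Lib.DegGraph.Small6000.Simple
import Cfsg.Agent.Lib.Char.Gallagher
import Cfsg.Agent.Lib.Char.Clifford
import Cfsg.Agent.Lib.Char.Multiplicity
import Cfsg.Agent.Lib.Char.TwoClassesCore
import Cfsg.Agent.Lib.Char.DegreeCenter
import Cfsg.Agent.Lib.Recog.OrderSixty
import Mathlib.GroupTheory.Transfer

/-!
A group of order 360 with a nonabelian composition factor of order 60 has another degree graph.
-/

set_option autoImplicit false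
set_option linter.unusedSectionVars false
set_option linter.style.haveILetI false

namespace Cfsg.Agent.DegSix.ThreeSixty

open Subgroup Cfsg.Agent.Char
open scoped commutatorElement

universe u

section Invariant

variable {G : Type u} [Group G] [Finite G]

/-- The multiplicities over an invariant character. -/
theorem mult_spec (N : Subgroup G) [N.Normal] [Fintype N] [Fintype G]
    (θ : Cfsg.IrrCharacter N) (hinv : ∀ g : G, conjChar N g (θ : N → ℂ) = (θ : N → ℂ)) :
    ∃ a : Cfsg.IrrCharacter G → ℕ, ∑ χ : Cfsg.IrrCharacter G, a χ ^ 2 = N.index ∧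
      (∀ χ : Cfsg.IrrCharacter G, Cfsg.classInner (fun n : N => (χ : G → ℂ) n) (θ : N → ℂ) = (a χ : ℂ)) ∧
      ∀ χ : Cfsg.IrrCharacter G, a χ ≠ 0 → ∀ n : N, (χ : G → ℂ) n = (a χ : ℂ) * (θ : N → ℂ) n := by
  classical
  obtain ⟨a, ha⟩ := IsCharacter.exists_decomp (isCharacter_indFun N (IsIrrCharacter.isCharacter θ.2))
  have hcoef : ∀ χ : Cfsg.IrrCharacter G, Cfsg.classInner (Cfsg.indFun N (θ : N → ℂ)) χ = a χ :=
    fun χ => by rw [ha, classInner_combination]
  have hres : ∀ χ : Cfsg.IrrCharacter G,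
      Cfsg.classInner (fun n : N => (χ : G → ℂ) n) (θ : N → ℂ) = (a χ : ℂ) := fun χ => by
    rw [← classInner_conj_symm, ← classInner_indFun_left N _
      (IsCharacter.isClassFunction (IsIrrCharacter.isCharacter χ.2)), hcoef, map_natCast]
  refine ⟨a, ?_, hres, fun χ hχ n => ?_⟩
  · have h := classInner_indFun_invariant N θ.2 hinv
    conv_lhs at h => arg 1; rw [ha]
    simp only [classInner_sum_left, classInner_smul_left] at h
    have h2 : ∀ χ : Cfsg.IrrCharacter G,
        (a χ : ℂ) * Cfsg.classInner (χ : G → ℂ) (Cfsg.indFun N (θ : N → ℂ)) = ((a χ ^ 2 : ℕ) : ℂ) :=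
      fun χ => by rw [← classInner_conj_symm, hcoef, map_natCast, pow_two, Nat.cast_mul]
    rw [Finset.sum_congr rfl fun χ _ => h2 χ, ← Nat.cast_sum, Nat.cast_inj] at h
    exact h
  · have hne : Cfsg.classInner (fun n : N => (χ : G → ℂ) n) (θ : N → ℂ) ≠ 0 := by
      rw [hres]; exact Nat.cast_ne_zero.2 hχ
    have horb : conjOrbit N (θ : N → ℂ) = {(θ : N → ℂ)} := by
      ext φ
      simp [mem_conjOrbit, hinv]
    have h := congrFun (clifford N χ.2 θ.2 hne) n
    rw [horb, Finset.sum_singleton, hres, Pi.smul_apply, smul_eq_mul] at h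
    exact h

theorem conjChar_apply_one (N : Subgroup G) [N.Normal] (θ : N → ℂ) (g : G) :
    conjChar N g θ 1 = θ 1 :=
  congrArg θ (Subtype.ext (by simp))

end Invariant

section Sixty

variable {S : Type u} [Group S] [Finite S] [IsSimpleGroup S]

theorem not_comm_of_sixty (h : Nat.card S = 60) : ¬ IsMulCommutative S := by
  intro hc
  haveI : Fact (Nat.Prime 5) := ⟨by norm_num⟩
  obtain ⟨x, hx⟩ := exists_prime_orderOf_dvd_card' (G := S) 5 (by rw [h]; norm_num)
  haveI : (zpowers x).Normal := ⟨fun a ha g => by rwa [hc.is_comm.comm g a, mul_inv_cancel_right]⟩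
  rcases (inferInstance : (zpowers x).Normal).eq_bot_or_eq_top with hb | ht
  · have := congrArg (fun H : Subgroup S => Nat.card H) hb
    rw [Nat.card_zpowers, hx, Subgroup.card_bot] at this
    omega
  · have := congrArg (fun H : Subgroup S => Nat.card H) ht
    rw [Nat.card_zpowers, hx, Subgroup.card_top, h] at this
    omega

theorem commutator_eq_top (h : Nat.card S = 60) : commutator S = ⊤ := by
  refine (inferInstance : (commutator S).Normal).eq_bot_or_eq_top.resolve_left fun hb => ?_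
  refine not_comm_of_sixty h ⟨⟨fun a b => ?_⟩⟩
  have : ⁅a, b⁆ ∈ (⊥ : Subgroup S) := by
    rw [← hb, commutator_def]
    exact commutator_mem_commutator (mem_top a) (mem_top b)
  exact commutatorElement_eq_one_iff_mul_comm.1 (mem_bot.1 this)

/-- At least five classes. -/
theorem five_le_classes (h : Nat.card S = 60) : 5 ≤ Nat.card (ConjClasses S) := by
  haveI : Fact (Nat.Prime 5) := ⟨by norm_num⟩
  haveI : Fact (Nat.Prime 3) := ⟨by norm_num⟩
  haveI : Fact (Nat.Prime 2) := ⟨by norm_num⟩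
  obtain ⟨a, ha⟩ := exists_prime_orderOf_dvd_card' (G := S) 2 (by rw [h]; norm_num)
  obtain ⟨b, hb⟩ := exists_prime_orderOf_dvd_card' (G := S) 3 (by rw [h]; norm_num)
  obtain ⟨x, hx⟩ := exists_prime_orderOf_dvd_card' (G := S) 5 (by rw [h]; norm_num)
  have hx2 : orderOf (x ^ 2) = 5 := by
    rw [Nat.Coprime.orderOf_pow (by rw [hx]; norm_num), hx]
  have hnc : ¬ IsConj x (x ^ 2) := by
    intro hc
    obtain ⟨g, hg⟩ := isConj_iff.1 hc
    let P : Sylow 5 S := Sylow.ofCard (zpowers x) (by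
      rw [Nat.card_zpowers, hx, h, show (60 : ℕ) = 5 * 12 by rfl,
        Nat.factorization_mul (by norm_num) (by norm_num)]
      simp [(show Nat.Prime 5 by norm_num).factorization_self,
        Nat.factorization_eq_zero_of_not_dvd (show ¬ 5 ∣ 12 by norm_num)])
    have hn6 : Nat.card (Sylow 5 S) = 6 := by
      refine (OrderSixty.sylow_card_cases h).resolve_left fun h1 => ?_
      haveI : Subsingleton (Sylow 5 S) := (Nat.card_eq_one_iff_unique.1 h1).1
      have hc5 := OrderSixty.card_sylow_five h P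
      rcases P.normal_of_subsingleton.eq_bot_or_eq_top with hb | ht
      · rw [hb, Subgroup.card_bot] at hc5; omega
      · rw [ht, Subgroup.card_top, h] at hc5; omega
    set M := normalizer ((P : Subgroup S) : Set S) with hM
    have hMc : Nat.card M = 10 := by
      have h1 := M.card_mul_index
      have h2 : M.index = 6 := P.card_eq_index_normalizer.symm.trans hn6
      rw [h2, h] at h1
      omega
    have hgM : g ∈ M := by
      have hmap : ∀ c ∈ zpowers x, g * c * g⁻¹ ∈ zpowers x := by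
        intro c hc
        obtain ⟨k, rfl⟩ := mem_zpowers_iff.1 hc
        rw [← conj_zpow, hg]
        exact zpow_mem (pow_mem (mem_zpowers x) 2) k
      have heq : (zpowers x).map (MulAut.conj g).toMonoidHom = zpowers x := by
        refine Subgroup.eq_of_le_of_card_ge ?_ ?_
        · rintro _ ⟨c, hc, rfl⟩
          exact hmap c hc
        · rw [card_map_of_injective (MulAut.conj g).injective]
      refine mem_normalizer_iff.2 fun c => ⟨hmap c, fun hc => ?_⟩
      have hc' : g * c * g⁻¹ ∈ (zpowers x).map (MulAut.conj g).toMonoidHom := heq.symm ▸ hc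
      obtain ⟨d, hd, hdc⟩ := hc'
      exact (MulAut.conj g).injective hdc ▸ hd
    have hg10 : g ^ 10 = 1 := by
      rw [← orderOf_dvd_iff_pow_eq_one, ← hMc]
      exact Subgroup.orderOf_dvd_natCard M hgM
    have key : ∀ k : ℕ, g ^ k * x * (g ^ k)⁻¹ = x ^ (2 ^ k) := by
      intro k
      induction k with
      | zero => simp
      | succ k ih =>
        rw [show g ^ (k + 1) * x * (g ^ (k + 1))⁻¹ = g * (g ^ k * x * (g ^ k)⁻¹) * g⁻¹ by
          simp [pow_succ', mul_assoc], ih, ← conj_pow, hg, ← pow_mul, pow_succ']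
    have h10 := key 10
    rw [hg10, one_mul, inv_one, mul_one] at h10
    have h' : x ^ 1 = x ^ (2 ^ 10) := by rw [pow_one]; exact h10
    rw [pow_eq_pow_iff_modEq, hx] at h'
    norm_num [Nat.ModEq] at h'
  have hord : ∀ y z : S, IsConj y z → orderOf y = orderOf z := by
    intro y z hc
    obtain ⟨g, rfl⟩ := isConj_iff.1 hc
    exact ((MulAut.conj g).orderOf_eq y).symm
  have hne : ∀ y z : S, orderOf y ≠ orderOf z → ConjClasses.mk y ≠ ConjClasses.mk z :=
    fun y z hyz e => hyz (hord y z (ConjClasses.mk_eq_mk_iff_isConj.1 e))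
  let f : Fin 5 → ConjClasses S := ![ConjClasses.mk 1, ConjClasses.mk a, ConjClasses.mk b,
    ConjClasses.mk x, ConjClasses.mk (x ^ 2)]
  have hnx : ConjClasses.mk x ≠ ConjClasses.mk (x ^ 2) :=
    fun e => hnc (ConjClasses.mk_eq_mk_iff_isConj.1 e)
  have hf : Function.Injective f := by
    intro i j hij
    fin_cases i <;> fin_cases j <;> first
      | rfl
      | exact absurd hij hnx
      | exact absurd hij.symm hnx
      | exact absurd hij (hne _ _ (by simp only [orderOf_one, ha, hb, hx, hx2]; norm_num))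
  simpa using Nat.card_le_card_of_injective f hf

/-- The degrees of a simple group of order sixty. -/
theorem degrees60 (h : Nat.card S = 60) :
    (∀ θ : Cfsg.IrrCharacter S, Cfsg.charDegree (θ : S → ℂ) ≤ 5) ∧
    (∀ θ θ' : Cfsg.IrrCharacter S, Cfsg.charDegree (θ : S → ℂ) = 5 →
      Cfsg.charDegree (θ' : S → ℂ) = 5 → θ = θ') ∧
    (Finset.univ.filter fun θ : Cfsg.IrrCharacter S => Cfsg.charDegree (θ : S → ℂ) = 3).card ≤ 2 ∧
    ∃ θ : Cfsg.IrrCharacter S, Cfsg.charDegree (θ : S → ℂ) = 3 := by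
  classical
  haveI : Fintype S := Fintype.ofFinite S
  obtain ⟨⟨-, h3, h5⟩, n23, -, -⟩ := Simple.facts60 h
  have hle : ∀ θ : Cfsg.IrrCharacter S, Cfsg.charDegree (θ : S → ℂ) ≤ 5 := by
    intro θ
    set d := Cfsg.charDegree (θ : S → ℂ) with hd
    have h1 : d ^ 2 ≤ 60 := (TwoClasses.sq_degree_le_index_center θ).trans
      (h ▸ Nat.le_of_dvd Nat.card_pos (Subgroup.index_dvd_card _))
    have h2 : d ∣ 60 := h ▸ (degree_dvd_index_center θ.2 (Cfsg.Agent.CharX.irr_deg θ)).trans
      (Subgroup.index_dvd_card _)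
    have h7 : d ≤ 7 := by nlinarith
    have h6 : d ≠ 6 := fun e =>
      n23 ⟨by norm_num, Nat.prime_two, Nat.prime_three, d, ⟨θ, rfl⟩, by rw [e]⟩
    have h77 : d ≠ 7 := fun e => absurd (e ▸ h2) (by norm_num)
    omega
  set c : ℕ → ℕ := fun j =>
    (Finset.univ.filter fun θ : Cfsg.IrrCharacter S => Cfsg.charDegree (θ : S → ℂ) = j).card with hc
  have hmap : ∀ θ ∈ (Finset.univ : Finset (Cfsg.IrrCharacter S)),
      Cfsg.charDegree (θ : S → ℂ) ∈ ({0, 1, 2, 3, 4, 5} : Finset ℕ) := fun θ _ => by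
    have := hle θ
    simp only [Finset.mem_insert, Finset.mem_singleton]
    omega
  have hc0 : c 0 = 0 := by
    refine Finset.card_eq_zero.2 (Finset.filter_eq_empty_iff.2 fun θ _ e => ?_)
    exact IsIrrCharacter.one_ne_zero θ.2 (by rw [Cfsg.Agent.CharX.irr_deg θ, e, Nat.cast_zero])
  have hc1 : c 1 = 1 := by
    have h1 := card_linear (G := S)
    rw [commutator_eq_top h, Subgroup.index_top] at h1
    refine Eq.trans ?_ h1
    rw [Nat.card_eq_fintype_card, Fintype.card_subtype]
    refine congrArg Finset.card (Finset.filter_congr fun θ _ => ?_)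
    rw [Cfsg.Agent.CharX.irr_deg θ, Nat.cast_eq_one]
  have hsum : c 1 * 1 + c 2 * 4 + c 3 * 9 + c 4 * 16 + c 5 * 25 = 60 := by
    have h1 := Cfsg.Agent.CharX.sum_deg_sq (G := S)
    rw [← Finset.sum_fiberwise_of_maps_to hmap, h] at h1
    rw [← h1]
    have h2 : ∀ j : ℕ, (∑ θ ∈ Finset.univ.filter
        (fun θ : Cfsg.IrrCharacter S => Cfsg.charDegree (θ : S → ℂ) = j),
          Cfsg.charDegree (θ : S → ℂ) ^ 2) = c j * j ^ 2 := fun j => by
      rw [Finset.sum_congr rfl fun θ hθ => by rw [(Finset.mem_filter.1 hθ).2],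
        Finset.sum_const, smul_eq_mul]
    simp [h2, hc0]
    ring
  have hcnt : 5 ≤ c 1 + c 2 + c 3 + c 4 + c 5 := by
    have h1 := Finset.card_eq_sum_card_fiberwise (fun θ hθ => hmap θ hθ)
    rw [Finset.card_univ, ← Nat.card_eq_fintype_card, card_irrCharacter] at h1
    have h2 := five_le_classes h
    rw [h1] at h2
    simp only [hc] at hc0 ⊢
    simp [hc0] at h2
    omega
  have hpos : ∀ p, p.Prime → p ∈ Cfsg.degreePrimes S → (p = 3 ∨ p = 5) → 1 ≤ c p := by
    rintro p hp ⟨-, d, ⟨θ, rfl⟩, hdvd⟩ hp35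
    refine Finset.card_pos.2 ⟨θ, Finset.mem_filter.2 ⟨Finset.mem_univ _, ?_⟩⟩
    have h1 := hle θ
    have h0 : Cfsg.charDegree (θ : S → ℂ) ≠ 0 := fun e =>
      IsIrrCharacter.one_ne_zero θ.2 (by rw [Cfsg.Agent.CharX.irr_deg θ, e, Nat.cast_zero])
    rcases hp35 with rfl | rfl <;> omega
  have hc3 := hpos 3 Nat.prime_three h3 (Or.inl rfl)
  have hc5 := hpos 5 (by norm_num) h5 (Or.inr rfl)
  have hc35 : c 3 ≤ 2 ∧ c 5 ≤ 1 := by
    have b5 : c 5 ≤ 2 := by omega
    have b3 : c 3 ≤ 6 := by omega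
    interval_cases (c 5) <;> interval_cases (c 3) <;> omega
  refine ⟨hle, fun θ θ' e e' => ?_, show c 3 ≤ 2 from hc35.1, ?_⟩
  · exact Finset.card_le_one.1 (show c 5 ≤ 1 from hc35.2) θ (by simp [e]) θ' (by simp [e'])
  · obtain ⟨θ, hθ⟩ := Finset.card_pos.1 (show 0 < c 3 by omega)
    exact ⟨θ, (Finset.mem_filter.1 hθ).2⟩

end Sixty

variable {G : Type u} [Group G] [Finite G]

/-- The composition factor of order sixty is excluded. -/
theorem false_of_sixty (hG : Nat.card G = 360) (N : Subgroup G) [N.Normal] (T0 : Subgroup G)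
    [T0.Normal] (hle : N ≤ T0) (hperf : ⁅T0, T0⁆ = T0)
    [IsSimpleGroup ↥(T0.map (QuotientGroup.mk' N))]
    (hT : Nat.card ↥(T0.map (QuotientGroup.mk' N)) = 60) (hcard : 60 * Nat.card N = Nat.card T0)
    (h25 : (Cfsg.degreeGraph G).Adj 2 5) (h23 : ¬ (Cfsg.degreeGraph G).Adj 2 3) : False := by
  classical
  haveI : Fintype G := Fintype.ofFinite G
  haveI : Fintype T0 := Fintype.ofFinite T0
  have hcomT : commutator T0 = ⊤ := by
    refine map_injective T0.subtype_injective ?_
    rw [commutator_def, map_commutator, ← MonoidHom.range_eq_map, Subgroup.range_subtype, hperf]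
  have hidx := T0.card_mul_index
  rw [← hcard, hG] at hidx
  have hN6 : Nat.card N * T0.index = 6 := by nlinarith
  have hN : Nat.card N ∣ 6 := Dvd.intro _ hN6
  -- no element of order three below
  have hN3 : ¬ 3 ∣ Nat.card N := by
    intro h3
    haveI : Fact (Nat.Prime 3) := ⟨Nat.prime_three⟩
    obtain ⟨P⟩ : Nonempty (Sylow 3 N) := inferInstance
    have hle6 := Nat.le_of_dvd (by norm_num) hN
    have hpos : 0 < Nat.card N := Nat.card_pos
    have hPc : Nat.card P = 3 := by
      rw [Sylow.card_eq_multiplicity]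
      obtain h | h : Nat.card N = 3 ∨ Nat.card N = 6 := by omega
      · rw [h, Nat.prime_three.factorization_self, pow_one]
      · rw [h, show (6 : ℕ) = 3 * 2 by rfl, Nat.factorization_mul (by norm_num) (by norm_num)]
        simp [Nat.prime_three.factorization_self,
          Nat.factorization_eq_zero_of_not_dvd (show ¬ 3 ∣ 2 by norm_num)]
    have hone : Nat.card (Sylow 3 N) = 1 := by
      have h1 := card_sylow_modEq_one 3 N
      have h2 := P.card_dvd_index
      have h := (P : Subgroup N).card_mul_index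
      rw [hPc] at h
      have h4 := Nat.le_of_dvd (by omega) h2
      unfold Nat.ModEq at h1
      omega
    haveI : Subsingleton (Sylow 3 N) := (Nat.card_eq_one_iff_unique.1 hone).1
    haveI : (P : Subgroup N).Characteristic := Sylow.characteristic_of_subsingleton P
    set A := (P : Subgroup N).map N.subtype with hA
    have hAc : Nat.card A = 3 := by rw [hA, card_map_of_injective N.subtype_injective, hPc]
    haveI : A.Normal := ConjAct.normal_of_characteristic_of_normal
    haveI : IsCyclic A := isCyclic_of_prime_card hAc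
    have hAT : A ≤ T0 := (map_subtype_le _).trans hle
    obtain ⟨z, hz⟩ := exists_prime_orderOf_dvd_card' (G := A) 3 (by rw [hAc])
    have hcent : ∀ t : T0, (t : G) * (z : G) * (t : G)⁻¹ = z := by
      intro t
      have hcom : ∀ f g : MulAut A, f * g = g * f := fun f g =>
        (IsCyclic.mulAutMulEquiv A).injective (by rw [map_mul, map_mul, mul_comm])
      set F := (MulAut.conjNormal (H := A)).comp T0.subtype with hF
      have hker : commutator T0 ≤ F.ker := by
        rw [commutator_def, commutator_le]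
        intro a _ b _
        rw [MonoidHom.mem_ker, map_commutatorElement]
        exact commutatorElement_eq_one_iff_mul_comm.2 (hcom _ _)
      have ht := hker (hcomT ▸ mem_top t)
      rw [MonoidHom.mem_ker] at ht
      have := congrArg (fun f : MulAut A => ((f z : A) : G)) ht
      simpa [hF] using this
    let z' : T0 := ⟨z, hAT z.2⟩
    have hpA : IsPGroup 3 (A.subgroupOf T0) := IsPGroup.of_card (n := 1) (by
      rw [Nat.card_congr (subgroupOfEquivOfLe hAT).toEquiv, hAc, pow_one])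
    obtain ⟨Q, hQ⟩ := hpA.exists_le_sylow
    have hzQ : z' ∈ (Q : Subgroup T0) := hQ (mem_subgroupOf.2 z.2)
    have hQc : Nat.card Q = 3 ^ 2 := by
      rw [Sylow.card_eq_multiplicity, ← hcard]
      congr 1
      obtain h | h : Nat.card N = 3 ∨ Nat.card N = 6 := by omega
      · rw [h, show (60 * 3 : ℕ) = 3 ^ 2 * 20 by rfl, Nat.factorization_mul (by norm_num) (by norm_num),
          Nat.factorization_pow]
        simp [Nat.prime_three.factorization_self,
          Nat.factorization_eq_zero_of_not_dvd (show ¬ 3 ∣ 20 by norm_num)]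
      · rw [h, show (60 * 6 : ℕ) = 3 ^ 2 * 40 by rfl, Nat.factorization_mul (by norm_num) (by norm_num),
          Nat.factorization_pow]
        simp [Nat.prime_three.factorization_self,
          Nat.factorization_eq_zero_of_not_dvd (show ¬ 3 ∣ 40 by norm_num)]
    letI : CommGroup Q := IsPGroup.commGroupOfCardEqPrimeSq hQc
    set F := MonoidHom.transfer (MonoidHom.id Q) with hF
    have hker : commutator T0 ≤ F.ker := Abelianization.commutator_subset_ker F
    have h1 : F z' = 1 := hker (hcomT ▸ mem_top z')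
    have hzc : ∀ t : T0, t⁻¹ * z' * t = z' := by
      intro t
      refine Subtype.ext ?_
      have := hcent t⁻¹
      simpa [z'] using this
    rw [hF, MonoidHom.transfer_eq_pow (MonoidHom.id Q) z' (fun k t _ => by
      have hcz : Commute z' t := by
        have h2 := hzc t
        rw [mul_assoc, inv_mul_eq_iff_eq_mul] at h2
        exact h2
      rw [mul_assoc, (hcz.pow_left k).eq, inv_mul_cancel_left])] at h1
    have h2 : z' ^ (Q : Subgroup T0).index = 1 := congrArg Subtype.val h1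
    have h3 : orderOf z' = 3 := by
      rw [← Subgroup.orderOf_coe, show (z' : G) = (z : G) from rfl, Subgroup.orderOf_coe, hz]
    rw [← orderOf_dvd_iff_pow_eq_one, h3] at h2
    have h4 := (Q : Subgroup T0).card_mul_index
    rw [hQc, ← hcard] at h4
    obtain h | h : Nat.card N = 3 ∨ Nat.card N = 6 := by omega
    · rw [h] at h4; omega
    · rw [h] at h4; omega
  -- a character of degree ten
  obtain ⟨-, -, -, d, ⟨χ, rfl⟩, h10⟩ := h25
  have hχd : Cfsg.charDegree (χ : G → ℂ) = 10 := by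
    have h1 := (TwoClasses.sq_degree_le_index_center χ).trans
      (Nat.le_of_dvd Nat.card_pos (Subgroup.index_dvd_card _))
    rw [hG] at h1
    obtain ⟨k, hk⟩ := h10
    have h0 : Cfsg.charDegree (χ : G → ℂ) ≠ 0 := fun e =>
      IsIrrCharacter.one_ne_zero χ.2 (by rw [Cfsg.Agent.CharX.irr_deg χ, e, Nat.cast_zero])
    rw [hk] at h1 h0 ⊢
    obtain h | h | h : k = 0 ∨ k = 1 ∨ 2 ≤ k := by omega
    · subst h; simp at h0
    · subst h; norm_num
    · nlinarith
  obtain ⟨θ, hθ⟩ := exists_restrict_constituent χ.2 T0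
  obtain ⟨e, he, hedvd⟩ := exists_ratio_dvd_index T0 χ.2 θ.2 hθ
  rw [Cfsg.Agent.CharX.irr_deg χ, Cfsg.Agent.CharX.irr_deg θ, ← Nat.cast_mul, Nat.cast_inj,
    hχd] at he
  set dθ := Cfsg.charDegree (θ : T0 → ℂ) with hdθ
  have hNne : Nat.card N ≠ 2 := by
    intro h2
    have hi : T0.index = 3 := by rw [h2] at hN6; omega
    have hcen : N.subgroupOf T0 ≤ center T0 := by
      intro a ha
      refine mem_center_iff.2 fun g => ?_
      by_cases ha1 : a = 1
      · rw [ha1, mul_one, one_mul]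
      obtain ⟨y, -, hy⟩ := (Nat.card_eq_two_iff' (1 : N)).1 h2
      have hgN : (g : G) * (a : G) * (g : G)⁻¹ ∈ N :=
        (inferInstance : N.Normal).conj_mem _ (mem_subgroupOf.1 ha) _
      have e1 : (⟨(a : G), mem_subgroupOf.1 ha⟩ : N) = y := hy _ fun e => ha1 (Subtype.ext
        (show (a : G) = ((1 : T0) : G) from congrArg (fun w : N => (w : G)) e))
      have e2 : (⟨_, hgN⟩ : N) = y := hy _ fun e => ha1 (Subtype.ext (by
        have := congrArg Subtype.val e
        simpa using this))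
      have := congrArg Subtype.val (e2.trans e1.symm)
      exact Subtype.ext (mul_inv_eq_iff_eq_mul.1 this)
    have hb : dθ ^ 2 ≤ 60 := by
      refine (TwoClasses.sq_degree_le_index_center θ).trans ((Nat.le_of_dvd ?_ (index_dvd_of_le hcen)).trans ?_)
      · exact Nat.pos_of_ne_zero Subgroup.index_ne_zero_of_finite
      · have := (N.subgroupOf T0).card_mul_index
        rw [Nat.card_congr (subgroupOfEquivOfLe hle).toEquiv, ← hcard, h2] at this
        omega
    have h7 : dθ ≤ 7 := by nlinarith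
    rw [hi] at hedvd
    rcases (Nat.dvd_prime Nat.prime_three).1 hedvd with rfl | rfl <;> omega
  have hN1 : Nat.card N = 1 := by
    have hle6 := Nat.le_of_dvd (by norm_num) hN
    have := Nat.card_pos (α := N)
    obtain h | h | h | h : Nat.card N = 1 ∨ Nat.card N = 2 ∨ Nat.card N = 3 ∨ 4 ≤ Nat.card N := by
      omega
    · exact h
    · exact absurd h hNne
    · exact absurd (h ▸ dvd_rfl) hN3
    · have : Nat.card N = 6 := by
        rcases (show Nat.card N = 4 ∨ Nat.card N = 5 ∨ Nat.card N = 6 by omega) with h | h | h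
        · rw [h] at hN; norm_num at hN
        · rw [h] at hN; norm_num at hN
        · exact h
      exact absurd (this ▸ (by norm_num : 3 ∣ 6)) hN3
  have hT0 : Nat.card T0 = 60 := by rw [← hcard, hN1]
  haveI : IsSimpleGroup T0 := by
    have hs := MonoidHom.subgroupMap_surjective (QuotientGroup.mk' N) T0
    have hb : Function.Bijective ((QuotientGroup.mk' N).subgroupMap T0) :=
      (Nat.bijective_iff_surjective_and_card _).2 ⟨hs, by rw [hT0, hT]⟩
    haveI : Nontrivial T0 := Finite.one_lt_card_iff_nontrivial.1 (by rw [hT0]; norm_num)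
    exact IsSimpleGroup.isSimpleGroup_of_surjective (MulEquiv.ofBijective _ hb).symm.toMonoidHom
      (MulEquiv.surjective _)
  obtain ⟨hd5, huniq, hthree, θ₃, hθ₃⟩ := degrees60 (S := T0) hT0
  have hi : T0.index = 6 := by rw [hN1] at hN6; omega
  have hdθ5 : dθ = 5 ∧ e = 2 := by
    have := hd5 θ
    rw [← hdθ] at this
    rw [hi] at hedvd
    have he6 := Nat.le_of_dvd (by norm_num) hedvd
    interval_cases e <;> omega
  have hinv5 : ∀ g : G, conjChar T0 g (θ : T0 → ℂ) = (θ : T0 → ℂ) := by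
    intro g
    refine congrArg Subtype.val (huniq ⟨_, isIrrCharacter_conjChar T0 θ.2 g⟩ θ ?_ hdθ5.1)
    rw [← hdθ5.1]
    show Cfsg.charDegree (conjChar T0 g (θ : T0 → ℂ)) = Cfsg.charDegree (θ : T0 → ℂ)
    unfold Cfsg.charDegree
    rw [conjChar_apply_one]
  have hsix : ∀ ψ : Cfsg.IrrCharacter G, 6 ∣ Cfsg.charDegree (ψ : G → ℂ) → False := fun ψ hψ =>
    h23 ⟨by norm_num, Nat.prime_two, Nat.prime_three, _, ⟨ψ, rfl⟩, hψ⟩
  -- the characters of degree three are invariant
  have hinv3 : ∀ g : G, conjChar T0 g (θ₃ : T0 → ℂ) = (θ₃ : T0 → ℂ) := by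
    by_contra hcon
    push Not at hcon
    obtain ⟨g, hg⟩ := hcon
    have horb : (conjOrbit T0 (θ₃ : T0 → ℂ)).card = 2 := by
      refine le_antisymm ?_ ?_
      · refine (Finset.card_le_card ?_).trans
          ((Finset.card_image_le (f := fun φ : Cfsg.IrrCharacter T0 => (φ : T0 → ℂ))).trans hthree)
        intro φ hφ
        obtain ⟨g', rfl⟩ := (mem_conjOrbit T0).1 hφ
        refine Finset.mem_image.2 ⟨⟨_, isIrrCharacter_conjChar T0 θ₃.2 g'⟩,
          Finset.mem_filter.2 ⟨Finset.mem_univ _, ?_⟩, rfl⟩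
        rw [← hθ₃]
        show Cfsg.charDegree (conjChar T0 g' (θ₃ : T0 → ℂ)) = Cfsg.charDegree (θ₃ : T0 → ℂ)
        unfold Cfsg.charDegree
        rw [conjChar_apply_one]
      · exact Finset.one_lt_card.2 ⟨_, (mem_conjOrbit T0).2 ⟨g, rfl⟩, _,
          (mem_conjOrbit T0).2 ⟨1, (conjChar_one T0 _).symm⟩, hg⟩
    obtain ⟨ψ, hψ⟩ := Ito.exists_above T0 θ₃
    obtain ⟨m, hm⟩ := IsCharacter.exists_classInner_nat
      (IsCharacter.restrict (IsIrrCharacter.isCharacter ψ.2) T0) (IsIrrCharacter.isCharacter θ₃.2)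
    have hdeg := clifford_degree T0 ψ.2 θ₃.2 hψ
    rw [hm, ← card_conjOrbit, horb, Cfsg.Agent.CharX.irr_deg ψ, Cfsg.Agent.CharX.irr_deg θ₃, hθ₃,
      ← Nat.cast_mul, ← Nat.cast_mul, Nat.cast_inj] at hdeg
    exact hsix ψ ⟨m, by rw [hdeg]; ring⟩
  obtain ⟨a, hasum, hainner, hares⟩ := mult_spec T0 θ₃ hinv3
  rw [hi] at hasum
  obtain ⟨ψ₃, hψ₃⟩ : ∃ ψ : Cfsg.IrrCharacter G, a ψ ≠ 0 := by
    by_contra hno
    push Not at hno
    simp [hno] at hasum
  have ha3 : a ψ₃ = 1 := by
    have h1 : a ψ₃ ^ 2 ≤ 6 := hasum ▸ Finset.single_le_sum (f := fun χ => a χ ^ 2)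
      (fun χ _ => Nat.zero_le _) (Finset.mem_univ ψ₃)
    have h2 : a ψ₃ ≤ 2 := by nlinarith
    have hd := hares ψ₃ hψ₃ 1
    rw [OneMemClass.coe_one, Cfsg.Agent.CharX.irr_deg ψ₃, Cfsg.Agent.CharX.irr_deg θ₃, hθ₃,
      ← Nat.cast_mul, Nat.cast_inj] at hd
    by_contra hne
    exact hsix ψ₃ ⟨1, by rw [hd]; omega⟩
  obtain ⟨b, hbsum, hbinner, hbres⟩ := mult_spec T0 θ hinv5
  rw [hi] at hbsum
  have hb0 : b χ = 2 := by
    have h0 : b χ ≠ 0 := fun h => hθ (by rw [hbinner, h, Nat.cast_zero])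
    have hd := hbres χ h0 1
    rw [OneMemClass.coe_one, Cfsg.Agent.CharX.irr_deg χ, Cfsg.Agent.CharX.irr_deg θ, ← hdθ,
      hdθ5.1, hχd, ← Nat.cast_mul, Nat.cast_inj] at hd
    omega
  obtain ⟨ψ₅, hψ₅⟩ : ∃ ψ : Cfsg.IrrCharacter G, b ψ = 1 := by
    by_contra hno
    push Not at hno
    have h4 : 4 ∣ ∑ ψ, b ψ ^ 2 := Finset.dvd_sum fun ψ _ => by
      have h1 : b ψ ^ 2 ≤ 6 := hbsum ▸ Finset.single_le_sum (f := fun χ => b χ ^ 2)
        (fun χ _ => Nat.zero_le _) (Finset.mem_univ ψ)
      have h2 : b ψ ≤ 2 := by nlinarith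
      have h3 := hno ψ
      obtain h | h : b ψ = 0 ∨ b ψ = 2 := by omega
      · simp [h]
      · simp [h]
    rw [hbsum] at h4
    norm_num at h4
  have hr5 : (fun n : T0 => (ψ₅ : G → ℂ) n) = (θ : T0 → ℂ) := funext fun n => by
    rw [hbres ψ₅ (by omega) n, hψ₅, Nat.cast_one, one_mul]
  have hr3 : (fun n : T0 => (ψ₃ : G → ℂ) n) = (θ₃ : T0 → ℂ) := funext fun n => by
    rw [hares ψ₃ hψ₃ n, ha3, Nat.cast_one, one_mul]
  obtain ⟨-, -, g3⟩ := gallagher_one T0 (IsIrrCharacter.isCharacter ψ₅.2) (hr5 ▸ θ.2)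
  obtain ⟨β, hβ, hβeq⟩ := g3 χ χ.2 (hr5 ▸ hθ)
  have hβ2 : Cfsg.charDegree (β : G → ℂ) = 2 := by
    have h1 := congrFun hβeq 1
    have h5 := congrFun hr5 1
    simp only [OneMemClass.coe_one] at h5
    rw [Pi.mul_apply, h5, Cfsg.Agent.CharX.irr_deg β, Cfsg.Agent.CharX.irr_deg χ,
      Cfsg.Agent.CharX.irr_deg θ, ← hdθ, hdθ5.1, hχd, ← Nat.cast_mul, Nat.cast_inj] at h1
    omega
  obtain ⟨g1, -, -⟩ := gallagher_one T0 (IsIrrCharacter.isCharacter ψ₃.2) (hr3 ▸ θ₃.2)
  have hirr := g1 β hβ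
  refine hsix ⟨_, hirr⟩ ?_
  have h3 := congrFun hr3 1
  simp only [OneMemClass.coe_one] at h3
  have h6 : ((β : G → ℂ) * (ψ₃ : G → ℂ)) 1 = ((6 : ℕ) : ℂ) := by
    rw [Pi.mul_apply, h3, Cfsg.Agent.CharX.irr_deg β, Cfsg.Agent.CharX.irr_deg θ₃, hθ₃, hβ2]
    norm_num
  have : Cfsg.charDegree ((β : G → ℂ) * (ψ₃ : G → ℂ)) = 6 := by
    unfold Cfsg.charDegree
    rw [h6, Complex.natCast_re, Nat.floor_natCast]
  exact ⟨1, this⟩

end Cfsg.Agent.DegSix.ThreeSixty
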