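import Cfsg.Agent.Lib.DegGraph.Small6000.Nonsolvable
import Cfsg.Agent.Lib.DegGraph.Small6000.ThreeSixty
import Cfsg.Agent.Lib.DegGraph.Small6000.Solvable
import Cfsg.Agent.Lib.DegGraph.Small6000.Simple

/-!
Order and degree graph determine the simple groups below 6000.
-/

set_option autoImplicit false
set_option linter.unusedSectionVars false
set_option linter.style.haveILetI false

namespace Cfsg.Agent.DegSix.Main

open Subgroup

universe u v

theorem prime_powers {n q j : ℕ} (hn : n ∣ 2 ^ 4 * 3 ^ 3 * 5 * 7 * 11 * 13 * 17 * 19) (hq : q.Prime)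
    (hd : q ^ j ∣ n) : q ∈ [2, 3, 5, 7, 11, 13, 17, 19] ∧ j < 5 ∨ j = 0 := by
  rcases Nat.eq_zero_or_pos j with h0 | hpos
  · exact Or.inr h0
  left
  have hd' := hd.trans hn
  have hqd : q ∣ 2 ^ 4 * 3 ^ 3 * 5 * 7 * 11 * 13 * 17 * 19 := (dvd_pow_self q hpos.ne').trans hd'
  have key : ∀ b : ℕ, b.Prime → q ∣ b → q = b := fun b hb h => (Nat.prime_dvd_prime_iff_eq hq hb).1 h
  have hmem : q ∈ [2, 3, 5, 7, 11, 13, 17, 19] := by
    simp only [List.mem_cons, List.not_mem_nil, or_false]
    rcases hq.dvd_mul.1 hqd with h | h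
    · rcases hq.dvd_mul.1 h with h | h
      · rcases hq.dvd_mul.1 h with h | h
        · rcases hq.dvd_mul.1 h with h | h
          · rcases hq.dvd_mul.1 h with h | h
            · rcases hq.dvd_mul.1 h with h | h
              · rcases hq.dvd_mul.1 h with h | h
                · exact Or.inl (key 2 Nat.prime_two (hq.dvd_of_dvd_pow h))
                · exact Or.inr (Or.inl (key 3 Nat.prime_three (hq.dvd_of_dvd_pow h)))
              · have := key 5 (by norm_num) h; omega
            · have := key 7 (by norm_num) h; omega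
          · have := key 11 (by norm_num) h; omega
        · have := key 13 (by norm_num) h; omega
      · have := key 17 (by norm_num) h; omega
    · have := key 19 (by norm_num) h; omega
  refine ⟨hmem, ?_⟩
  by_contra hj
  have h5 : q ^ 5 ∣ 2 ^ 4 * 3 ^ 3 * 5 * 7 * 11 * 13 * 17 * 19 := (pow_dvd_pow q (by omega)).trans hd'
  simp only [List.mem_cons, List.not_mem_nil, or_false] at hmem
  rcases hmem with rfl | rfl | rfl | rfl | rfl | rfl | rfl | rfl <;> norm_num at h5

variable {G : Type u} [Group G] [Finite G]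

/-- A solvable group does not have the degree primes in question. -/
theorem false_of_solvable {n : ℕ} [Group.IsSolvable G] (hG : Nat.card G = n) (p R : ℕ) (hp : p.Prime)
    (hn0 : n ∣ 2 ^ 4 * 3 ^ 3 * 5 * 7 * 11 * 13 * 17 * 19) (hp2 : ¬ p ^ 2 ∣ n) (hpn : p ∣ n)
    (hchk : ∀ q ∈ [2, 3, 5, 7, 11, 13, 17, 19], ∀ j < 5, q ≠ p → q ^ j ∣ n → q ^ j ≠ R →
      ∀ i < j, ¬ p ∣ q ^ j - q ^ i)
    (hpG : p ∈ Cfsg.degreePrimes G)
    (hR : R = 0 ∨ (R ∣ n ∧ R.Coprime (n / R) ∧ ∃ r, r ∈ Cfsg.degreePrimes G ∧ ¬ r ∣ n / R)) :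
    False := by
  rcases Solvable.dichotomy hp hp2 (hR.imp_right fun h => ⟨h.1, h.2.1⟩)
      (fun q j hq hne hd hqR i hi hdiv => by
        rcases prime_powers hn0 hq hd with ⟨hm, hj⟩ | h0
        · exact hchk q hm j hj hne hd hqR i hi hdiv
        · omega)
      n G hG dvd_rfl with h | ⟨A, hA, hAc, hAR⟩
  · haveI := Fact.mk hp
    obtain ⟨P⟩ : Nonempty (Sylow p G) := inferInstance
    haveI := h P
    have hPc : Nat.card P = p := by
      rw [Sylow.card_eq_multiplicity, hG]
      have h0 : n ≠ 0 := hG ▸ Nat.card_pos.ne'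
      have : n.factorization p = 1 := by
        refine le_antisymm ?_ ((hp.dvd_iff_one_le_factorization h0).1 hpn)
        by_contra hh
        exact hp2 ((hp.pow_dvd_iff_le_factorization h0).2 (by omega))
      rw [this, pow_one]
    haveI : IsCyclic (P : Subgroup G) := isCyclic_of_prime_card hPc
    refine Basic.not_mem_degreePrimes (P : Subgroup G) IsCyclic.isMulCommutative (fun hd => hp2 ?_) hpG
    have h1 := (P : Subgroup G).card_mul_index
    rw [hPc, hG] at h1
    rw [← h1, pow_two]
    exact mul_dvd_mul_left p hd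
  · haveI := hA
    rcases hR with rfl | ⟨-, -, r, hr, hrd⟩
    · exact Nat.card_pos.ne' hAR
    · refine Basic.not_mem_degreePrimes A hAc (fun hd => hrd ?_) hr
      have h1 := A.card_mul_index
      rw [hAR, hG] at h1
      rw [← h1, Nat.mul_div_cancel_left _ (hAR ▸ Nat.card_pos)]
      exact hd

variable {S : Type v} [Group S] [Finite S] [IsSimpleGroup S]

theorem solvable_excluded (hm : Nat.card S ∈ Nonsolvable.orders) (hcard : Nat.card G = Nat.card S)
    (hP : Cfsg.degreePrimes G = Cfsg.degreePrimes S) [Group.IsSolvable G] : False := by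
  simp only [Nonsolvable.orders, Finset.mem_insert, Finset.mem_singleton] at hm
  rcases hm with e | e | e | e | e | e | e | e | e | e | e <;> rw [e] at hcard
  · exact false_of_solvable hcard 5 0 (by norm_num) (by norm_num) (by norm_num) (by norm_num)
      (by decide) (hP.symm ▸ (Simple.facts60 e).1.2.2) (Or.inl rfl)
  · exact false_of_solvable hcard 7 8 (by norm_num) (by norm_num) (by norm_num) (by norm_num)
      (by decide) (hP.symm ▸ (Simple.facts168 e).1)
      (Or.inr ⟨by norm_num, by norm_num, 2, hP.symm ▸ (Simple.facts168 e).2.1, by norm_num⟩)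
  · exact false_of_solvable hcard 5 0 (by norm_num) (by norm_num) (by norm_num) (by norm_num)
      (by decide) (hP.symm ▸ (Simple.facts360 e).1) (Or.inl rfl)
  · exact false_of_solvable hcard 7 8 (by norm_num) (by norm_num) (by norm_num) (by norm_num)
      (by decide) (hP.symm ▸ (Simple.facts504 e).1)
      (Or.inr ⟨by norm_num, by norm_num, 2, hP.symm ▸ (Simple.facts504 e).2.1, by norm_num⟩)
  · exact false_of_solvable hcard 11 0 (by norm_num) (by norm_num) (by norm_num) (by norm_num)
      (by decide) (hP.symm ▸ Simple.facts660 e) (Or.inl rfl)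
  · exact false_of_solvable hcard 13 0 (by norm_num) (by norm_num) (by norm_num) (by norm_num)
      (by decide) (hP.symm ▸ Simple.facts1092 e) (Or.inl rfl)
  · exact false_of_solvable hcard 17 0 (by norm_num) (by norm_num) (by norm_num) (by norm_num)
      (by decide) (hP.symm ▸ Simple.facts2448 e) (Or.inl rfl)
  · exact false_of_solvable hcard 5 0 (by norm_num) (by norm_num) (by norm_num) (by norm_num)
      (by decide) (hP.symm ▸ (Simple.facts2520 e).1) (Or.inl rfl)
  · exact false_of_solvable hcard 19 0 (by norm_num) (by norm_num) (by norm_num) (by norm_num)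
      (by decide) (hP.symm ▸ Simple.facts3420 e) (Or.inl rfl)
  · exact false_of_solvable hcard 17 0 (by norm_num) (by norm_num) (by norm_num) (by norm_num)
      (by decide) (hP.symm ▸ Simple.facts4080 e) (Or.inl rfl)
  · exact false_of_solvable hcard 13 27 (by norm_num) (by norm_num) (by norm_num) (by norm_num)
      (by decide) (hP.symm ▸ (Simple.facts5616 e).1)
      (Or.inr ⟨by norm_num, by norm_num, 3, hP.symm ▸ (Simple.facts5616 e).2, by norm_num⟩)

/-- The group is simple. -/
theorem simple_of_graph (hS : ¬ IsMulCommutative S) (hlt : Nat.card S < 6000)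
    (hcard : Nat.card G = Nat.card S) (hP : Cfsg.degreePrimes G = Cfsg.degreePrimes S)
    (hA : Cfsg.degreeGraph G = Cfsg.degreeGraph S) : IsSimpleGroup G := by
  have hm : Nat.card S ∈ Nonsolvable.orders := Ord3640.card_mem_6000 hS hlt
  have hns : ¬ Group.IsSolvable G := fun h => solvable_excluded hm hcard hP
  obtain ⟨N, hN, T0, hT0, hle, hperf, hsimp, hncomm, hsm, hmul⟩ :=
    Nonsolvable.exists_section hns (hcard ▸ hm)
  set T := T0.map (QuotientGroup.mk' N) with hT
  haveI : T.Normal := hT0.map _ (QuotientGroup.mk'_surjective N)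
  have hdvd : Nat.card T ∣ Nat.card S :=
    hcard ▸ (Dvd.intro _ hmul).trans T0.card_subgroup_dvd_card
  by_cases hsn : Nat.card T = Nat.card S
  · have hN1 : Nat.card N = 1 := by
      have h1 := Nat.le_of_dvd Nat.card_pos T0.card_subgroup_dvd_card
      rw [← hmul, hcard, hsn] at h1
      have := Nat.card_pos (α := N)
      have := Nat.card_pos (α := S)
      nlinarith
    have hbot : N = ⊥ := Subgroup.card_eq_one.1 hN1
    have hinj : Function.Injective (QuotientGroup.mk' N) := by
      rw [← MonoidHom.ker_eq_bot_iff, QuotientGroup.ker_mk', hbot]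
    have htop : T = ⊤ := by
      refine Subgroup.eq_top_of_card_eq _ ?_
      rw [hsn, ← hcard]
      exact Nat.card_congr (Equiv.ofBijective _ ⟨hinj, QuotientGroup.mk'_surjective N⟩)
    let e : G ≃* T := (MulEquiv.ofBijective (QuotientGroup.mk' N)
      ⟨hinj, QuotientGroup.mk'_surjective N⟩).trans
      ((MulEquiv.subgroupCongr htop).trans Subgroup.topEquiv).symm
    haveI := hsimp
    haveI : Nontrivial G := e.toEquiv.nontrivial
    exact IsSimpleGroup.isSimpleGroup_of_surjective e.symm.toMonoidHom e.symm.surjective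
  exfalso
  haveI := hsimp
  have sm : ∀ k : ℕ, 0 < k → k < 70 → ∀ r d : ℕ, d ∣ k → d % r = 1 →
      (r = 5 ∧ (k = 3 ∨ k = 1)) ∨ (r = 7 ∧ (k = 6 ∨ k = 1)) ∨ (r = 11 ∧ k = 1) ∨
      (r = 19 ∧ k = 3) ∨ (r = 17 ∧ k = 4) → d = 1 := by
    intro k hk _ r d hd hmod hcase
    have := Nat.le_of_dvd hk hd
    rcases hcase with ⟨rfl, h | h⟩ | ⟨rfl, h | h⟩ | ⟨rfl, h⟩ | ⟨rfl, h⟩ | ⟨rfl, h⟩ <;> subst h <;> omega
  rcases Nonsolvable.orders_proper _ hm _ hsm hdvd hsn with
    ⟨e, es⟩ | ⟨e, es⟩ | ⟨e, es⟩ | ⟨e, es⟩ | ⟨e, es⟩ | ⟨e, es⟩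
  · obtain ⟨-, h25, h23⟩ := Simple.facts360 e
    exact ThreeSixty.false_of_sixty (hcard.trans e) N T0 hle hperf es
      (by rw [← hmul, es]) (hA.symm ▸ h25) (hA.symm ▸ h23)
  · obtain ⟨-, -, h23⟩ := Simple.facts504 e
    exact (hA.symm ▸ h23) (Basic.adj_of_section T0 ((QuotientGroup.mk' N).subgroupMap T0)
      (MonoidHom.subgroupMap_surjective _ _) (Simple.facts168 es).2.2)
  · exact Nonsolvable.false_of_prime (r := 11) (hcard.trans e) (by norm_num) (by norm_num) (by norm_num)
      (fun d h1 h2 => sm 1 one_pos (by norm_num) 11 d h1 h2 (by norm_num)) N T hncomm es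
      (by norm_num) (hP.symm ▸ Simple.facts660 e)
  · obtain ⟨h5, h7⟩ := Simple.facts2520 e
    rw [← hP] at h5 h7
    rcases es with es | es | es | es
    · exact Nonsolvable.false_of_prime (r := 7) (hcard.trans e) (by norm_num) (by norm_num) (by norm_num)
        (fun d h1 h2 => sm 6 (by norm_num) (by norm_num) 7 d h1 h2 (by norm_num)) N T hncomm es
        (by norm_num) h7
    · exact Nonsolvable.false_of_prime (r := 5) (hcard.trans e) (by norm_num) (by norm_num) (by norm_num)
        (fun d h1 h2 => sm 3 (by norm_num) (by norm_num) 5 d h1 h2 (by norm_num)) N T hncomm es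
        (by norm_num) h5
    · exact Nonsolvable.false_of_prime (r := 7) (hcard.trans e) (by norm_num) (by norm_num) (by norm_num)
        (fun d h1 h2 => sm 1 (by norm_num) (by norm_num) 7 d h1 h2 (by norm_num)) N T hncomm es
        (by norm_num) h7
    · exact Nonsolvable.false_of_prime (r := 5) (hcard.trans e) (by norm_num) (by norm_num) (by norm_num)
        (fun d h1 h2 => sm 1 (by norm_num) (by norm_num) 5 d h1 h2 (by norm_num)) N T hncomm es
        (by norm_num) h5
  · exact Nonsolvable.false_of_prime (r := 19) (hcard.trans e) (by norm_num) (by norm_num) (by norm_num)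
      (fun d h1 h2 => sm 3 (by norm_num) (by norm_num) 19 d h1 h2 (by norm_num)) N T hncomm es
      (by norm_num) (hP.symm ▸ Simple.facts3420 e)
  · exact Nonsolvable.false_of_prime (r := 17) (hcard.trans e) (by norm_num) (by norm_num) (by norm_num)
      (fun d h1 h2 => sm 4 (by norm_num) (by norm_num) 17 d h1 h2 (by norm_num)) N T hncomm es
      (by norm_num) (hP.symm ▸ Simple.facts4080 e)

/-- Order and degree graph determine the group. -/
theorem main (hS : ¬ IsMulCommutative S) (hlt : Nat.card S < 6000)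
    (hcard : Nat.card G = Nat.card S) (hP : Cfsg.degreePrimes G = Cfsg.degreePrimes S)
    (hA : Cfsg.degreeGraph G = Cfsg.degreeGraph S) : Nonempty (G ≃* S) := by
  haveI := simple_of_graph hS hlt hcard hP hA
  exact Simple.iso_of_card hS hlt hcard

end Cfsg.Agent.DegSix.Main
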