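import Cfsg.Agent.Lib.DegGraph.Small6000.Basic
import Cfsg.Agent.Lib.DegGraph.Small6000.Simple
import Cfsg.Agent.Lib.DegGraph.Small6000.Solvable
import Cfsg.Agent.Lib.Small.Orders3640.Main
import Mathlib.GroupTheory.Sylow
import Mathlib.GroupTheory.Solvable
import Mathlib.GroupTheory.Abelianization.Defs

/-!
Nonsolvable groups whose order is the order of a simple group below 6000.
-/

set_option autoImplicit false
set_option linter.unusedSectionVars false
set_option linter.style.haveILetI false

namespace Cfsg.Agent.DegSix.Nonsolvable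

open Subgroup
open scoped commutatorElement Pointwise

universe u

/-- The orders in question. -/
def orders : Finset ℕ := {60, 168, 360, 504, 660, 1092, 2448, 2520, 3420, 4080, 5616}

theorem orders_lt : ∀ n ∈ orders, n < 6000 ∧ 0 < n := by decide

theorem orders_sq : ∀ n ∈ orders, ∀ s ∈ orders, ¬ s * s ∣ n := by decide

theorem orders_proper : ∀ n ∈ orders, ∀ s ∈ orders, s ∣ n → s ≠ n →
    (n = 360 ∧ s = 60) ∨ (n = 504 ∧ s = 168) ∨ (n = 660 ∧ s = 60) ∨
    (n = 2520 ∧ (s = 60 ∨ s = 168 ∨ s = 360 ∨ s = 504)) ∨ (n = 3420 ∧ s = 60) ∨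
    (n = 4080 ∧ s = 60) := by decide

variable {G : Type u} [Group G] [Finite G]

/-- A perfect normal subgroup with a simple quotient. -/
theorem exists_section (hns : ¬ Group.IsSolvable G) (hn : Nat.card G ∈ orders) :
    ∃ (N : Subgroup G) (_ : N.Normal) (T0 : Subgroup G),
      T0.Normal ∧ N ≤ T0 ∧ ⁅T0, T0⁆ = T0 ∧
      IsSimpleGroup ↥(T0.map (QuotientGroup.mk' N)) ∧
      ¬ IsMulCommutative ↥(T0.map (QuotientGroup.mk' N)) ∧
      Nat.card ↥(T0.map (QuotientGroup.mk' N)) ∈ orders ∧
      Nat.card ↥(T0.map (QuotientGroup.mk' N)) * Nat.card N = Nat.card T0 := by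
  classical
  obtain ⟨-, ⟨k, rfl⟩, hmin⟩ := (wellFounded_lt (α := Subgroup G)).has_min
    (Set.range (derivedSeries G)) (Set.range_nonempty _)
  set T0 := derivedSeries G k with hT0
  haveI hT0n : T0.Normal := derivedSeries_normal G k
  have hperf : ⁅T0, T0⁆ = T0 := by
    refine le_antisymm (commutator_le_left T0 T0) ?_
    by_contra h
    exact hmin _ ⟨k + 1, derivedSeries_succ G k⟩
      (lt_of_le_not_ge (commutator_le_left T0 T0) h)
  have hT0ne : T0 ≠ ⊥ := fun h => hns ((Group.isSolvable_def G).2 ⟨k, h⟩)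
  haveI : Nontrivial T0 := (Subgroup.nontrivial_iff_ne_bot T0).2 hT0ne
  obtain ⟨K, ⟨hKn, hKt⟩, hmax⟩ := (wellFounded_gt (α := Subgroup T0)).has_min
    {K : Subgroup T0 | K.Normal ∧ K ≠ ⊤} ⟨⊥, inferInstance, bot_ne_top⟩
  haveI := hKn
  have hcomT : commutator T0 = ⊤ := by
    refine map_injective T0.subtype_injective ?_
    rw [commutator_def, map_commutator, ← MonoidHom.range_eq_map, Subgroup.range_subtype, hperf]
  haveI hsimple : IsSimpleGroup (T0 ⧸ K) := by
    haveI : Nontrivial (T0 ⧸ K) := by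
      refine Finite.one_lt_card_iff_nontrivial.1 ?_
      rw [← Subgroup.index_eq_card]
      exact lt_of_le_of_ne (Nat.pos_of_ne_zero Subgroup.index_ne_zero_of_finite)
        fun h => hKt (Subgroup.index_eq_one.1 h.symm)
    refine ⟨fun H hH => ?_⟩
    have hle : K ≤ H.comap (QuotientGroup.mk' K) := by
      intro a ha
      rw [mem_comap, show QuotientGroup.mk' K a = 1 from (QuotientGroup.eq_one_iff a).2 ha]
      exact one_mem H
    by_cases htop : H.comap (QuotientGroup.mk' K) = ⊤
    · right
      rw [← map_comap_eq_self_of_surjective (QuotientGroup.mk'_surjective K) H, htop,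
        map_top_of_surjective _ (QuotientGroup.mk'_surjective K)]
    · left
      have heq : H.comap (QuotientGroup.mk' K) = K := by
        by_contra hne
        exact hmax _ ⟨hH.comap _, htop⟩ (lt_of_le_of_ne hle (Ne.symm hne))
      rw [← map_comap_eq_self_of_surjective (QuotientGroup.mk'_surjective K) H, heq,
        QuotientGroup.map_mk'_self]
  have hncomm : ¬ IsMulCommutative (T0 ⧸ K) := by
    intro hc
    refine hKt (top_le_iff.1 ?_)
    rw [← hcomT, commutator_def, commutator_le]
    intro a _ b _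
    rw [← QuotientGroup.eq_one_iff, ← QuotientGroup.mk'_apply, map_commutatorElement]
    exact commutatorElement_eq_one_iff_mul_comm.2 (hc.is_comm.comm _ _)
  have hs : Nat.card (T0 ⧸ K) ∈ orders := by
    have h1 : Nat.card (T0 ⧸ K) < 6000 := by
      refine lt_of_le_of_lt ?_ (orders_lt _ hn).1
      exact (Nat.le_of_dvd Nat.card_pos K.card_quotient_dvd_card).trans
        (Nat.le_of_dvd Nat.card_pos T0.card_subgroup_dvd_card)
    exact Ord3640.card_mem_6000 hncomm h1
  -- invariance under the whole group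
  have hKinv : ∀ g : G, ∀ a ∈ K, MulAut.conjNormal g a ∈ K := by
    intro g a ha
    by_contra hmem
    set K' := K.map (MulAut.conjNormal g : MulAut T0).toMonoidHom with hK'
    haveI : K'.Normal := hKn.map _ (MulAut.conjNormal g : MulAut T0).surjective
    have hcard : Nat.card K' = Nat.card K :=
      card_map_of_injective (MulAut.conjNormal g : MulAut T0).injective
    have hidx : K'.index = K.index := by
      have h1 := K'.card_mul_index
      rw [hcard, ← K.card_mul_index] at h1
      exact mul_left_cancel₀ Nat.card_pos.ne' h1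
    have hsup : K ⊔ K' = ⊤ := by
      by_contra h
      have heq : K ⊔ K' = K := by
        by_contra hne
        exact hmax _ ⟨inferInstance, h⟩ (lt_of_le_of_ne le_sup_left (Ne.symm hne))
      exact hmem (heq ▸ mem_sup_right ⟨a, ha, rfl⟩)
    refine orders_sq _ hn _ hs ?_
    have h1 : (K' ⊓ K).index = K.index * K.index := by
      have h2 := relIndex_mul_index (inf_le_right : K' ⊓ K ≤ K)
      rw [inf_relIndex_right, ← relIndex_sup_right (K := K') (H := K), hsup, relIndex_top_right,
        hidx] at h2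
      exact h2.symm
    rw [← Subgroup.index_eq_card, ← h1]
    exact (Subgroup.index_dvd_card _).trans T0.card_subgroup_dvd_card
  set N := K.map T0.subtype with hNdef
  haveI hNn : N.Normal := by
    refine ⟨?_⟩
    rintro _ ⟨a, ha, rfl⟩ g
    exact ⟨_, hKinv g a ha, MulAut.conjNormal_apply g a⟩
  set φ := (QuotientGroup.mk' N).subgroupMap T0 with hφ
  have hker : φ.ker = K := by
    ext x
    rw [MonoidHom.mem_ker, ← Subtype.coe_inj, OneMemClass.coe_one]
    show QuotientGroup.mk' N (x : G) = 1 ↔ x ∈ K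
    rw [QuotientGroup.mk'_apply, QuotientGroup.eq_one_iff]
    exact ⟨fun ⟨a, ha, hax⟩ => T0.subtype_injective hax ▸ ha, fun h => ⟨x, h, rfl⟩⟩
  let e : T0 ⧸ K ≃* ↥(T0.map (QuotientGroup.mk' N)) :=
    (QuotientGroup.quotientMulEquivOfEq hker.symm).trans
      (QuotientGroup.quotientKerEquivOfSurjective φ (MonoidHom.subgroupMap_surjective _ _))
  haveI : Nontrivial ↥(T0.map (QuotientGroup.mk' N)) := e.toEquiv.symm.nontrivial
  refine ⟨N, hNn, T0, hT0n, map_subtype_le K, hperf,
    IsSimpleGroup.isSimpleGroup_of_surjective e.toMonoidHom e.surjective, fun hc => hncomm ?_, ?_, ?_⟩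
  · exact ⟨⟨fun a b => e.injective (by rw [map_mul, map_mul]; exact hc.is_comm.comm _ _)⟩⟩
  · rw [← Nat.card_congr e.toEquiv]; exact hs
  · rw [← Nat.card_congr e.toEquiv, hNdef, card_map_of_injective T0.subtype_injective,
      ← K.card_eq_card_quotient_mul_card_subgroup]

/-- The centraliser of an invariant subgroup contains a full prime part. -/
theorem pow_dvd_fixed {X : Type u} [Group X] [Finite X] {r : ℕ} (hr : r.Prime) {x : X}
    (hx : x ^ r = 1) (T : Subgroup X) [T.Normal] (hrT : ¬ r ∣ Nat.card T) (q a : ℕ) (hq : q.Prime)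
    (hd : q ^ a ∣ Nat.card T) (hnd : ¬ q ^ (a + 1) ∣ Nat.card T)
    (hi : ∀ i < a, ¬ r ∣ q ^ a - q ^ i) :
    q ^ a ∣ Nat.card ↥(T ⊓ centralizer ({x} : Set X)) := by
  haveI := Fact.mk hq
  haveI := Fact.mk hr
  letI : MulAction (zpowers x) (Sylow q T) :=
    MulAction.compHom (Sylow q T) ((MulAut.conjNormal (H := T)).comp (zpowers x).subtype)
  have hpg : IsPGroup r (zpowers x) := by
    rintro ⟨y, hy⟩
    obtain ⟨k, rfl⟩ := mem_zpowers_iff.1 hy
    refine ⟨1, Subtype.ext ?_⟩
    show (x ^ k) ^ r ^ 1 = 1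
    rw [pow_one, ← zpow_natCast (x ^ k) r, ← zpow_mul, mul_comm, zpow_mul, zpow_natCast, hx, one_zpow]
  obtain ⟨Q, hQ⟩ := hpg.nonempty_fixed_point_of_prime_not_dvd_card (Sylow q T) (by
    obtain ⟨Q₀⟩ : Nonempty (Sylow q T) := inferInstance
    exact fun h => hrT (h.trans (Q₀.card_dvd_index.trans (Subgroup.index_dvd_card _))))
  set M := (Q : Subgroup T).map T.subtype with hM
  have hMinv : ∀ m ∈ M, x * m * x⁻¹ ∈ M := by
    rintro _ ⟨m, hm, rfl⟩
    have h1 : (MulAut.conjNormal x : MulAut T) • Q = Q := hQ ⟨x, mem_zpowers x⟩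
    have h2 : (MulAut.conjNormal x : MulAut T) • m ∈
        (((MulAut.conjNormal x : MulAut T) • Q : Sylow q T) : Subgroup T) :=
      Subgroup.smul_mem_pointwise_smul _ _ _ hm
    rw [h1] at h2
    exact ⟨_, h2, MulAut.conjNormal_apply x m⟩
  have hMc : Nat.card M = q ^ a := by
    rw [hM, card_map_of_injective T.subtype_injective, Sylow.card_eq_multiplicity]
    congr 1
    have hT0 : Nat.card T ≠ 0 := Nat.card_pos.ne'
    rw [hq.pow_dvd_iff_le_factorization hT0] at hd hnd
    omega
  have hmod := Solvable.modEq_prime hr hx M hMinv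
  rw [hMc] at hmod
  obtain ⟨i, hia, hi'⟩ := (Nat.dvd_prime_pow hq).1
    (hMc ▸ card_dvd_of_le (inf_le_left : M ⊓ centralizer ({x} : Set X) ≤ M))
  rw [hi'] at hmod
  have hieq : i = a := by
    by_contra hne
    exact hi i (by omega) ((Nat.modEq_iff_dvd' (Nat.pow_le_pow_right hq.pos hia)).1 hmod.symm)
  rw [← hieq, ← hi']
  exact card_dvd_of_le (inf_le_inf_right _ (map_subtype_le _))

/-- No subgroup of order 45 in a simple group of order 360. -/
theorem no_fortyfive {T : Type u} [Group T] [Finite T] [IsSimpleGroup T] (hT : Nat.card T = 360)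
    (C : Subgroup T) : Nat.card C ≠ 45 := by
  intro hC
  haveI : Fact (Nat.Prime 5) := ⟨by norm_num⟩
  have hfac : ∀ m k : ℕ, m = 5 * k → ¬ 5 ∣ k → k ≠ 0 → 5 ^ m.factorization 5 = 5 := by
    intro m k hm hk hk0
    have h1 : m.factorization 5 = 1 := by
      rw [hm, Nat.factorization_mul (by norm_num) hk0]
      simp [(show Nat.Prime 5 by norm_num).factorization_self,
        Nat.factorization_eq_zero_of_not_dvd hk]
    rw [h1, pow_one]
  obtain ⟨Q⟩ : Nonempty (Sylow 5 C) := inferInstance
  have hQ : Nat.card Q = 5 := by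
    rw [Sylow.card_eq_multiplicity, hC]; exact hfac 45 9 rfl (by norm_num) (by norm_num)
  have hone : Nat.card (Sylow 5 C) = 1 := by
    have h1 := card_sylow_modEq_one 5 C
    have h2 : Nat.card (Sylow 5 C) ∣ 9 := by
      have h := (Q : Subgroup C).card_mul_index
      rw [hQ, hC] at h
      exact (show (Q : Subgroup C).index = 9 by omega) ▸ Q.card_dvd_index
    have h3 := Nat.le_of_dvd (by norm_num) h2
    unfold Nat.ModEq at h1
    interval_cases Nat.card (Sylow 5 C) <;> omega
  haveI : Subsingleton (Sylow 5 C) := (Nat.card_eq_one_iff_unique.1 hone).1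
  have hQn : (Q : Subgroup C).Normal := Q.normal_of_subsingleton
  let P : Sylow 5 T := Sylow.ofCard ((Q : Subgroup C).map C.subtype) (by
    rw [card_map_of_injective C.subtype_injective, hQ, hT]
    exact (hfac 360 72 rfl (by norm_num) (by norm_num)).symm)
  have hle : C ≤ normalizer ((P : Subgroup T) : Set T) := by
    have key : ∀ c ∈ C, ∀ b ∈ (Q : Subgroup C).map C.subtype,
        c * b * c⁻¹ ∈ (Q : Subgroup C).map C.subtype := by
      rintro c hc _ ⟨b, hb, rfl⟩
      exact ⟨_, hQn.conj_mem b hb ⟨c, hc⟩, rfl⟩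
    intro c hc
    refine mem_normalizer_iff.2 fun b => ⟨key c hc b, fun hb => ?_⟩
    have := key c⁻¹ (inv_mem hc) _ hb
    rw [show c⁻¹ * (c * b * c⁻¹) * c⁻¹⁻¹ = b by group] at this
    exact this
  have hn5 : Nat.card (Sylow 5 T) = 1 := by
    have h1 := card_sylow_modEq_one 5 T
    have hCi : C.index = 8 := by
      have h := C.card_mul_index
      rw [hC, hT] at h
      omega
    have h2 : Nat.card (Sylow 5 T) ∣ 8 := by
      rw [P.card_eq_index_normalizer, ← hCi]
      exact index_dvd_of_le hle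
    have h3 := Nat.le_of_dvd (by norm_num) h2
    unfold Nat.ModEq at h1
    interval_cases Nat.card (Sylow 5 T) <;> omega
  haveI : Subsingleton (Sylow 5 T) := (Nat.card_eq_one_iff_unique.1 hn5).1
  have hPc : Nat.card P = 5 := by
    rw [Sylow.card_eq_multiplicity, hT]; exact hfac 360 72 rfl (by norm_num) (by norm_num)
  rcases P.normal_of_subsingleton.eq_bot_or_eq_top with hb | ht
  · rw [hb, Subgroup.card_bot] at hPc; omega
  · rw [ht, Subgroup.card_top, hT] at hPc; omega

/-- An element of the given prime order centralises the normal simple subgroup. -/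
theorem centralises {X : Type u} [Group X] [Finite X] {r : ℕ} (hr : r.Prime) {x : X}
    (hx : x ^ r = 1) (T : Subgroup X) [T.Normal] [IsSimpleGroup T]
    (h : (Nat.card T = 60 ∧ (r = 7 ∨ r = 11 ∨ r = 17 ∨ r = 19)) ∨ (Nat.card T = 168 ∧ r = 5) ∨
      (Nat.card T = 504 ∧ r = 5) ∨ (Nat.card T = 360 ∧ r = 7)) :
    T ≤ centralizer ({x} : Set X) := by
  set c := Nat.card ↥(T ⊓ centralizer ({x} : Set X)) with hc
  have hrT : ¬ r ∣ Nat.card T := by
    rcases h with ⟨e, rfl | rfl | rfl | rfl⟩ | ⟨e, rfl⟩ | ⟨e, rfl⟩ | ⟨e, rfl⟩ <;> rw [e] <;>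
      norm_num
  have hcT : c ∣ Nat.card T := card_dvd_of_le inf_le_left
  suffices hall : c = Nat.card T by
    exact inf_eq_left.1 (Subgroup.eq_of_le_of_card_ge inf_le_left hall.ge)
  have part : ∀ q a, q.Prime → q ^ a ∣ Nat.card T → ¬ q ^ (a + 1) ∣ Nat.card T →
      (∀ i < a, ¬ r ∣ q ^ a - q ^ i) → q ^ a ∣ c := fun q a =>
    pow_dvd_fixed hr hx T hrT q a
  rcases h with ⟨e, he⟩ | ⟨e, rfl⟩ | ⟨e, rfl⟩ | ⟨e, rfl⟩ <;> rw [e] at part hcT ⊢
  · have h1 := part 2 2 Nat.prime_two (by norm_num) (by norm_num)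
      (by rcases he with rfl | rfl | rfl | rfl <;> decide)
    have h2 := part 3 1 Nat.prime_three (by norm_num) (by norm_num)
      (by rcases he with rfl | rfl | rfl | rfl <;> decide)
    have h3 := part 5 1 (by norm_num) (by norm_num) (by norm_num)
      (by rcases he with rfl | rfl | rfl | rfl <;> decide)
    have h4 := Nat.le_of_dvd (by norm_num) hcT
    have h5 : 0 < c := Nat.card_pos
    norm_num at h1 h2 h3
    omega
  · have h1 := part 2 3 Nat.prime_two (by norm_num) (by norm_num) (by decide)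
    have h2 := part 3 1 Nat.prime_three (by norm_num) (by norm_num) (by decide)
    have h3 := part 7 1 (by norm_num) (by norm_num) (by norm_num) (by decide)
    have h4 := Nat.le_of_dvd (by norm_num) hcT
    have h5 : 0 < c := Nat.card_pos
    norm_num at h1 h2 h3
    omega
  · have h1 := part 2 3 Nat.prime_two (by norm_num) (by norm_num) (by decide)
    have h2 := part 3 2 Nat.prime_three (by norm_num) (by norm_num) (by decide)
    have h3 := part 7 1 (by norm_num) (by norm_num) (by norm_num) (by decide)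
    have h4 := Nat.le_of_dvd (by norm_num) hcT
    have h5 : 0 < c := Nat.card_pos
    norm_num at h1 h2 h3
    omega
  · have h2 := part 3 2 Nat.prime_three (by norm_num) (by norm_num) (by decide)
    have h3 := part 5 1 (by norm_num) (by norm_num) (by norm_num) (by decide)
    have h4 := Nat.le_of_dvd (by norm_num) hcT
    have h5 : 0 < c := Nat.card_pos
    have hmod : Nat.card T ≡ c [MOD 7] :=
      Solvable.modEq_prime hr hx T fun m hm => (inferInstance : T.Normal).conj_mem m hm x
    rw [e] at hmod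
    unfold Nat.ModEq at hmod
    norm_num at h2 h3
    have h45 : c ≠ 45 := by
      intro hh
      refine no_fortyfive e ((T ⊓ centralizer ({x} : Set X)).subgroupOf T) ?_
      rw [Nat.card_congr (subgroupOfEquivOfLe inf_le_left).toEquiv, ← hc, hh]
    have h6 : ∀ k ≤ 8, 45 * k ∣ 360 → 360 % 7 = (45 * k) % 7 → k = 1 ∨ k = 8 := by decide
    obtain ⟨k, hk⟩ : 45 ∣ c := by omega
    rcases h6 k (by omega) (hk ▸ hcT) (hk ▸ hmod) with rfl | rfl <;> omega

/-- A prime outside a simple normal section gives a normal Sylow subgroup, excluded by Itô. -/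
theorem false_of_prime {n s r : ℕ} (hG : Nat.card G = n) (hr : r.Prime) (hrn : r ∣ n)
    (hr2 : ¬ r ^ 2 ∣ n) (hdiv : ∀ d, d ∣ n / s / r → d % r = 1 → d = 1)
    (N : Subgroup G) [N.Normal] (T : Subgroup (G ⧸ N)) [T.Normal] [IsSimpleGroup T]
    (hT : ¬ IsMulCommutative T) (hs : Nat.card T = s)
    (h : (s = 60 ∧ (r = 7 ∨ r = 11 ∨ r = 17 ∨ r = 19)) ∨ (s = 168 ∧ r = 5) ∨
      (s = 504 ∧ r = 5) ∨ (s = 360 ∧ r = 7)) :
    r ∉ Cfsg.degreePrimes G := by
  classical
  haveI := Fact.mk hr
  subst hs
  set π := QuotientGroup.mk' N with hπ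
  have hπs : Function.Surjective π := QuotientGroup.mk'_surjective N
  set C := centralizer (T : Set (G ⧸ N)) with hCdef
  haveI hCn : C.Normal := Subgroup.normal_centralizer
  set R := C.comap π with hR
  haveI : R.Normal := hCn.comap π
  have hCT : Nat.card T ∣ C.index := by
    have hbot : C.subgroupOf T = ⊥ := by
      have hn : (C.subgroupOf T).Normal := inferInstance
      refine hn.eq_bot_or_eq_top.resolve_right fun ht => hT ⟨⟨fun a b => Subtype.ext ?_⟩⟩
      have ha : (a : G ⧸ N) ∈ C := mem_subgroupOf.1 (ht ▸ mem_top a)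
      exact (mem_centralizer_iff.1 ha b b.2).symm
    have h1 : C.relIndex T = Nat.card T := by
      rw [relIndex, hbot, Subgroup.index_bot]
    rw [← h1]
    exact relIndex_dvd_index_of_normal C T
  have hRidx : R.index = C.index := index_comap_of_surjective _ hπs
  have hRn : Nat.card R * Nat.card T ∣ n := by
    rw [← hG, ← R.card_mul_index, hRidx]
    exact mul_dvd_mul_left _ hCT
  have hrR : r ∣ Nat.card R := by
    by_cases hrN : r ∣ Nat.card N
    · refine hrN.trans (card_dvd_of_le ?_)
      intro a ha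
      rw [hR, mem_comap, hπ, QuotientGroup.mk'_apply, (QuotientGroup.eq_one_iff a).2 ha]
      exact one_mem _
    · have hrq : r ∣ Nat.card (G ⧸ N) := by
        have h1 := N.card_eq_card_quotient_mul_card_subgroup
        rw [hG] at h1
        exact (hr.dvd_mul.1 (h1 ▸ hrn)).resolve_right hrN
      obtain ⟨x, hx⟩ := exists_prime_orderOf_dvd_card' r hrq
      have hxC : x ∈ C := by
        have hle := centralises hr (hx ▸ pow_orderOf_eq_one x) T h
        exact mem_centralizer_iff.2 fun t ht => mem_centralizer_singleton_iff.1 (hle ht)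
      obtain ⟨g, rfl⟩ := hπs x
      have hgR : g ∈ R := hxC
      exact (hx ▸ orderOf_map_dvd π g).trans (Subgroup.orderOf_dvd_natCard R hgR)
  obtain ⟨P⟩ : Nonempty (Sylow r R) := inferInstance
  have hPc : Nat.card P = r := by
    rw [Sylow.card_eq_multiplicity]
    have h0 : Nat.card R ≠ 0 := Nat.card_pos.ne'
    have h1 : (Nat.card R).factorization r = 1 := by
      refine le_antisymm ?_ ((hr.dvd_iff_one_le_factorization h0).1 hrR)
      by_contra hh
      exact hr2 (((hr.pow_dvd_iff_le_factorization h0).2 (by omega)).trans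
        (hG ▸ R.card_subgroup_dvd_card))
    rw [h1, pow_one]
  have hone : Nat.card (Sylow r R) = 1 := by
    refine hdiv _ (P.card_dvd_index.trans ?_) ?_
    · refine Nat.dvd_div_of_mul_dvd (Nat.dvd_div_of_mul_dvd ?_)
      have h1 := (P : Subgroup R).card_mul_index
      rw [hPc] at h1
      rw [h1, mul_comm]
      exact hRn
    · have h1 := card_sylow_modEq_one r R
      unfold Nat.ModEq at h1
      rwa [Nat.mod_eq_of_lt hr.one_lt] at h1
  haveI : Subsingleton (Sylow r R) := (Nat.card_eq_one_iff_unique.1 hone).1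
  haveI : (P : Subgroup R).Characteristic := Sylow.characteristic_of_subsingleton P
  set A := (P : Subgroup R).map R.subtype with hA
  have hAc : Nat.card A = r := by rw [hA, card_map_of_injective R.subtype_injective, hPc]
  haveI : IsCyclic A := isCyclic_of_prime_card hAc
  haveI : A.Normal := ConjAct.normal_of_characteristic_of_normal
  refine Basic.not_mem_degreePrimes A IsCyclic.commutative fun hd => hr2 ?_
  have h1 := A.card_mul_index
  rw [hAc, hG] at h1
  rw [← h1, pow_two]
  exact mul_dvd_mul_left r hd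

end Cfsg.Agent.DegSix.Nonsolvable
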